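import Groth.Agent.GrpdQ.Main
import Groth.Agent.GrpdSep.Restrict
import Groth.Agent.GrpdSep.GeomIrred
import Mathlib.AlgebraicGeometry.Morphisms.Integral
import Mathlib.AlgebraicGeometry.Morphisms.UniversallyOpen

/-!
# Quotients of finite locally free groupoids on affine schemes, in the category of schemes

Functoriality of `Spec` of the invariants, restriction to invariant opens, and the universal property
of `G.toQuot` among morphisms to arbitrary schemes.
-/

set_option autoImplicit false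
set_option linter.style.haveILetI false
set_option backward.isDefEq.respectTransparency false

universe u

open CategoryTheory CategoryTheory.Limits AlgebraicGeometry Grpd

namespace Groth.Agent.GrpdQ

variable {S : Scheme.{u}}

/-! ### Functoriality -/

section qmap

variable {G G' : GroupoidScheme S} (φ : G.U ⟶ G'.U) (ψ : G.R ⟶ G'.R)
  (hs : G.s ≫ φ = ψ ≫ G'.s) (ht : G.t ≫ φ = ψ ≫ G'.t)

/-- The map on invariants induced by a morphism of groupoids. -/
noncomputable def invMap : G'.invariants →+* G.invariants :=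
  (φ.appTop.hom.comp G'.invariants.subtype).codRestrict G.invariants fun a => by
    change G.s.appTop.hom (φ.appTop.hom a.1) = G.t.appTop.hom (φ.appTop.hom a.1)
    rw [← RingHom.comp_apply, ← CommRingCat.hom_comp, ← Scheme.Hom.comp_appTop, hs,
      ← RingHom.comp_apply G.t.appTop.hom, ← CommRingCat.hom_comp, ← Scheme.Hom.comp_appTop, ht,
      Scheme.Hom.comp_appTop, Scheme.Hom.comp_appTop]
    exact congrArg ψ.appTop.hom a.2

/-- The map of quotients induced by a morphism of groupoids. -/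
noncomputable def qmap : Spec (CommRingCat.of G.invariants) ⟶ Spec (CommRingCat.of G'.invariants) :=
  Spec.map (CommRingCat.ofHom (invMap φ ψ hs ht))

theorem toQuot_qmap : G.toQuot ≫ qmap φ ψ hs ht = φ ≫ G'.toQuot := by
  rw [qmap, GroupoidScheme.toQuot, GroupoidScheme.toQuot, Category.assoc, ← Spec.map_comp,
    ← Category.assoc φ, Scheme.toSpecΓ_naturality, Category.assoc, ← Spec.map_comp]
  rfl

theorem qmap_preimage_basicOpen (f : G'.invariants) :
    qmap φ ψ hs ht ⁻¹ᵁ PrimeSpectrum.basicOpen f = PrimeSpectrum.basicOpen (invMap φ ψ hs ht f) := rfl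

end qmap

/-! ### Away from an invariant function -/

section localization

theorem exists_mul_pow_eq {X Y : Scheme.{u}} [IsAffine X] [IsAffine Y] (φ : X ⟶ Y) [IsOpenImmersion φ]
    (f : Γ(Y, ⊤)) (hr : φ.opensRange = Y.basicOpen f) :
    (∀ x : Γ(X, ⊤), ∃ (n : ℕ) (a : Γ(Y, ⊤)), x * φ.appTop.hom f ^ n = φ.appTop.hom a) ∧
    (∀ a : Γ(Y, ⊤), φ.appTop.hom a = 0 → ∃ n : ℕ, f ^ n * a = 0) ∧ IsUnit (φ.appTop.hom f) := by
  have he : φ ''ᵁ ⊤ = Y.basicOpen f := by rw [← hr]; exact φ.image_top_eq_opensRange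
  let i : φ ''ᵁ ⊤ ⟶ ⊤ := homOfLE le_top
  letI := (Y.presheaf.map i.op).hom.toAlgebra
  haveI : IsLocalization.Away f Γ(Y, φ ''ᵁ ⊤) := (isAffineOpen_top Y).isLocalization_of_eq_basicOpen f i he
  have key : ∀ a : Γ(Y, ⊤), (φ.appIso ⊤).hom.hom (algebraMap _ Γ(Y, φ ''ᵁ ⊤) a) = φ.appTop.hom a := fun a => by
    rw [RingHom.algebraMap_toAlgebra, ← RingHom.comp_apply, ← CommRingCat.hom_comp, φ.appIso_hom',
      Scheme.Hom.map_appLE, Scheme.Hom.appLE, ← Scheme.Hom.appTop]
    simp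
  have hbij := ConcreteCategory.bijective_of_isIso (φ.appIso ⊤).hom
  refine ⟨fun x => ?_, fun a ha => ?_, ?_⟩
  · obtain ⟨y, rfl⟩ := hbij.2 x
    obtain ⟨n, a, ha⟩ := IsLocalization.Away.surj f y
    exact ⟨n, a, by rw [← key, ← key, ← map_pow, ← map_mul, ha]⟩
  · have : algebraMap Γ(Y, ⊤) Γ(Y, φ ''ᵁ ⊤) a = algebraMap Γ(Y, ⊤) Γ(Y, φ ''ᵁ ⊤) 0 :=
      hbij.1 (by rw [key, ha, map_zero]; exact (map_zero _).symm)
    obtain ⟨n, hn⟩ := IsLocalization.Away.exists_of_eq f this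
    exact ⟨n, by rw [hn, mul_zero]⟩
  · rw [← key]
    exact (IsLocalization.Away.algebraMap_isUnit f).map _

variable {G G' : GroupoidScheme S} [IsAffine G.U] [IsAffine G.R] [IsAffine G'.U] [IsAffine G'.R]
  (φ : G.U ⟶ G'.U) (ψ : G.R ⟶ G'.R) (hs : G.s ≫ φ = ψ ≫ G'.s) (ht : G.t ≫ φ = ψ ≫ G'.t)

/-- Invariants commute with inverting an invariant function. -/
theorem isOpenImmersion_qmap [IsOpenImmersion φ] (hpb : IsPullback ψ G.s G'.s φ) (f : G'.invariants)
    (hf : φ.opensRange = G'.U.basicOpen f.1) :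
    IsOpenImmersion (qmap φ ψ hs ht) ∧ Set.range (qmap φ ψ hs ht) =
      ((PrimeSpectrum.basicOpen f : TopologicalSpace.Opens (PrimeSpectrum G'.invariants)) : Set (PrimeSpectrum G'.invariants)) := by
  obtain ⟨hsurj, hker, hunit⟩ := exists_mul_pow_eq φ f.1 hf
  haveI : IsOpenImmersion ψ := MorphismProperty.of_isPullback (P := @IsOpenImmersion) hpb.flip ‹_›
  have hψ : ψ.opensRange = G'.R.basicOpen (G'.s.appTop.hom f.1) := by
    rw [← Scheme.preimage_basicOpen_top, ← hf]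
    ext r
    simp only [Scheme.Hom.coe_opensRange, Scheme.Hom.coe_preimage, Set.mem_preimage, Set.mem_range]
    constructor
    · rintro ⟨x, rfl⟩
      exact ⟨G.s x, by rw [← Scheme.Hom.comp_apply, ← Scheme.Hom.comp_apply, hs]⟩
    · rintro ⟨y, hy⟩
      obtain ⟨x, hx, -⟩ := Scheme.exists_preimage_of_isPullback hpb r y hy.symm
      exact ⟨x, hx⟩
  letI := (invMap φ ψ hs ht).toAlgebra
  haveI : IsLocalization.Away f G.invariants := by
    refine IsLocalization.Away.mk _ ?_ (fun x => ?_) (fun a b hab => ?_)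
    · obtain ⟨v, hv⟩ := hunit.exists_left_inv
      refine IsUnit.of_mul_eq_one ⟨v, ?_⟩ (Subtype.ext ((mul_comm _ _).trans hv))
      have e : G.s.appTop.hom (φ.appTop.hom f.1) = G.t.appTop.hom (φ.appTop.hom f.1) := (invMap φ ψ hs ht f).2
      refine (hunit.map G.s.appTop.hom).mul_right_cancel ?_
      conv_rhs => rw [e]
      rw [← map_mul, ← map_mul, hv, map_one, map_one]
    · obtain ⟨n, a, ha⟩ := hsurj x.1
      obtain ⟨-, hker', -⟩ := exists_mul_pow_eq ψ _ hψ
      have hcomm : ∀ z, ψ.appTop.hom (G'.s.appTop.hom z) = G.s.appTop.hom (φ.appTop.hom z) ∧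
          ψ.appTop.hom (G'.t.appTop.hom z) = G.t.appTop.hom (φ.appTop.hom z) := fun z => by
        simp only [← RingHom.comp_apply, ← CommRingCat.hom_comp, ← Scheme.Hom.comp_appTop, hs, ht, and_self]
      obtain ⟨m, hm⟩ := hker' (G'.s.appTop.hom a - G'.t.appTop.hom a) (by
        rw [map_sub, (hcomm a).1, (hcomm a).2, ← ha, map_mul, map_mul, map_pow, map_pow,
          show G.s.appTop.hom x.1 = G.t.appTop.hom x.1 from x.2,
          show G.s.appTop.hom (φ.appTop.hom f.1) = G.t.appTop.hom (φ.appTop.hom f.1) from (invMap φ ψ hs ht f).2,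
          sub_self])
      refine ⟨n + m, ⟨f.1 ^ m * a, ?_⟩, Subtype.ext ?_⟩
      · change G'.s.appTop.hom _ = G'.t.appTop.hom _
        rw [map_mul, map_mul, map_pow, map_pow, show G'.t.appTop.hom f.1 = G'.s.appTop.hom f.1 from f.2.symm]
        rw [mul_sub, sub_eq_zero] at hm
        exact hm
      · change x.1 * φ.appTop.hom f.1 ^ (n + m) = φ.appTop.hom (f.1 ^ m * a)
        rw [map_mul, map_pow, ← ha]; ring
    · have h0 : φ.appTop.hom (a.1 - b.1) = 0 := by
        rw [map_sub, sub_eq_zero]; exact congrArg Subtype.val hab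
      obtain ⟨n, hn⟩ := hker _ h0
      exact ⟨n, Subtype.ext (by simpa [mul_sub, sub_eq_zero] using hn)⟩
  exact ⟨IsOpenImmersion.of_isLocalization (S := G.invariants) f, PrimeSpectrum.localization_away_comap_range G.invariants f⟩

end localization

/-! ### Restriction to invariant opens -/

section restrict

variable (G : GroupoidScheme S) (V : G.U.Opens)

/-- `V` is invariant. -/
def IsInvariant : Prop := G.s ⁻¹ᵁ V = G.t ⁻¹ᵁ V

variable {G V}

theorem IsInvariant.mem_iff (hV : IsInvariant G V) (r : G.R) : G.s r ∈ V ↔ G.t r ∈ V :=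
  (Set.ext_iff.1 (congrArg SetLike.coe hV) r)

theorem isPullback_resArr (hV : IsInvariant G V) :
    IsPullback (GrpdSep.resArr G V.ι) (GrpdSep.resS G V.ι) G.s V.ι := by
  have hw := GrpdSep.resArr_s G V.ι
  have key : ∀ {T : Scheme.{u}} (r : T ⟶ G.R) (b : T ⟶ V), r ≫ G.s = b ≫ V.ι →
      Set.range (r ≫ G.t) ⊆ Set.range V.ι := by
    rintro T r b h _ ⟨x, rfl⟩
    have hs : G.s (r x) ∈ V := by
      rw [← Scheme.Hom.comp_apply, h, Scheme.Hom.comp_apply]; exact (b x).2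
    rw [Scheme.Opens.range_ι, Scheme.Hom.comp_apply]
    exact (hV.mem_iff _).1 hs
  refine ⟨⟨hw⟩, ⟨PullbackCone.IsLimit.mk hw (fun c => GrpdSep.resMk G V.ι
    (IsOpenImmersion.lift V.ι (c.fst ≫ G.t) (key c.fst c.snd c.condition)) c.fst c.snd
    (IsOpenImmersion.lift_fac _ _ _) c.condition) (fun c => GrpdSep.resMk_arr _ _ _ _ _ _ _)
    (fun c => GrpdSep.resMk_s _ _ _ _ _ _ _) (fun c m h₁ h₂ => ?_)⟩⟩
  refine GrpdSep.res_ext G V.ι ?_ (h₁.trans (GrpdSep.resMk_arr _ _ _ _ _ _ _).symm)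
    (h₂.trans (GrpdSep.resMk_s _ _ _ _ _ _ _).symm)
  rw [GrpdSep.resMk_t, ← cancel_mono V.ι, IsOpenImmersion.lift_fac, Category.assoc, ← GrpdSep.resArr_t,
    ← Category.assoc, h₁]

variable (G) in
theorem finLocFree_t [IsFinite G.s] [Flat G.s] [LocallyOfFinitePresentation G.s] :
    IsFinite G.t ∧ Flat G.t ∧ LocallyOfFinitePresentation G.t := by
  rw [← G.i_s]
  exact ⟨inferInstance, inferInstance, inferInstance⟩

variable (G V) in
/-- The restriction to an open. -/
noncomputable abbrev resOpen : GroupoidScheme S := GrpdSep.restrict G V.ι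

theorem mono_j_resOpen [Mono G.j] (hV : IsInvariant G V) : Mono (resOpen G V).j := by
  refine ⟨fun {T} α β h => ?_⟩
  have h₁ : α ≫ GrpdSep.resT G V.ι = β ≫ GrpdSep.resT G V.ι := by
    have := congr($h ≫ pullback.fst _ _)
    simp only [GroupoidScheme.j, Category.assoc, pullback.lift_fst] at this
    exact this
  have h₂ : α ≫ GrpdSep.resS G V.ι = β ≫ GrpdSep.resS G V.ι := by
    have := congr($h ≫ pullback.snd _ _)
    simp only [GroupoidScheme.j, Category.assoc, pullback.lift_snd] at this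
    exact this
  refine GrpdSep.res_ext G V.ι h₁ ?_ h₂
  rw [← cancel_mono G.j]
  apply pullback.hom_ext
  · simp only [GroupoidScheme.j, Category.assoc, pullback.lift_fst]
    exact (congrArg (α ≫ ·) (GrpdSep.resArr_t G V.ι)).trans (((congrArg (· ≫ V.ι) h₁) |> fun e => (Category.assoc _ _ _).symm.trans (e.trans (Category.assoc _ _ _))).trans
      (congrArg (β ≫ ·) (GrpdSep.resArr_t G V.ι).symm)) |> fun e => by simpa only [Category.assoc] using e
  · simp only [GroupoidScheme.j, Category.assoc, pullback.lift_snd]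
    exact (congrArg (α ≫ ·) (GrpdSep.resArr_s G V.ι)).trans (((congrArg (· ≫ V.ι) h₂) |> fun e => (Category.assoc _ _ _).symm.trans (e.trans (Category.assoc _ _ _))).trans
      (congrArg (β ≫ ·) (GrpdSep.resArr_s G V.ι).symm)) |> fun e => by simpa only [Category.assoc] using e

end restrict

section resProps

variable (G : GroupoidScheme S) {V : G.U.Opens}

theorem resOpen_finLocFree (hV : IsInvariant G V) [IsFinite G.s] [Flat G.s] [LocallyOfFinitePresentation G.s] :
    IsFinite (resOpen G V).s ∧ Flat (resOpen G V).s ∧ LocallyOfFinitePresentation (resOpen G V).s :=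
  ⟨MorphismProperty.of_isPullback (P := @IsFinite) (isPullback_resArr hV) ‹_›,
    MorphismProperty.of_isPullback (P := @Flat) (isPullback_resArr hV) ‹_›,
    MorphismProperty.of_isPullback (P := @LocallyOfFinitePresentation) (isPullback_resArr hV) ‹_›⟩

theorem resOpen_isAffine (hV : IsInvariant G V) [IsFinite G.s] [Flat G.s] [LocallyOfFinitePresentation G.s]
    (hA : IsAffineOpen V) : IsAffine (resOpen G V).U ∧ IsAffine (resOpen G V).R := by
  haveI : IsAffine (resOpen G V).U := hA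
  haveI := (resOpen_finLocFree G hV).1
  exact ⟨inferInstance, isAffine_of_isAffineHom (resOpen G V).s⟩

end resProps

/-! ### The universal property of `toQuot` -/

/-- Two maps into an affine open which agree after a schematically dominant map. -/
theorem eq_of_injective_appTop {U' M' M Z : Scheme.{u}} (q : U' ⟶ M') (hq : Function.Injective q.appTop) (a : M' ⟶ M)
    (h₁ h₂ : M ⟶ Z) (hb : ∀ y, h₁ y = h₂ y) (Z₀ : Z.Opens) (hZ₀ : IsAffineOpen Z₀) (ha : ∀ x, h₁ (a x) ∈ Z₀)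
    (he : q ≫ a ≫ h₁ = q ≫ a ≫ h₂) : a ≫ h₁ = a ≫ h₂ := by
  haveI : IsAffine Z₀ := hZ₀
  have r1 : Set.range (a ≫ h₁) ⊆ Set.range Z₀.ι := by
    rintro _ ⟨x, rfl⟩
    rw [Scheme.Opens.range_ι, Scheme.Hom.comp_apply]
    exact ha x
  have r2 : Set.range (a ≫ h₂) ⊆ Set.range Z₀.ι := by
    rintro _ ⟨x, rfl⟩
    rw [Scheme.Opens.range_ι, Scheme.Hom.comp_apply, ← hb]
    exact ha x
  rw [← IsOpenImmersion.lift_fac Z₀.ι _ r1, ← IsOpenImmersion.lift_fac Z₀.ι _ r2]
  congr 1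
  refine ext_of_isAffine (ConcreteCategory.hom_ext _ _ fun c => hq ?_)
  rw [← CommRingCat.comp_apply, ← CommRingCat.comp_apply, ← Scheme.Hom.comp_appTop, ← Scheme.Hom.comp_appTop]
  congr 3
  rw [← cancel_mono Z₀.ι, Category.assoc, Category.assoc, IsOpenImmersion.lift_fac, IsOpenImmersion.lift_fac, he]

/-- Invariant maps into an affine open factor through `toQuot`. -/
theorem exists_desc_affine (G : GroupoidScheme S) {Z : Scheme.{u}} (g : G.U ⟶ Z) (hg : G.t ≫ g = G.s ≫ g)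
    (Z₀ : Z.Opens) (hZ₀ : IsAffineOpen Z₀) (hr : ∀ x, g x ∈ Z₀) :
    ∃ h : Spec (CommRingCat.of G.invariants) ⟶ Z, G.toQuot ≫ h = g := by
  haveI : IsAffine Z₀ := hZ₀
  obtain ⟨g', hgf⟩ : ∃ g' : G.U ⟶ Z₀, g' ≫ Z₀.ι = g :=
    ⟨IsOpenImmersion.lift Z₀.ι g (by rintro _ ⟨x, rfl⟩; rw [Scheme.Opens.range_ι]; exact hr x),
      IsOpenImmersion.lift_fac _ _ _⟩
  have hinv : G.s ≫ g' = G.t ≫ g' := by
    rw [← cancel_mono Z₀.ι, Category.assoc, Category.assoc, hgf, hg]
  have hmem : ∀ c : Γ(Z₀, ⊤), g'.appTop.hom c ∈ G.invariants := fun c => by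
    change G.s.appTop.hom (g'.appTop.hom c) = G.t.appTop.hom (g'.appTop.hom c)
    rw [← RingHom.comp_apply, ← CommRingCat.hom_comp, ← Scheme.Hom.comp_appTop, hinv, Scheme.Hom.comp_appTop,
      CommRingCat.hom_comp, RingHom.comp_apply]
  refine ⟨Spec.map (CommRingCat.ofHom (g'.appTop.hom.codRestrict _ hmem)) ≫ (Z₀ : Scheme).isoSpec.inv ≫ Z₀.ι, ?_⟩
  rw [GroupoidScheme.toQuot, Category.assoc, ← Spec.map_comp_assoc, ← hgf]
  change _ ≫ Spec.map g'.appTop ≫ _ = _
  rw [← Scheme.toSpecΓ_naturality_assoc, ← Scheme.isoSpec_hom, Iso.hom_inv_id_assoc]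

section universal

variable (G : GroupoidScheme S) [IsAffine G.U] [IsAffine G.R] [IsFinite G.s] [Flat G.s]
  [LocallyOfFinitePresentation G.s]

theorem toQuot_preimage_basicOpen (f : G.invariants) :
    G.toQuot ⁻¹ᵁ (PrimeSpectrum.basicOpen f) = G.U.basicOpen f.1 := by
  rw [GroupoidScheme.toQuot, Scheme.Hom.comp_preimage]
  exact Scheme.toSpecΓ_preimage_basicOpen G.U f.1

theorem isInvariant_basicOpen (f : G.invariants) : IsInvariant G (G.U.basicOpen f.1) := by
  rw [IsInvariant, Scheme.preimage_basicOpen_top, Scheme.preimage_basicOpen_top]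
  exact congrArg G.R.basicOpen f.2

theorem isIntegralHom_toQuot : IsIntegralHom G.toQuot := by
  obtain ⟨n, ⟨F⟩⟩ := exists_frame G
  haveI := isIntegral_invariants F
  rw [show G.toQuot = G.U.isoSpec.hom ≫ Spec.map (CommRingCat.ofHom G.invariants.subtype) from rfl,
    MorphismProperty.cancel_left_of_respectsIso @IsIntegralHom, IsIntegralHom.SpecMap_iff]
  exact algebraMap_isIntegral_iff.mpr (isIntegral_invariants F)

theorem toQuot_surjective : Function.Surjective G.toQuot := by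
  obtain ⟨n, ⟨F⟩⟩ := exists_frame G
  exact surjective_toQuot F

theorem toQuot_eq_iff (u₀ u₁ : G.U) : G.toQuot u₀ = G.toQuot u₁ ↔ ∃ r : G.R, G.t r = u₀ ∧ G.s r = u₁ := by
  obtain ⟨n, ⟨F⟩⟩ := exists_frame G
  exact fibre_iff F (HasAffineProperty.iff_of_isAffine.1 (‹_› : IsFinite G.s)).2 u₀ u₁

/-- Points with values in an algebraically closed field. -/
theorem toQuot_pt_eq_iff {k : Type u} [Field k] [IsAlgClosed k] (x₀ x₁ : Spec (CommRingCat.of k) ⟶ G.U) :
    x₀ ≫ G.toQuot = x₁ ≫ G.toQuot ↔ ∃ r : Spec (CommRingCat.of k) ⟶ G.R, r ≫ G.t = x₀ ∧ r ≫ G.s = x₁ := by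
  obtain ⟨n, ⟨F⟩⟩ := exists_frame G
  exact arrow_iff F (HasAffineProperty.iff_of_isAffine.1 (‹_› : IsFinite G.s)).2 x₀ x₁

/-- An invariant basic open inside a given neighbourhood of a fibre. -/
theorem exists_basicOpen (O : G.U.Opens) (y : Spec (CommRingCat.of G.invariants))
    (hy : ∀ u, G.toQuot u = y → u ∈ O) :
    ∃ f : G.invariants, y ∈ PrimeSpectrum.basicOpen f ∧ G.U.basicOpen f.1 ≤ O := by
  haveI := isIntegralHom_toQuot G
  have hcl : IsClosed (G.toQuot '' (O : Set G.U)ᶜ) := G.toQuot.isClosedMap _ O.2.isClosed_compl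
  obtain ⟨_, ⟨f, rfl⟩, hyf, hf⟩ := PrimeSpectrum.isTopologicalBasis_basic_opens.exists_subset_of_mem_open
    (show y ∈ (G.toQuot '' (O : Set G.U)ᶜ)ᶜ by rintro ⟨u, hu, rfl⟩; exact hu (hy u rfl)) hcl.isOpen_compl
  refine ⟨f, hyf, fun u hu => ?_⟩
  by_contra h
  rw [← toQuot_preimage_basicOpen] at hu
  exact hf hu ⟨u, h, rfl⟩

/-- The map from the quotient of the restriction to the basic open of an invariant. -/
noncomputable def awayMap (f : G.invariants) :
    Spec (CommRingCat.of (resOpen G (G.U.basicOpen f.1)).invariants) ⟶ Spec (CommRingCat.of G.invariants) :=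
  qmap (G := resOpen G (G.U.basicOpen f.1)) (G.U.basicOpen f.1).ι (GrpdSep.resArr G _)
    (GrpdSep.resArr_s G _).symm (GrpdSep.resArr_t G _).symm

theorem toQuot_awayMap (f : G.invariants) :
    (resOpen G (G.U.basicOpen f.1)).toQuot ≫ awayMap G f = (G.U.basicOpen f.1).ι ≫ G.toQuot :=
  toQuot_qmap _ _ _ _

theorem isOpenImmersion_awayMap (f : G.invariants) :
    IsOpenImmersion (awayMap G f) ∧ Set.range (awayMap G f) =
      ((PrimeSpectrum.basicOpen f : TopologicalSpace.Opens (PrimeSpectrum G.invariants)) : Set (PrimeSpectrum G.invariants)) := by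
  obtain ⟨h1, h2⟩ := resOpen_isAffine G (isInvariant_basicOpen G f) ((isAffineOpen_top G.U).basicOpen _)
  haveI := h1; haveI := h2
  haveI : IsOpenImmersion (G.U.basicOpen f.1).ι := inferInstance
  exact @isOpenImmersion_qmap _ (resOpen G (G.U.basicOpen f.1)) G h1 h2 _ _ (G.U.basicOpen f.1).ι
    (GrpdSep.resArr G _) (GrpdSep.resArr_s G _).symm (GrpdSep.resArr_t G _).symm ‹_›
    (isPullback_resArr (isInvariant_basicOpen G f)) f (Scheme.Opens.opensRange_ι _)

attribute [irreducible] awayMap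

omit [IsAffine G.U] [IsAffine G.R] [IsFinite G.s] [Flat G.s] [LocallyOfFinitePresentation G.s] in
theorem injective_toQuot_appTop : Function.Injective G.toQuot.appTop := by
  intro a b h
  apply (ConcreteCategory.bijective_of_isIso (Scheme.ΓSpecIso (CommRingCat.of G.invariants)).hom).1
  apply Subtype.ext
  have e : ∀ c, G.toQuot.appTop c = ((Scheme.ΓSpecIso (CommRingCat.of G.invariants)).hom c).1 := fun c => by
    simp [GroupoidScheme.toQuot]
  rw [← e, ← e, h]

/-- The restriction of the quotient situation to the basic open of an invariant, as abstract data. -/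
theorem exists_away (f : G.invariants) :
    ∃ (U' M' : Scheme.{u}) (q : U' ⟶ M') (a : U' ⟶ G.U) (w : M' ⟶ Spec (CommRingCat.of G.invariants)),
      IsOpenImmersion w ∧
      Set.range w = ((PrimeSpectrum.basicOpen f : TopologicalSpace.Opens (PrimeSpectrum G.invariants)) : Set (PrimeSpectrum G.invariants)) ∧
      IsOpenImmersion a ∧ Set.range a = (G.U.basicOpen f.1 : Set G.U) ∧ q ≫ w = a ≫ G.toQuot ∧
      Function.Injective q.appTop ∧
      (∀ (Z : Scheme.{u}) (g : G.U ⟶ Z), G.t ≫ g = G.s ≫ g → ∀ (Z₀ : Z.Opens), IsAffineOpen Z₀ →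
        (∀ x, g (a x) ∈ Z₀) → ∃ h : M' ⟶ Z, q ≫ h = a ≫ g) := by
  obtain ⟨ho, hr⟩ := isOpenImmersion_awayMap G f
  refine ⟨_, _, (resOpen G (G.U.basicOpen f.1)).toQuot, (G.U.basicOpen f.1).ι, awayMap G f, ho, hr,
    inferInstanceAs (IsOpenImmersion (G.U.basicOpen f.1).ι), Scheme.Opens.range_ι _, toQuot_awayMap G f,
    injective_toQuot_appTop _, fun Z g hg Z₀ hZ₀ hx => exists_desc_affine _ _ ?_ Z₀ hZ₀ (fun x => ?_)⟩
  · show GrpdSep.resT G _ ≫ _ ≫ g = GrpdSep.resS G _ ≫ _ ≫ g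
    rw [← Category.assoc, ← Category.assoc, ← GrpdSep.resArr_s, ← GrpdSep.resArr_t,
      Category.assoc (GrpdSep.resArr G _), Category.assoc (GrpdSep.resArr G _), hg]
  · rw [Scheme.Hom.comp_apply]; exact hx x

/-- `toQuot` is an epimorphism of schemes. -/
theorem hom_ext_toQuot {Z : Scheme.{u}} {h₁ h₂ : Spec (CommRingCat.of G.invariants) ⟶ Z}
    (h : G.toQuot ≫ h₁ = G.toQuot ≫ h₂) : h₁ = h₂ := by
  have hb : ∀ y, h₁ y = h₂ y := fun y => by
    obtain ⟨u, rfl⟩ := toQuot_surjective G y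
    rw [← Scheme.Hom.comp_apply, h, Scheme.Hom.comp_apply]
  refine Scheme.hom_ext_of_forall _ _ fun y => ?_
  obtain ⟨Z₀, hZ₀, hyZ⟩ : ∃ Z₀ : Z.Opens, IsAffineOpen Z₀ ∧ h₁ y ∈ Z₀ := by
    obtain ⟨_, ⟨Z₀, hZ₀, rfl⟩, hy, -⟩ :=
      Z.isBasis_affineOpens.exists_subset_of_mem_open (Set.mem_univ (h₁ y)) isOpen_univ
    exact ⟨Z₀, hZ₀, hy⟩
  obtain ⟨_, ⟨f, rfl⟩, hyf, hf⟩ := PrimeSpectrum.isTopologicalBasis_basic_opens.exists_subset_of_mem_open
    (show y ∈ ((h₁ ⁻¹ᵁ Z₀ : (Spec _).Opens) : Set _) from hyZ) (h₁ ⁻¹ᵁ Z₀).2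
  obtain ⟨U', M', q, a, w, ho, hr, -, -, hqw, hinj, -⟩ := exists_away G f
  haveI := ho
  refine ⟨w.opensRange, hr.ge hyf, ?_⟩
  rw [← cancel_epi w.isoOpensRange.hom, Scheme.Hom.isoOpensRange_hom_ι_assoc,
    Scheme.Hom.isoOpensRange_hom_ι_assoc]
  refine eq_of_injective_appTop q hinj w h₁ h₂ hb Z₀ hZ₀ (fun x => hf (hr.le ⟨x, rfl⟩)) ?_
  rw [reassoc_of% hqw, reassoc_of% hqw, h]

/-- The restricted quotient map is an epimorphism. -/
theorem exists_away_epi (f : G.invariants) :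
    ∃ (U' M' : Scheme.{u}) (q : U' ⟶ M') (a : U' ⟶ G.U) (w : M' ⟶ Spec (CommRingCat.of G.invariants)),
      IsOpenImmersion w ∧
      Set.range w = ((PrimeSpectrum.basicOpen f : TopologicalSpace.Opens (PrimeSpectrum G.invariants)) : Set (PrimeSpectrum G.invariants)) ∧
      q ≫ w = a ≫ G.toQuot ∧ (∀ (Z : Scheme.{u}) (h₁ h₂ : M' ⟶ Z), q ≫ h₁ = q ≫ h₂ → h₁ = h₂) := by
  obtain ⟨h3, h4⟩ := resOpen_isAffine G (isInvariant_basicOpen G f) ((isAffineOpen_top G.U).basicOpen _)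
  obtain ⟨h5, h6, h7⟩ := resOpen_finLocFree G (isInvariant_basicOpen G f)
  obtain ⟨ho, hr⟩ := isOpenImmersion_awayMap G f
  exact ⟨_, _, (resOpen G (G.U.basicOpen f.1)).toQuot, (G.U.basicOpen f.1).ι, awayMap G f, ho, hr, toQuot_awayMap G f,
    fun Z h₁ h₂ h => @hom_ext_toQuot _ (resOpen G (G.U.basicOpen f.1)) h3 h4 h5 h6 h7 Z h₁ h₂ h⟩

/-- Two maps out of an open of the quotient agree if they agree on the corresponding open of `U`. -/
theorem hom_ext_open {P Z : Scheme.{u}} (j : P ⟶ Spec (CommRingCat.of G.invariants)) [IsOpenImmersion j]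
    {h₁ h₂ : P ⟶ Z}
    (h : ∀ (X : Scheme.{u}) (a : X ⟶ G.U) (b : X ⟶ P), a ≫ G.toQuot = b ≫ j → b ≫ h₁ = b ≫ h₂) : h₁ = h₂ := by
  refine Scheme.hom_ext_of_forall _ _ fun z => ?_
  obtain ⟨_, ⟨f, rfl⟩, hyf, hf⟩ := PrimeSpectrum.isTopologicalBasis_basic_opens.exists_subset_of_mem_open
    (show j z ∈ Set.range j from ⟨z, rfl⟩) j.isOpenEmbedding.isOpen_range
  obtain ⟨U', M', q, a, w, ho, hr, hqw, hepi⟩ := exists_away_epi G f
  haveI := ho
  have hsub : Set.range w ⊆ Set.range j := hr.le.trans hf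
  obtain ⟨l, hl⟩ : ∃ l, l ≫ j = w := ⟨_, IsOpenImmersion.lift_fac j w hsub⟩
  haveI : IsOpenImmersion (l ≫ j) := hl ▸ ho
  haveI : IsOpenImmersion l := IsOpenImmersion.of_comp l j
  have hz : z ∈ l.opensRange := by
    obtain ⟨x, hx⟩ := hr.ge hyf
    exact ⟨x, j.isOpenEmbedding.injective ((congr(($hl) x)).trans hx)⟩
  refine ⟨l.opensRange, hz, ?_⟩
  rw [← cancel_epi l.isoOpensRange.hom, Scheme.Hom.isoOpensRange_hom_ι_assoc, Scheme.Hom.isoOpensRange_hom_ι_assoc]
  refine hepi Z _ _ ?_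
  rw [← Category.assoc, ← Category.assoc]
  exact h _ a _ (by rw [Category.assoc, hl, hqw])

/-- `toQuot` is a quotient in the category of schemes. -/
theorem exists_desc {Z : Scheme.{u}} (g : G.U ⟶ Z) (hg : G.t ≫ g = G.s ≫ g) :
    ∃ h : Spec (CommRingCat.of G.invariants) ⟶ Z, G.toQuot ≫ h = g := by
  have key : ∀ y : Spec (CommRingCat.of G.invariants), ∃ (M' : Scheme.{u})
      (w : M' ⟶ Spec (CommRingCat.of G.invariants)) (hd : M' ⟶ Z), IsOpenImmersion w ∧ y ∈ Set.range w ∧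
      ∀ {X : Scheme.{u}} (a : X ⟶ G.U) (b : X ⟶ M'), a ≫ G.toQuot = b ≫ w → b ≫ hd = a ≫ g := by
    intro y
    obtain ⟨u, rfl⟩ := toQuot_surjective G y
    obtain ⟨Z₀, hZ₀, huZ⟩ : ∃ Z₀ : Z.Opens, IsAffineOpen Z₀ ∧ g u ∈ Z₀ := by
      obtain ⟨_, ⟨Z₀, hZ₀, rfl⟩, hy, -⟩ :=
        Z.isBasis_affineOpens.exists_subset_of_mem_open (Set.mem_univ (g u)) isOpen_univ
      exact ⟨Z₀, hZ₀, hy⟩
    obtain ⟨f, hyf, hfO⟩ := exists_basicOpen G (g ⁻¹ᵁ Z₀) (G.toQuot u) (fun u' hu' => by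
      obtain ⟨r, ht, hs⟩ := (toQuot_eq_iff G u' u).1 hu'
      show g u' ∈ Z₀
      rw [← ht, ← Scheme.Hom.comp_apply, hg, Scheme.Hom.comp_apply, hs]; exact huZ)
    obtain ⟨U', M', q, a₀, w, ho, hr, ha, har, hqw, -, hdesc⟩ := exists_away G f
    obtain ⟨hd, hhd⟩ := hdesc Z g hg Z₀ hZ₀ fun x => hfO (har.le ⟨x, rfl⟩)
    haveI := ho
    haveI := ha
    refine ⟨M', w, hd, ho, hr.ge hyf, fun {X} a b hab => ?_⟩
    have hsub : Set.range a ⊆ Set.range a₀ := by
      rintro _ ⟨x, rfl⟩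
      rw [har, ← toQuot_preimage_basicOpen]
      show G.toQuot (a x) ∈ PrimeSpectrum.basicOpen f
      exact hr.le ⟨b x, (congr(($hab) x)).symm⟩
    obtain ⟨a', ha'⟩ : ∃ a', a' ≫ a₀ = a := ⟨_, IsOpenImmersion.lift_fac a₀ a hsub⟩
    have hb : b = a' ≫ q := by
      rw [← cancel_mono w, ← hab, Category.assoc, hqw, ← ha', Category.assoc]
    rw [hb, Category.assoc, hhd, ← Category.assoc, ha']
  choose M' w hd ho hy lift_U using key
  let 𝒰 : (Spec (CommRingCat.of G.invariants)).OpenCover :=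
    { I₀ := Spec (CommRingCat.of G.invariants)
      X := M'
      f := w
      mem₀ := by
        rw [Scheme.presieve₀_mem_precoverage_iff]
        exact ⟨fun y => ⟨y, hy y⟩, fun y => ho y⟩ }
  haveI : ∀ y, IsOpenImmersion (w y) := ho
  refine ⟨Scheme.Cover.glueMorphisms 𝒰 hd fun y₁ y₂ => ?_, ?_⟩
  · refine hom_ext_open G (pullback.fst (w y₁) (w y₂) ≫ w y₁) fun X a b hab => ?_
    rw [← Category.assoc, ← Category.assoc]
    refine (lift_U y₁ a _ ?_).trans (lift_U y₂ a _ ?_).symm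
    · exact hab.trans (Category.assoc _ _ _).symm
    · refine hab.trans ?_
      rw [Category.assoc]
      exact congrArg (b ≫ ·) pullback.condition
  · refine Scheme.Cover.hom_ext (𝒰.pullback₁ G.toQuot) _ _ fun y => ?_
    change pullback.fst G.toQuot (w y) ≫ G.toQuot ≫ _ = pullback.fst G.toQuot (w y) ≫ g
    rw [pullback.condition_assoc]
    refine (congrArg (pullback.snd _ _ ≫ ·) (Scheme.Cover.ι_glueMorphisms 𝒰 hd _ y)).trans ?_
    exact lift_U y _ _ pullback.condition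

end universal

end Groth.Agent.GrpdQ
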