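import Groth.Agent.GrpdQ.FlatMain
import Groth.Agent.AlgSpc.EqvRel
import Groth.Agent.AlgSpc.EtQuotBase
import Mathlib.AlgebraicGeometry.Sites.Fpqc

/-!
The scheme quotient of a finite locally free equivalence relation on an affine scheme.
-/

set_option autoImplicit false
set_option linter.style.haveILetI false
set_option backward.isDefEq.respectTransparency false

universe u

open CategoryTheory CategoryTheory.Limits AlgebraicGeometry TensorProduct

namespace Groth.Agent.GrpdQ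

variable {S : Scheme.{u}} (G : Grpd.GroupoidScheme S) [IsAffine G.U] [IsAffine G.R]
  [IsFinite G.s] [Flat G.s] [LocallyOfFinitePresentation G.s] [Mono G.j]

theorem toQuot_props : IsFinite G.toQuot ∧ Flat G.toQuot ∧ LocallyOfFinitePresentation G.toQuot := by
  obtain ⟨hf, hp⟩ := finite_projective (G := G)
  haveI := hf; haveI := hp
  haveI : Module.FinitePresentation G.invariants Γ(G.U, ⊤) := Module.finitePresentation_of_projective _ _
  haveI : Module.Flat G.invariants Γ(G.U, ⊤) := Module.Flat.of_projective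
  haveI : Algebra.FinitePresentation G.invariants Γ(G.U, ⊤) := inferInstance
  rw [show G.toQuot = G.U.isoSpec.hom ≫ Spec.map (CommRingCat.ofHom G.invariants.subtype) from rfl]
  refine ⟨(MorphismProperty.cancel_left_of_respectsIso @IsFinite _ _).2 ?_,
    (MorphismProperty.cancel_left_of_respectsIso @Flat _ _).2 ?_,
    (MorphismProperty.cancel_left_of_respectsIso @LocallyOfFinitePresentation _ _).2 ?_⟩
  · exact (IsFinite.SpecMap_iff _).2 (RingHom.finite_algebraMap.mpr hf)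
  · exact (HasRingHomProperty.Spec_iff (P := @Flat)).2 (RingHom.flat_algebraMap_iff.mpr ‹_›)
  · exact (HasRingHomProperty.Spec_iff (P := @LocallyOfFinitePresentation)).2 (RingHom.finitePresentation_algebraMap.mpr ‹_›)

theorem isPullback_toQuot : IsPullback G.t G.s G.toQuot G.toQuot := by
  let C := G.invariants
  let σ := G.s.appTop.hom
  let τ := G.t.appTop.hom
  letI algB : Algebra C Γ(G.R, ⊤) := (G.s.appTop.hom.comp G.invariants.subtype).toAlgebra
  have hw : ∀ c : C, τ c.1 = σ c.1 := fun c => c.2.symm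
  let fl : Γ(G.U, ⊤) →ₐ[C] Γ(G.R, ⊤) := ⟨τ, fun c => hw c⟩
  let fr : Γ(G.U, ⊤) →ₐ[C] Γ(G.R, ⊤) := ⟨σ, fun c => rfl⟩
  let Φ : Γ(G.U, ⊤) ⊗[C] Γ(G.U, ⊤) →ₐ[C] Γ(G.R, ⊤) := Algebra.TensorProduct.lift fl fr fun _ _ => mul_comm _ _
  have hb : Function.Bijective Φ.toLinearMap := bijective_of_pure Φ.toLinearMap fun a b => by simp [Φ, fl, fr]; rfl
  let e := (RingEquiv.ofBijective Φ.toRingHom hb).toCommRingCatIso
  have po : IsPushout (CommRingCat.ofHom G.invariants.subtype) (CommRingCat.ofHom G.invariants.subtype)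
      G.t.appTop G.s.appTop :=
    (CommRingCat.isPushout_tensorProduct C Γ(G.U, ⊤) Γ(G.U, ⊤)).of_iso (Iso.refl _) (Iso.refl _) (Iso.refl _) e
      (by simp; rfl) (by simp; rfl) (by ext a; simp [e, Φ, fl, fr]; rfl) (by ext a; simp [e, Φ, fl, fr]; rfl)
  refine (isPullback_SpecMap_of_isPushout _ _ _ _ po).of_iso G.R.isoSpec.symm G.U.isoSpec.symm G.U.isoSpec.symm (Iso.refl _) ?_ ?_ ?_ ?_
  · simpa using Scheme.isoSpec_inv_naturality G.t
  · simpa using Scheme.isoSpec_inv_naturality G.s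
  · simp [Grpd.GroupoidScheme.toQuot, ← Scheme.isoSpec_hom]
  · simp [Grpd.GroupoidScheme.toQuot, ← Scheme.isoSpec_hom]

theorem main : (IsFinite G.toQuot ∧ Flat G.toQuot ∧ LocallyOfFinitePresentation G.toQuot) ∧
    ∃ φ : G.R ≅ pullback G.toQuot G.toQuot, φ.hom ≫ pullback.fst G.toQuot G.toQuot = G.t ∧
      φ.hom ≫ pullback.snd G.toQuot G.toQuot = G.s :=
  ⟨toQuot_props G, (isPullback_toQuot G).isoPullback, (isPullback_toQuot G).isoPullback_hom_fst,
    (isPullback_toQuot G).isoPullback_hom_snd⟩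

theorem isQuotient : ∃! m : Spec (CommRingCat.of G.invariants) ⟶ S, ∃ h : G.toQuot ≫ m = G.pU,
    QuotSh.IsQuotient Scheme.fppfPrecoverage (Over.homMk G.s G.s_over : Over.mk G.pR ⟶ Over.mk G.pU)
      (Over.homMk G.t G.t_over : Over.mk G.pR ⟶ Over.mk G.pU) (Over.homMk G.toQuot h : Over.mk G.pU ⟶ Over.mk m) := by
  obtain ⟨n, ⟨F⟩⟩ := exists_frame G
  obtain ⟨h₁, h₂, h₃⟩ := toQuot_props G
  haveI := h₁; haveI := h₂; haveI := h₃
  haveI : Surjective G.toQuot := ⟨surjective_toQuot F⟩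
  have sq := isPullback_toQuot G
  have key : ∀ {Z : Scheme.{u}} (g₁ g₂ : Z ⟶ G.U), g₁ ≫ G.toQuot = g₂ ≫ G.toQuot → g₁ ≫ G.pU = g₂ ≫ G.pU := fun g₁ g₂ w => by
    rw [← sq.lift_fst g₁ g₂ w, Category.assoc, G.t_over, ← G.s_over, ← Category.assoc, sq.lift_snd]
  refine ⟨EffectiveEpi.desc G.toQuot G.pU key, ⟨EffectiveEpi.fac G.toQuot G.pU key, ?_⟩,
    fun m ⟨hm, _⟩ => EffectiveEpi.uniq G.toQuot G.pU key m hm⟩
  set m := EffectiveEpi.desc G.toQuot G.pU key
  set s : Over.mk G.pR ⟶ Over.mk G.pU := Over.homMk G.s G.s_over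
  set t : Over.mk G.pR ⟶ Over.mk G.pU := Over.homMk G.t G.t_over
  set q : Over.mk G.pU ⟶ Over.mk m := Over.homMk G.toQuot (EffectiveEpi.fac G.toQuot G.pU key)
  have w : s ≫ q = t ≫ q := Over.OverMorphism.ext s_toQuot
  refine ⟨w, ?_⟩
  have sqO : IsPullback t s q q := IsPullback.of_map (Over.forget S) w.symm sq
  have sqY := sqO.map (AlgSp.yon S)
  haveI : Sheaf.IsLocallySurjective ((AlgSp.yon S).map q) := AlgSpc.isLocallySurjective_of_repWith
    ((AlgSp.repWith_yon_map_iff @Flat q).2 h₂) ((AlgSp.repWith_yon_map_iff @LocallyOfFinitePresentation q).2 h₃)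
    ((AlgSp.repWith_yon_map_iff @Surjective q).2 ‹_›)
  haveI : Epi ((AlgSp.yon S).map q) := inferInstance
  haveI := AlgSpLoc.effectiveEpi_of_epi ((AlgSp.yon S).map q)
  let π := AlgSpc.quotMap s t
  have keyY : ∀ {Z : AlgSp.Sp S} (g₁ g₂ : Z ⟶ (AlgSp.yon S).obj (Over.mk G.pU)),
      g₁ ≫ (AlgSp.yon S).map q = g₂ ≫ (AlgSp.yon S).map q → g₁ ≫ π = g₂ ≫ π := fun g₁ g₂ h => by
    rw [← sqY.lift_fst g₁ g₂ h, Category.assoc, AlgSpc.quotMap_w, ← Category.assoc, sqY.lift_snd]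
  let D := EffectiveEpi.desc ((AlgSp.yon S).map q) π keyY
  have hπ : π ≫ QuotSh.quotDesc Scheme.fppfPrecoverage q w =
      (AlgSp.yon S).map q ≫ (QuotSh.repIsoUliftYoneda Scheme.fppfPrecoverage (Over.mk m)).inv := by
    rw [AlgSpc.repIso_inv_naturality]
    simp only [π, AlgSpc.quotMap, Category.assoc]
    congr 1
    exact coequalizer.π_desc _ _
  refine ⟨(QuotSh.repIsoUliftYoneda Scheme.fppfPrecoverage (Over.mk m)).hom ≫ D, ?_, ?_⟩
  · haveI : Epi π := AlgSpc.epi_quotMap s t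
    rw [← cancel_epi π, ← Category.assoc, hπ, Category.assoc, Iso.inv_hom_id_assoc, Category.comp_id]
    exact EffectiveEpi.fac _ π keyY
  · rw [← cancel_epi (QuotSh.repIsoUliftYoneda Scheme.fppfPrecoverage (Over.mk m)).inv,
      ← cancel_epi ((AlgSp.yon S).map q), Category.assoc, Iso.inv_hom_id_assoc, ← Category.assoc ((AlgSp.yon S).map q) D,
      EffectiveEpi.fac, hπ, Category.comp_id]

end Groth.Agent.GrpdQ
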