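import Groth.Agent.GrpdQ.Basic
import Groth.Agent.GrpdSep.Saturate
import Mathlib.AlgebraicGeometry.Morphisms.QuasiFinite
import Mathlib.RingTheory.Ideal.GoingUp

/-!
Invariant affine opens containing a finite orbit.
-/

set_option autoImplicit false
set_option linter.style.haveILetI false
set_option backward.isDefEq.respectTransparency false

universe u

open CategoryTheory CategoryTheory.Limits AlgebraicGeometry Grpd

namespace Groth.Agent.GrpdQ

namespace Frame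

variable {A B : Type u} [CommRing A] [CommRing B] {σ : A →+* B} {n : ℕ} (F : Frame σ n)

theorem mat_zero : F.mat 0 = 0 := by ext i j; simp [mat]

theorem mat_sub (y z : B) : F.mat (y - z) = F.mat y - F.mat z := by ext i j; simp [mat, sub_mul]

theorem norm_mul (y z : B) : F.norm (y * z) = F.norm y * F.norm z := by
  rw [norm, norm, norm, ← Matrix.det_mul]
  congr 1
  simp only [add_mul, mul_add, one_mul, mul_one, ← F.mat_mul, ← add_assoc]
  rw [← F.mat_add, ← F.mat_add]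
  congr 2
  ring

theorem norm_one : F.norm 1 = 1 := by simp [norm, mat_zero]

theorem norm_algebraMap_not_mem {p : Ideal A} [hp : p.IsPrime] {g : A} (hg : g ∉ p) : F.norm (σ g) ∉ p := by
  intro h
  let ψ := algebraMap A p.ResidueField
  have h0 : ψ (F.norm (σ g)) = 0 := Ideal.algebraMap_residueField_eq_zero.2 h
  rw [norm, RingHom.map_det] at h0
  have hE : ((F.mat 1).map ψ) * ((F.mat 1).map ψ) = (F.mat 1).map ψ := by
    rw [← Matrix.map_mul, ← F.mat_mul, mul_one]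
  have hg0 : ψ g ≠ 0 := fun e => hg (Ideal.algebraMap_residueField_eq_zero.1 e)
  have hmul : ((ψ g - 1) • (F.mat 1).map ψ + 1) * (((ψ g)⁻¹ - 1) • (F.mat 1).map ψ + 1) = 1 := by
    rw [add_mul, mul_add, mul_add, one_mul, mul_one, mul_one, Matrix.smul_mul, Matrix.mul_smul, hE, smul_smul,
      ← add_assoc, ← add_smul, ← add_smul]
    have : (ψ g - 1) * ((ψ g)⁻¹ - 1) + (ψ g - 1) + ((ψ g)⁻¹ - 1) = 0 := by
      field_simp; ring
    rw [this, zero_smul, zero_add]
  have hm : ψ.mapMatrix (F.mat (σ g - 1) + 1) = (ψ g - 1) • (F.mat 1).map ψ + 1 := by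
    rw [map_add, map_one, F.mat_sub, ← mul_one (σ g), F.mat_smul]
    ext1 i j
    simp [sub_mul, Matrix.one_apply]
  rw [hm] at h0
  have := congrArg Matrix.det hmul
  rw [Matrix.det_mul, h0, zero_mul, Matrix.det_one] at this
  exact zero_ne_one this

theorem norm_mem_of_mem {q : Ideal B} [hq : q.IsPrime] {y : B} (hy : y ∈ q) : σ (F.norm y) ∈ q := by
  let ψ := algebraMap B q.ResidueField
  let v : Fin n → q.ResidueField := fun i => ψ (F.b i)
  have hv : ∀ z, Matrix.vecMul v ((F.mat z).map (ψ.comp σ)) = ψ z • v := fun z => by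
    ext j
    rw [Pi.smul_apply, smul_eq_mul, ← map_mul, ← F.sum (z * F.b j), map_sum]
    simp [Matrix.vecMul, dotProduct, v, mat, mul_comm]
  have hne : v ≠ 0 := fun e => by
    have : ψ 1 = 0 := by
      rw [← F.sum 1, map_sum]
      exact Finset.sum_eq_zero fun i _ => by
        rw [map_mul, show ψ (F.b i) = 0 from congrFun e i, mul_zero]
    simp at this
  rw [← Ideal.algebraMap_residueField_eq_zero]
  change (ψ.comp σ) (F.norm y) = 0
  rw [norm, RingHom.map_det]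
  refine Matrix.exists_vecMul_eq_zero_iff.1 ⟨v, hne, ?_⟩
  rw [map_add, map_one, RingHom.mapMatrix_apply, Matrix.vecMul_add, hv, Matrix.vecMul_one, map_sub, map_one,
    show ψ y = 0 from Ideal.algebraMap_residueField_eq_zero.2 hy]
  simp

/-- The norm cuts out the image of a hypersurface. -/
theorem norm_not_mem_iff (hσ : σ.IsIntegral) (p : Ideal A) [p.IsPrime] (y : B) :
    F.norm y ∉ p ↔ ∀ q : Ideal B, q.IsPrime → q.comap σ = p → y ∉ q := by
  refine ⟨fun h q hq hqp hy => h (hqp ▸ F.norm_mem_of_mem hy), fun h hN => ?_⟩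
  letI := σ.toAlgebra
  haveI : Algebra.IsIntegral A B := ⟨hσ⟩
  by_cases hJ : (Ideal.span {y}).comap (algebraMap A B) ≤ p
  · obtain ⟨q, hyq, hq, hqp⟩ := Ideal.exists_ideal_over_prime_of_isIntegral p (Ideal.span {y}) hJ
    exact h q hq hqp (hyq (Ideal.mem_span_singleton_self y))
  · obtain ⟨g, hgJ, hg⟩ := SetLike.not_le_iff_exists.1 hJ
    obtain ⟨z, hz⟩ := Ideal.mem_span_singleton'.1 (Ideal.mem_comap.1 hgJ)
    refine F.norm_algebraMap_not_mem hg ?_
    rw [show σ g = z * y from hz.symm, norm_mul]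
    exact p.mul_mem_left _ hN

end Frame

theorem mem_basicOpen_iff {X : Scheme.{u}} {U : X.Opens} (hU : IsAffineOpen U) (f : Γ(X, U)) {x : X} (hx : x ∈ U) :
    x ∈ X.basicOpen f ↔ f ∉ (hU.primeIdealOf ⟨x, hx⟩).asIdeal := by
  have h := SetLike.ext_iff.1 (hU.fromSpec_preimage_basicOpen f) (hU.primeIdealOf ⟨x, hx⟩)
  change hU.fromSpec (hU.primeIdealOf ⟨x, hx⟩) ∈ X.basicOpen f ↔ _ at h
  rw [hU.fromSpec_primeIdealOf] at h
  exact h

theorem exists_basicOpen_finite {X : Scheme.{u}} {V O : X.Opens} (hV : IsAffineOpen V) {T : Set X} (hT : T.Finite)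
    (hTV : T ⊆ V) (hTO : T ⊆ O) : ∃ f : Γ(X, V), T ⊆ X.basicOpen f ∧ X.basicOpen f ≤ O := by
  classical
  haveI := hT.to_subtype
  haveI := Fintype.ofFinite T
  let P : T → Ideal Γ(X, V) := fun x => (hV.primeIdealOf ⟨x.1, hTV x.2⟩).asIdeal
  let I : Ideal Γ(X, V) := Ideal.span {f | X.basicOpen f ≤ O}
  have hI : ∀ f ∈ I, X.basicOpen f ≤ O := fun f hf x hx => by
    by_contra hxO
    have hxV : x ∈ V := X.basicOpen_le f hx
    refine (mem_basicOpen_iff hV f hxV).1 hx (Ideal.span_le.2 (fun g hg => ?_) hf)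
    by_contra hg'
    exact hxO (hg ((mem_basicOpen_iff hV g hxV).2 hg'))
  have hnot : ∀ x, ¬ I ≤ P x := fun x hle => by
    obtain ⟨g, hg, hxg⟩ := hV.exists_basicOpen_le ⟨x.1, hTO x.2⟩ (hTV x.2)
    exact (mem_basicOpen_iff hV g (hTV x.2)).1 hxg (hle (Ideal.subset_span hg))
  rcases isEmpty_or_nonempty T with hE | ⟨⟨x₀⟩⟩
  · refine ⟨0, fun x hx => (hE.false ⟨x, hx⟩).elim, ?_⟩
    rw [Scheme.basicOpen_zero]; exact bot_le
  obtain ⟨f, hfI, hf⟩ : ∃ f ∈ I, ∀ x, f ∉ P x := by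
    by_contra h
    push_neg at h
    obtain ⟨x, -, hx⟩ := (Ideal.subset_union_prime (s := Finset.univ) x₀ x₀ (fun i _ _ _ => (hV.primeIdealOf _).2)).1
      (show (I : Set Γ(X, V)) ⊆ ⋃ i ∈ (↑(Finset.univ : Finset T) : Set T), (P i : Set Γ(X, V)) from fun f hf => by
        obtain ⟨x, hx⟩ := h f hf
        exact Set.mem_iUnion₂.2 ⟨x, Finset.mem_coe.2 (Finset.mem_univ x), hx⟩)
    exact hnot x hx
  exact ⟨f, fun x hx => (mem_basicOpen_iff hV f (hTV hx)).2 (hf ⟨x, hx⟩), hI f hfI⟩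

theorem exists_invariant_affineOpen {S : Scheme.{u}} (G : GroupoidScheme S) [IsFinite G.s] [Flat G.s]
    [LocallyOfFinitePresentation G.s] [IsFinite G.t] (u : G.U) (V : G.U.Opens) (hV : IsAffineOpen V)
    (huV : ∀ r : G.R, G.s r = u → G.t r ∈ V) :
    ∃ W : G.U.Opens, IsAffineOpen W ∧ u ∈ W ∧ G.s ⁻¹ᵁ W = G.t ⁻¹ᵁ W := by
  let Z : Set G.U := (V : Set G.U)ᶜ
  have hclosed : IsClosed (GrpdSep.sat G Z) :=
    G.t.isClosedMap _ (V.2.isClosed_compl.preimage G.s.continuous)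
  let O : G.U.Opens := ⟨(GrpdSep.sat G Z)ᶜ, hclosed.isOpen_compl⟩
  have hOV : O ≤ V := fun x hx => by
    by_contra h
    exact hx (GrpdSep.mem_sat_self G h)
  have hO : ∀ r, G.s r ∈ O ↔ G.t r ∈ O := fun r => not_congr (GrpdSep.mem_sat_iff G r)
  let T : Set G.U := G.t '' (G.s ⁻¹' {u})
  have hT : T.Finite := (IsFinite.finite_preimage_singleton G.s u).image _
  have huO : u ∈ O := by
    rintro ⟨r, hr, htr⟩
    refine hr ?_
    rw [← GrpdSep.t_i]
    exact huV _ (by rw [GrpdSep.s_i, htr])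
  have hTO : T ⊆ O := by
    rintro _ ⟨r, hr, rfl⟩
    exact (hO r).1 (show G.s r ∈ O by rw [show G.s r = u from hr]; exact huO)
  obtain ⟨f, hTf, hfO⟩ := exists_basicOpen_finite hV hT (fun x hx => hOV (hTO hx)) hTO
  set U₁ := G.U.basicOpen f with hU₁
  have hA : IsAffineOpen U₁ := hV.basicOpen f
  let R₁ := G.s ⁻¹ᵁ U₁
  have hB : IsAffineOpen R₁ := hA.preimage G.s
  have e : R₁ ≤ G.t ⁻¹ᵁ V := fun r hr => hOV ((hO r).1 (hfO hr))
  let σ : Γ(G.U, U₁) →+* Γ(G.R, R₁) := (G.s.appLE U₁ R₁ le_rfl).hom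
  have hfin : σ.Finite := by
    have := G.s.finite_app U₁ hA
    simpa [σ, Scheme.Hom.app_eq_appLE] using this
  letI := σ.toAlgebra
  haveI : Module.Finite Γ(G.U, U₁) Γ(G.R, R₁) := RingHom.finite_algebraMap.mp hfin
  haveI : Algebra.FinitePresentation Γ(G.U, U₁) Γ(G.R, R₁) :=
    RingHom.finitePresentation_algebraMap.mp (G.s.finitePresentation_appLE hA hB le_rfl)
  haveI : Module.Flat Γ(G.U, U₁) Γ(G.R, R₁) := RingHom.flat_algebraMap_iff.mp (G.s.flat_appLE hA hB le_rfl)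
  haveI : Module.FinitePresentation Γ(G.U, U₁) Γ(G.R, R₁) := Module.FinitePresentation.of_finite_of_finitePresentation _ _
  haveI : Module.Projective Γ(G.U, U₁) Γ(G.R, R₁) := Module.Flat.projective_of_finitePresentation
  obtain ⟨n, ⟨F⟩⟩ := Frame.exists_of_projective (A := Γ(G.U, U₁)) (B := Γ(G.R, R₁))
  let y : Γ(G.R, R₁) := (G.t.appLE V R₁ e).hom f
  have hy : ∀ r : G.R, r ∈ R₁ → (r ∈ G.R.basicOpen y ↔ G.t r ∈ U₁) := fun r hr => by
    rw [show G.R.basicOpen y = R₁ ⊓ G.t ⁻¹ᵁ U₁ from Scheme.basicOpen_appLE _ _ _ _ _]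
    exact ⟨fun h => h.2, fun h => ⟨hr, h⟩⟩
  have key : ∀ x, x ∈ G.U.basicOpen (F.norm y) ↔ ∀ r, G.s r = x → G.t r ∈ U₁ := fun x => by
    constructor
    · intro hx r hr
      have hxU : x ∈ U₁ := G.U.basicOpen_le _ hx
      subst hr
      rw [← hy r hxU, mem_basicOpen_iff hB y hxU]
      refine ((F.norm_not_mem_iff hfin.to_isIntegral _ y).1 ((mem_basicOpen_iff hA _ hxU).1 hx)) _ (hB.primeIdealOf _).2 ?_
      exact congrArg PrimeSpectrum.asIdeal (hA.comap_primeIdealOf_appLE U₁ R₁ hB le_rfl hxU)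
    · intro h
      have hxU : x ∈ U₁ := by
        have := h (G.e x) (by rw [← Scheme.Hom.comp_apply, G.e_s]; rfl)
        rwa [← Scheme.Hom.comp_apply, G.e_t] at this
      rw [mem_basicOpen_iff hA _ hxU]
      refine (F.norm_not_mem_iff hfin.to_isIntegral _ y).2 fun q hq hqp => ?_
      let r := hB.fromSpec ⟨q, hq⟩
      have hr : r ∈ R₁ := (Set.ext_iff.1 hB.range_fromSpec _).1 ⟨_, rfl⟩
      have hrq : hB.primeIdealOf ⟨r, hr⟩ = ⟨q, hq⟩ :=
        hB.fromSpec.isOpenEmbedding.injective (hB.fromSpec_primeIdealOf ⟨r, hr⟩)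
      have hsr : G.s r = x := by
        have e1 := hA.comap_primeIdealOf_appLE U₁ R₁ hB le_rfl hr
        rw [hrq] at e1
        have e2 : hA.primeIdealOf ⟨G.s r, hr⟩ = hA.primeIdealOf ⟨x, hxU⟩ := e1 ▸ PrimeSpectrum.ext hqp
        have := congrArg hA.fromSpec e2
        rwa [hA.fromSpec_primeIdealOf, hA.fromSpec_primeIdealOf] at this
      have := (mem_basicOpen_iff hB y hr).1 ((hy r hr).2 (h r hsr))
      rwa [hrq] at this
  refine ⟨G.U.basicOpen (F.norm y), hA.basicOpen _, (key u).2 fun r hr => hTf ⟨r, hr, rfl⟩, ?_⟩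
  have hW : ∀ x, x ∈ G.U.basicOpen (F.norm y) ↔ x ∉ GrpdSep.sat G (U₁ : Set G.U)ᶜ := fun x => by
    rw [key]
    constructor
    · rintro h ⟨r, hr, rfl⟩
      refine hr ?_
      rw [← GrpdSep.t_i]
      exact h _ (GrpdSep.s_i G r)
    · intro h r hr
      by_contra ht
      exact h ⟨G.i r, by rw [Set.mem_preimage, GrpdSep.s_i]; exact ht, by rw [GrpdSep.t_i, hr]⟩
  ext r
  exact (hW (G.s r)).trans ((not_congr (GrpdSep.mem_sat_iff G r)).trans (hW (G.t r)).symm)

end Groth.Agent.GrpdQ
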