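import Groth.Agent.GrpdQ.GlobalQuot
import Mathlib.AlgebraicGeometry.Morphisms.Integral
import Mathlib.AlgebraicGeometry.Morphisms.UniversallyOpen

/-!
# Properties of the quotient of a finite locally free groupoid whose orbits lie in affine opens
-/

set_option autoImplicit false
set_option linter.style.haveILetI false
set_option backward.isDefEq.respectTransparency false

universe u

open CategoryTheory CategoryTheory.Limits AlgebraicGeometry Grpd

namespace Groth.Agent.GrpdQ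

variable {S : Scheme.{u}} {G : GroupoidScheme S} [IsFinite G.s] [Flat G.s] [LocallyOfFinitePresentation G.s]
  (hb : OrbitAffine G) {p : G.U ⟶ quot G} (hp : ∀ W : InvAff G, W.1.ι ≫ p = projOn W)

include hp in
theorem proj_apply (W : InvAff G) (v : W.1) : p v.1 = qι W ((piece G W).q v) :=
  congr(($(hp W)) v)

include hb hp in
theorem proj_surjective : Function.Surjective p := fun y => by
  obtain ⟨W, x, rfl⟩ := Scheme.IsLocallyDirected.ι_jointly_surjective (diag G) y
  obtain ⟨v, rfl⟩ := (piece G W).surj x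
  exact ⟨v.1, proj_apply hp W v⟩

include hb hp in
theorem mem_iff_proj_mem (W : InvAff G) (u : G.U) : u ∈ W.1 ↔ p u ∈ Set.range (qι W) := by
  refine ⟨fun hu => ⟨_, (proj_apply hp W ⟨u, hu⟩).symm⟩, ?_⟩
  rintro ⟨y, hy⟩
  obtain ⟨W₁, hu₁⟩ := exists_invAff G hb u
  obtain ⟨v, rfl⟩ := (piece G W).surj y
  rw [proj_apply hp W₁ ⟨u, hu₁⟩] at hy
  obtain ⟨W₀, f, f₁, x, hx, hx₁⟩ := (Scheme.IsLocallyDirected.ι_eq_ι_iff (diag G)).1 hy
  obtain ⟨v₀, rfl⟩ := (piece G W₀).surj x
  change pmap (leOfHom f₁) ((piece G W₀).q v₀) = (piece G W₁).q ⟨u, hu₁⟩ at hx₁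
  rw [pmap_q_apply] at hx₁
  obtain ⟨r, h₀, h₁⟩ := (piece G W₁).orbit _ _ hx₁
  have := (W.2.2.mem_iff r).2 (by rw [h₀, homOfLE_coe]; exact leOfHom f v₀.2)
  rwa [h₁] at this

include hb hp in
theorem isPullback_piece (W : InvAff G) : IsPullback W.1.ι (piece G W).q p (qι W) := by
  refine (IsOpenImmersion.isPullback _ _ _ _ (hp W) ?_).flip
  ext u
  simp only [Scheme.Hom.coe_preimage, Scheme.Hom.coe_opensRange, Set.mem_preimage, Scheme.Opens.range_ι, SetLike.mem_coe]
  exact (mem_iff_proj_mem hb hp W u).symm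

include hb hp in
theorem of_pieces (P : MorphismProperty Scheme.{u}) [IsZariskiLocalAtTarget P] (h : ∀ W, P (piece G W).q) : P p := by
  refine (IsZariskiLocalAtTarget.iff_of_openCover (P := P) (Scheme.IsLocallyDirected.openCover (diag G))).2 fun W => ?_
  change P (pullback.snd p (qι W))
  rw [← (isPullback_piece hb hp W).isoPullback_inv_snd, MorphismProperty.cancel_left_of_respectsIso P]
  exact h W

include hb hp in
theorem proj_eq_iff (u₀ u₁ : G.U) : p u₀ = p u₁ ↔ ∃ r : G.R, G.t r = u₀ ∧ G.s r = u₁ := by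
  obtain ⟨W, hW⟩ := exists_invAff G hb u₁
  constructor
  · intro h
    have hW₀ : u₀ ∈ W.1 := by
      rw [mem_iff_proj_mem hb hp, h, ← mem_iff_proj_mem hb hp]; exact hW
    rw [proj_apply hp W ⟨u₀, hW₀⟩, proj_apply hp W ⟨u₁, hW⟩] at h
    exact (piece G W).orbit _ _ ((qι W).isOpenEmbedding.injective h)
  · rintro ⟨r, rfl, rfl⟩
    have h₀ := (W.2.2.mem_iff r).1 hW
    rw [proj_apply hp W ⟨_, h₀⟩, proj_apply hp W ⟨_, hW⟩, q_eq_of_arrow W ⟨_, h₀⟩ ⟨_, hW⟩ r rfl rfl]

include hb hp in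
theorem proj_w : G.t ≫ p = G.s ≫ p := by
  refine Scheme.hom_ext_of_forall _ _ fun r => ?_
  obtain ⟨W, hW⟩ := exists_invAff G hb (G.s r)
  refine ⟨G.s ⁻¹ᵁ W.1, hW, ?_⟩
  have hr : Set.range ((G.s ⁻¹ᵁ W.1).ι ≫ G.t) ⊆ Set.range W.1.ι := by
    rintro _ ⟨x, rfl⟩
    rw [Scheme.Opens.range_ι]
    exact (W.2.2.mem_iff _).1 x.2
  rw [← Category.assoc, ← IsOpenImmersion.lift_fac W.1.ι _ hr, Category.assoc, hp, ← morphismRestrict_ι_assoc G.s W.1,
    hp, projOn, ← Category.assoc, ← Category.assoc]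
  congr 1
  exact (piece G W).rel _ _ ⟨(G.s ⁻¹ᵁ W.1).ι, (IsOpenImmersion.lift_fac _ _ _).symm, (morphismRestrict_ι _ _).symm⟩

include hb hp in
theorem nonempty_isColimit : Nonempty (IsColimit (Cofork.ofπ p (proj_w hb hp))) := by
  refine ⟨Cofork.IsColimit.mk' _ fun c => ?_⟩
  have hc : G.t ≫ c.π = G.s ≫ c.π := c.condition
  have key : ∀ W : InvAff G, ∃ g : (piece G W).M ⟶ c.pt, (piece G W).q ≫ g = W.1.ι ≫ c.π := fun W =>
    (piece G W).desc _ fun T a b ⟨r, h₁, h₂⟩ => by
      rw [← Category.assoc, ← Category.assoc, ← h₁, ← h₂, Category.assoc, Category.assoc, hc]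
  choose g hg using key
  let co : Cocone (diag G) :=
    { pt := c.pt
      ι :=
        { app := g
          naturality := fun W W' f => (piece G W).ext _ _ (by
            change (piece G W).q ≫ pmap (leOfHom f) ≫ g W' = (piece G W).q ≫ g W ≫ 𝟙 _
            rw [q_pmap_assoc, hg, Category.comp_id, hg, Scheme.homOfLE_ι_assoc]) } }
  refine ⟨colimit.desc (diag G) co, ?_, fun {m} hm => ?_⟩
  · rw [Cofork.π_ofπ]
    refine Scheme.hom_ext_of_forall _ _ fun u => ?_
    obtain ⟨W, hW⟩ := exists_invAff G hb u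
    refine ⟨W.1, hW, ?_⟩
    rw [reassoc_of% (hp W), projOn, Category.assoc]
    exact (congrArg ((piece G W).q ≫ ·) (colimit.ι_desc co W)).trans (hg W)
  · refine colimit.hom_ext fun W => (piece G W).ext _ _ ?_
    rw [colimit.ι_desc]
    change (piece G W).q ≫ qι W ≫ m = (piece G W).q ≫ g W
    rw [hg, ← Category.assoc]
    refine (congrArg (· ≫ m) (hp W).symm).trans ((Category.assoc _ _ _).trans ?_)
    exact congrArg (W.1.ι ≫ ·) hm

include hb hp in
theorem proj_isOpenMap (hi : IsClosedMap p) : IsOpenMap p := by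
  intro O hO
  obtain ⟨hf, hfl, hpr⟩ := finLocFree_t G
  haveI := hfl; haveI := hpr
  let O' : Set G.U := G.t '' (G.s ⁻¹' O)
  have hO' : IsOpen O' := G.t.isOpenMap _ (hO.preimage G.s.continuous)
  have h : p '' O = (p '' O'ᶜ)ᶜ := by
    ext y
    obtain ⟨u, rfl⟩ := proj_surjective hb hp y
    constructor
    · rintro ⟨o, ho, e⟩ ⟨u', hu', e'⟩
      obtain ⟨r, h₀, h₁⟩ := (proj_eq_iff hb hp u' o).1 (e'.trans e.symm)
      exact hu' ⟨r, by rw [Set.mem_preimage, h₁]; exact ho, h₀⟩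
    · intro h
      have hu : u ∈ O' := by
        by_contra hu
        exact h ⟨u, hu, rfl⟩
      obtain ⟨r, hr, rfl⟩ := hu
      exact ⟨G.s r, hr, ((proj_eq_iff hb hp _ _).2 ⟨r, rfl, rfl⟩).symm⟩
  rw [h]
  exact (hi _ hO'.isClosed_compl).isOpen_compl

include hb hp in
theorem surjective_lift : Function.Surjective (pullback.lift G.t G.s (proj_w hb hp)) := by
  intro z
  let x := geomPt z
  obtain ⟨z₀⟩ : Nonempty (Spec (CommRingCat.of (AlgebraicClosure ((pullback p p).residueField z)))) := inferInstance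
  obtain ⟨W, hW⟩ := exists_invAff G hb (pullback.snd p p z)
  have hz : ∀ w, x w = z := fun w => geomPt_apply z w
  have h₁ : Set.range (x ≫ pullback.snd p p) ⊆ Set.range W.1.ι := by
    rintro _ ⟨w, rfl⟩
    rw [Scheme.Opens.range_ι, Scheme.Hom.comp_apply, hz]; exact hW
  have h₀ : Set.range (x ≫ pullback.fst p p) ⊆ Set.range W.1.ι := by
    rintro _ ⟨w, rfl⟩
    rw [Scheme.Opens.range_ι, Scheme.Hom.comp_apply, hz, SetLike.mem_coe, mem_iff_proj_mem hb hp,
      ← Scheme.Hom.comp_apply, pullback.condition, Scheme.Hom.comp_apply, ← mem_iff_proj_mem hb hp]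
    exact hW
  obtain ⟨r, hr₀, hr₁⟩ := (piece G W).pt (IsOpenImmersion.lift W.1.ι _ h₀) (IsOpenImmersion.lift W.1.ι _ h₁) (by
    rw [← cancel_mono (qι W), Category.assoc, Category.assoc]
    change _ ≫ projOn W = _ ≫ projOn W
    rw [← hp, ← Category.assoc, ← Category.assoc, IsOpenImmersion.lift_fac, IsOpenImmersion.lift_fac,
      Category.assoc, Category.assoc, pullback.condition])
  refine ⟨r z₀, ?_⟩
  suffices e : r ≫ pullback.lift G.t G.s (proj_w hb hp) = x from (congr(($e) z₀)).trans (hz z₀)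
  apply pullback.hom_ext
  · rw [Category.assoc, pullback.lift_fst, hr₀, IsOpenImmersion.lift_fac]
  · rw [Category.assoc, pullback.lift_snd, hr₁, IsOpenImmersion.lift_fac]

include hb hp in
theorem isAffine_quot [IsAffine G.U] : IsAffine (quot G) := by
  let W : InvAff G := ⟨⊤, isAffineOpen_top G.U, rfl⟩
  haveI : Surjective (qι W) := ⟨fun y => by
    obtain ⟨u, rfl⟩ := proj_surjective hb hp y
    exact (mem_iff_proj_mem hb hp W u).1 trivial⟩
  haveI : IsIso (qι W) := (isIso_iff_isOpenImmersion_and_surjective _).2 ⟨inferInstance, inferInstance⟩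
  haveI := (piece G W).isAffine
  exact .of_isIso (inv (qι W))

include hb hp in
theorem isPullback_proj [hj : Mono G.j] : IsPullback G.t G.s p p := by
  have huniq : ∀ {T : Scheme.{u}} (r r' : T ⟶ G.R), r ≫ G.t = r' ≫ G.t → r ≫ G.s = r' ≫ G.s → r = r' := by
    intro T r r' h₁ h₂
    rw [← cancel_mono G.j]
    apply pullback.hom_ext
    · simpa [GroupoidScheme.j, pullback.lift_fst] using h₁
    · simpa [GroupoidScheme.j, pullback.lift_snd] using h₂
  have hex : ∀ {T : Scheme.{u}} (a b : T ⟶ G.U), a ≫ p = b ≫ p → ∃ r : T ⟶ G.R, r ≫ G.t = a ∧ r ≫ G.s = b := by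
    intro T a b hab
    have key : ∀ x : T, ∃ (V : T.Opens) (r : (V : Scheme.{u}) ⟶ G.R), x ∈ V ∧ r ≫ G.t = V.ι ≫ a ∧ r ≫ G.s = V.ι ≫ b := by
      intro x
      obtain ⟨W, hW⟩ := exists_invAff G hb (a x)
      have hb' : ∀ y, a y ∈ W.1 → b y ∈ W.1 := fun y hy => by
        rw [mem_iff_proj_mem hb hp, ← Scheme.Hom.comp_apply, ← hab, Scheme.Hom.comp_apply, ← mem_iff_proj_mem hb hp]
        exact hy
      have hr : Set.range ((a ⁻¹ᵁ W.1).ι ≫ b) ⊆ Set.range W.1.ι := by
        rintro _ ⟨y, rfl⟩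
        rw [Scheme.Opens.range_ι, Scheme.Hom.comp_apply]
        exact hb' _ y.2
      obtain ⟨r, hr₀, hr₁⟩ := ((piece G W).mono hj).2 (a ∣_ W.1) (IsOpenImmersion.lift W.1.ι _ hr) (by
        rw [← cancel_mono (qι W), Category.assoc, Category.assoc]
        change _ ≫ projOn W = _ ≫ projOn W
        rw [← hp, ← Category.assoc, ← Category.assoc, morphismRestrict_ι, IsOpenImmersion.lift_fac,
          Category.assoc, Category.assoc, hab])
      exact ⟨_, r, hW, hr₀.trans (morphismRestrict_ι a W.1), hr₁.trans (IsOpenImmersion.lift_fac _ _ _)⟩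
    choose V r hx hr₀ hr₁ using key
    let 𝒰 : T.OpenCover :=
      { I₀ := T
        X := fun x => V x
        f := fun x => (V x).ι
        mem₀ := by
          rw [Scheme.presieve₀_mem_precoverage_iff]
          exact ⟨fun x => ⟨x, ⟨x, hx x⟩, rfl⟩, fun x => inferInstanceAs (IsOpenImmersion (V x).ι)⟩ }
    refine ⟨Scheme.Cover.glueMorphisms 𝒰 r fun x y => huniq _ _ ?_ ?_, ?_, ?_⟩
    · rw [Category.assoc, Category.assoc, hr₀, hr₀]; exact pullback.condition_assoc _
    · rw [Category.assoc, Category.assoc, hr₁, hr₁]; exact pullback.condition_assoc _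
    · refine Scheme.Cover.hom_ext 𝒰 _ _ fun x => ?_
      rw [Scheme.Cover.ι_glueMorphisms_assoc]; exact hr₀ x
    · refine Scheme.Cover.hom_ext 𝒰 _ _ fun x => ?_
      rw [Scheme.Cover.ι_glueMorphisms_assoc]; exact hr₁ x
  refine ⟨⟨proj_w hb hp⟩, ⟨PullbackCone.IsLimit.mk _ (fun c => (hex c.fst c.snd c.condition).choose)
    (fun c => (hex c.fst c.snd c.condition).choose_spec.1) (fun c => (hex c.fst c.snd c.condition).choose_spec.2)
    (fun c m h₁ h₂ => huniq _ _ (h₁.trans (hex c.fst c.snd c.condition).choose_spec.1.symm)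
      (h₂.trans (hex c.fst c.snd c.condition).choose_spec.2.symm))⟩⟩

include hb hp in
theorem finLocFree_proj [hj : Mono G.j] : Mor2.IsFinLocFree p :=
  ⟨of_pieces hb hp @IsFinite fun W => ((piece G W).mono hj).1.1,
    of_pieces hb hp @Flat fun W => ((piece G W).mono hj).1.2.1,
    of_pieces hb hp @LocallyOfFinitePresentation fun W => ((piece G W).mono hj).1.2.2⟩

variable (G) in
theorem isFinLocFree_s_of (h : Mor2.IsFinLocFree G.s) :
    IsFinite G.s ∧ Flat G.s ∧ LocallyOfFinitePresentation G.s := h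

end Groth.Agent.GrpdQ
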