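import Groth.Agent.GrpdQ.Basic
import Groth.Agent.GrpdSep.Field
import Groth.Agent.GrpdSep.GeomIrred
import Groth.Agent.S1342
import Groth.Agent.S1341
import Groth.Agent.FlatLocalDepth.CMAt

/-!
The Cohen-Macaulay locus of a flat groupoid.
-/

set_option autoImplicit false
set_option linter.style.haveILetI false
set_option backward.isDefEq.respectTransparency false

universe u

open CategoryTheory CategoryTheory.Limits AlgebraicGeometry

namespace Groth.Agent.GrpdQ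

variable {S : Scheme.{u}} (G : Grpd.GroupoidScheme S)

theorem grpd_isCMAt_iff {X Y : Scheme.{u}} (f : X ⟶ Y) (x : X) : Grpd.IsCMAt f x ↔ MoreMor.IsCMAt f x := by
  rw [Groth.Agent.FlatLocalDepth.isCMAt_iff]
  exact Iff.rfl

variable [Flat G.s] [LocallyOfFinitePresentation G.s] [Flat G.t] [LocallyOfFinitePresentation G.t]

theorem isCMAt_s_iff_of_same_target {r r' : G.R} (h : G.t r = G.t r') :
    MoreMor.IsCMAt G.s r ↔ MoreMor.IsCMAt G.s r' := by
  have sq := GrpdSep.isPullback_c_left (G := G)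
  obtain ⟨z, hz₁, hz₂⟩ := Scheme.Pullback.exists_preimage_pullback r r' h
  have hx₁ : pullback.fst G.s G.t (sq.isoPullback.inv z) = r := by
    rw [← Scheme.Hom.comp_apply, sq.isoPullback_inv_fst]; exact hz₁
  have hx₂ : G.c (sq.isoPullback.inv z) = r' := by
    rw [← Scheme.Hom.comp_apply, sq.isoPullback_inv_snd]; exact hz₂
  have h₁ := Groth.Agent.S1342.result G.s (pullback.snd G.s G.t) (pullback.fst G.s G.t) G.t
    (IsPullback.of_hasPullback G.s G.t)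
  have h₂ := Groth.Agent.S1342.result G.s (pullback.snd G.s G.t) G.c G.s (isPullback_c G)
  have := Set.ext_iff.1 (h₁.symm.trans h₂) (sq.isoPullback.inv z)
  simpa only [Set.mem_preimage, Set.mem_setOf_eq, hx₁, hx₂] using this

theorem isCMAt_t_iff (r : G.R) : MoreMor.IsCMAt G.t r ↔ MoreMor.IsCMAt G.s (G.i r) := by
  have hinv : G.i ≫ G.i = 𝟙 G.R := GrpdSep.inv_inv G
  haveI : IsIso G.i := ⟨G.i, hinv, hinv⟩
  have h := Groth.Agent.S1342.result G.s G.t G.i (𝟙 G.U)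
    (IsPullback.of_horiz_isIso ⟨by rw [G.i_s, Category.comp_id]⟩)
  exact Set.ext_iff.1 h r

theorem exists_cm_locus :
    ∃ U' : G.U.Opens, (G.t ⁻¹ᵁ U' : Set G.R) = {r | Grpd.IsCMAt G.s r} ∧
      (G.s ⁻¹ᵁ U' : Set G.R) = {r | Grpd.IsCMAt G.t r} ∧
      ⇑G.t '' (G.s ⁻¹ᵁ U' : Set G.R) = Set.univ ∧ ⇑G.s '' (G.t ⁻¹ᵁ U' : Set G.R) = Set.univ := by
  obtain ⟨hopen, hdense⟩ := Groth.Agent.S1341.result G.s
  let U' : G.U.Opens := ⟨⇑G.t '' {r | MoreMor.IsCMAt G.s r}, G.t.isOpenMap _ hopen⟩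
  have ht : ∀ r, r ∈ G.t ⁻¹ᵁ U' ↔ MoreMor.IsCMAt G.s r := fun r =>
    ⟨fun ⟨r', hr', e⟩ => (isCMAt_s_iff_of_same_target G e).1 hr', fun hr => ⟨r, hr, rfl⟩⟩
  have hit : ∀ r, G.t (G.i r) = G.s r := fun r => by rw [← Scheme.Hom.comp_apply, G.i_t]
  have his : ∀ r, G.s (G.i r) = G.t r := fun r => by rw [← Scheme.Hom.comp_apply, G.i_s]
  have hs : ∀ r, r ∈ G.s ⁻¹ᵁ U' ↔ MoreMor.IsCMAt G.t r := fun r => by
    rw [isCMAt_t_iff, ← ht]
    change G.s r ∈ U' ↔ G.t (G.i r) ∈ U'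
    rw [hit]
  have key : ∀ u, ∃ r, G.s r = u ∧ MoreMor.IsCMAt G.s r := by
    intro u
    have hne : Nonempty ↥(G.s.fiber u) := by
      have : G.e u ∈ Set.range (G.s.fiberι u) := by
        rw [Scheme.Hom.range_fiberι]
        change G.s (G.e u) = u
        rw [← Scheme.Hom.comp_apply, G.e_s]; rfl
      exact ⟨this.choose⟩
    obtain ⟨z, hz⟩ := (hdense u).nonempty
    refine ⟨G.s.fiberι u z, ?_, hz⟩
    have : G.s.fiberι u z ∈ Set.range (G.s.fiberι u) := ⟨z, rfl⟩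
    rwa [Scheme.Hom.range_fiberι] at this
  refine ⟨U', Set.ext fun r => (ht r).trans (grpd_isCMAt_iff _ r).symm,
    Set.ext fun r => (hs r).trans (grpd_isCMAt_iff _ r).symm,
    Set.eq_univ_of_forall fun u => ?_, Set.eq_univ_of_forall fun u => ?_⟩
  · obtain ⟨r, hr, hcm⟩ := key u
    refine ⟨G.i r, ?_, (hit r).trans hr⟩
    change G.s (G.i r) ∈ U'
    rw [his]
    exact (ht r).2 hcm
  · obtain ⟨r, hr, hcm⟩ := key u
    exact ⟨r, (ht r).2 hcm, hr⟩

end Groth.Agent.GrpdQ
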