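import Groth.Agent.GrpdQ.Basic
import Mathlib.LinearAlgebra.Matrix.SchurComplement
import Mathlib.LinearAlgebra.Matrix.Polynomial
import Mathlib.RingTheory.Flat.Basic
import Mathlib.RingTheory.Ideal.GoingUp
import Mathlib.RingTheory.TensorProduct.Basic

/-!
Invariants of a finite locally free groupoid after base change.
-/

set_option autoImplicit false
set_option linter.style.haveILetI false
set_option backward.isDefEq.respectTransparency false
set_option maxHeartbeats 1000000

universe u

open CategoryTheory CategoryTheory.Limits AlgebraicGeometry Polynomial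
open scoped TensorProduct

namespace Groth.Agent.GrpdQ

theorem Frame.det_one_add_eq {A B : Type u} [CommRing A] [CommRing B] {σ : A →+* B} {n : ℕ} (F G : Frame σ n)
    {L : Type u} [CommRing L] (ψ : A →+* L) {ι : Type*} (s : Finset ι) (z : ι → L) (y : ι → B) :
    (1 + ∑ k ∈ s, z k • (F.mat (y k)).map ψ).det = (1 + ∑ k ∈ s, z k • (G.mat (y k)).map ψ).det := by
  let P : Matrix (Fin n) (Fin n) A := Matrix.of fun i j => G.φ i (F.b j)
  let Q : B → Matrix (Fin n) (Fin n) A := fun y => Matrix.of fun i j => F.φ i (y * G.b j)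
  have h₁ : ∀ y, P * Q y = G.mat y := fun y => by
    ext i j
    simp only [P, Q, Frame.mat, Matrix.mul_apply, Matrix.of_apply]
    conv_rhs => rw [← F.sum (y * G.b j), map_sum]
    exact Finset.sum_congr rfl fun k _ => by rw [G.smul, mul_comm]
  have h₂ : ∀ y, Q y * P = F.mat y := fun y => by
    ext i j
    simp only [P, Q, Frame.mat, Matrix.mul_apply, Matrix.of_apply]
    conv_rhs => rw [← G.sum (F.b j), Finset.mul_sum, map_sum]
    exact Finset.sum_congr rfl fun k _ => by rw [mul_left_comm, F.smul, mul_comm]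
  have h := Matrix.det_one_add_mul_comm (∑ k ∈ s, z k • (Q (y k)).map ψ) (P.map ψ)
  simp only [Finset.sum_mul, Finset.mul_sum, Matrix.smul_mul, Matrix.mul_smul, ← Matrix.map_mul, h₁, h₂] at h
  exact h

variable {S : Scheme.{u}} {G : Grpd.GroupoidScheme S} [IsAffine G.U] [IsAffine G.R] {n : ℕ}
  (F : Frame G.s.appTop.hom n)

theorem exists_lift_det {ι : Type u} [Fintype ι] (a : ι → Γ(G.U, ⊤)) :
    ∃ P : MvPolynomial ι G.invariants, MvPolynomial.map G.invariants.subtype P =
      (1 + ∑ k, (MvPolynomial.X k : MvPolynomial ι Γ(G.U, ⊤)) •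
        (F.mat (G.t.appTop.hom (a k))).map (MvPolynomial.C (σ := ι) (R := Γ(G.U, ⊤)))).det := by
  have sq₁ := isPushout_appTop_of_isPullback (IsPullback.of_hasPullback G.s G.t)
  have sq₂ := isPushout_appTop_of_isPullback (isPullback_c G)
  obtain ⟨F₁, h₁⟩ := Frame.exists_baseChange sq₁.flip F
  obtain ⟨F₂, h₂⟩ := Frame.exists_baseChange sq₂.flip F
  have e : ∀ f, (pullback.fst G.s G.t).appTop.hom (G.t.appTop.hom f) = G.c.appTop.hom (G.t.appTop.hom f) := fun f => by
    rw [← RingHom.comp_apply, ← CommRingCat.hom_comp, ← Scheme.Hom.comp_appTop, ← c_t, Scheme.Hom.comp_appTop,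
      CommRingCat.hom_comp, RingHom.comp_apply]
  set d := (1 + ∑ k, (MvPolynomial.X k : MvPolynomial ι Γ(G.U, ⊤)) •
    (F.mat (G.t.appTop.hom (a k))).map (MvPolynomial.C (σ := ι) (R := Γ(G.U, ⊤)))).det with hd
  have hmap : ∀ ρ : Γ(G.U, ⊤) →+* Γ(G.R, ⊤), MvPolynomial.map ρ d =
      (1 + ∑ k, (MvPolynomial.X k : MvPolynomial ι Γ(G.R, ⊤)) •
        ((F.mat (G.t.appTop.hom (a k))).map ρ).map (MvPolynomial.C (σ := ι) (R := Γ(G.R, ⊤)))).det := fun ρ => by
    rw [hd, RingHom.map_det]
    congr 1
    rw [map_add, map_one, map_sum]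
    congr 1
    refine Finset.sum_congr rfl fun k _ => ?_
    ext1 i j
    simp
  have key : MvPolynomial.map G.t.appTop.hom d = MvPolynomial.map G.s.appTop.hom d := by
    rw [hmap, hmap]
    simp only [← h₁, ← h₂, e]
    exact Frame.det_one_add_eq F₁ F₂ _ _ _ _
  have hc : ∀ m, MvPolynomial.coeff m d ∈ G.invariants := fun m => by
    have := congrArg (MvPolynomial.coeff m) key
    simp only [MvPolynomial.coeff_map] at this
    exact this.symm
  refine ⟨∑ m ∈ d.support, MvPolynomial.monomial m ⟨_, hc m⟩, ?_⟩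
  simp only [map_sum, MvPolynomial.map_monomial]
  exact d.as_sum.symm

/-- The determinant of `1 + (T - 1) E`, whose coefficients are the idempotents of constant rank. -/
noncomputable def rankPoly : Γ(G.U, ⊤)[X] := (1 + ((X : Γ(G.U, ⊤)[X]) - 1) • (F.mat 1).map C).det

theorem rankPoly_eval {L : Type u} [CommRing L] (ρ : Γ(G.U, ⊤) →+* L) (y : L) :
    (rankPoly F).eval₂ ρ y = (1 + (y - 1) • (F.mat 1).map ρ).det := by
  rw [rankPoly, ← coe_eval₂RingHom, RingHom.map_det]
  congr 1
  rw [map_add, map_one]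
  congr 1
  ext1 i j
  simp

theorem rankPoly_mul {L : Type u} [CommRing L] (ρ : Γ(G.U, ⊤) →+* L) (y z : L) :
    (rankPoly F).eval₂ ρ y * (rankPoly F).eval₂ ρ z = (rankPoly F).eval₂ ρ (y * z) := by
  rw [rankPoly_eval, rankPoly_eval, rankPoly_eval, ← Matrix.det_mul]
  congr 1
  have hE : (F.mat 1).map ρ * (F.mat 1).map ρ = (F.mat 1).map ρ := by
    rw [← Matrix.map_mul, ← F.mat_mul, mul_one]
  rw [add_mul, one_mul, mul_add, mul_one, Matrix.smul_mul, Matrix.mul_smul, hE, smul_smul]
  rw [show y * z - 1 = (y - 1) + (z - 1) + (y - 1) * (z - 1) by ring, add_smul, add_smul]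
  abel

theorem rankPoly_coeff_mul (r s : ℕ) :
    (rankPoly F).coeff r * (rankPoly F).coeff s = if r = s then (rankPoly F).coeff r else 0 := by
  have h := congrArg (fun p : Γ(G.U, ⊤)[X][X] => (p.coeff s).coeff r)
    (rankPoly_mul F ((C : Γ(G.U, ⊤)[X] →+* Γ(G.U, ⊤)[X][X]).comp C) (C X) X)
  have e1 : (rankPoly F).eval₂ ((C : Γ(G.U, ⊤)[X] →+* Γ(G.U, ⊤)[X][X]).comp C) (C X) = C (rankPoly F) := by
    rw [← hom_eval₂, eval₂_C_X]
  have e2 : (rankPoly F).eval₂ ((C : Γ(G.U, ⊤)[X] →+* Γ(G.U, ⊤)[X][X]).comp C) X = (rankPoly F).map C := by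
    rw [← eval₂_map, eval₂_C_X]
  simp only [e1, e2] at h
  rw [coeff_C_mul, coeff_map, coeff_mul_C] at h
  rw [h, eval₂_eq_sum, Polynomial.sum_def, finset_sum_coeff, finset_sum_coeff]
  simp only [RingHom.comp_apply, mul_pow, ← map_pow, ← mul_assoc, ← map_mul, coeff_C_mul_X_pow,
    apply_ite (fun p : Γ(G.U, ⊤)[X] => p.coeff r), coeff_zero]
  rw [Finset.sum_eq_single s (fun i _ hi => if_neg (fun e => hi e.symm)) (fun hs => by
    simp [notMem_support_iff.1 hs]), if_pos rfl]
  by_cases hrs : r = s <;> simp [hrs]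

theorem rankPoly_coeff_zero : (rankPoly F).coeff 0 = 0 := by
  have hE : (rankPoly F).coeff 0 = (1 - F.mat 1).det := by
    rw [coeff_zero_eq_eval_zero, eval, rankPoly_eval]
    congr 1
    simp [sub_eq_add_neg]
  rw [hE]
  let w : Fin n → Γ(G.U, ⊤) := fun j => G.e.appTop.hom (F.b j)
  have hw : Matrix.vecMul w (1 - F.mat 1) = 0 := by
    ext j
    rw [Matrix.vecMul_sub, Pi.sub_apply, Matrix.vecMul_one, Pi.zero_apply, sub_eq_zero]
    have := congrArg G.e.appTop.hom (F.sum (1 * F.b j))
    rw [map_sum, one_mul] at this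
    simp only [map_mul, appTop_e_s] at this
    change w j = ∑ i, w i * (F.mat 1) i j
    refine this.symm.trans (Finset.sum_congr rfl fun i _ => ?_)
    simp [w, Frame.mat, mul_comm]
  have h1 : ∑ i, F.φ i 1 * w i = 1 := by
    have := congrArg G.e.appTop.hom (F.sum 1)
    rw [map_sum, map_one] at this
    simp only [map_mul, appTop_e_s] at this
    exact this
  have h2 : ∀ j, (1 - F.mat 1).det * w j = 0 := fun j => by
    have := congrArg (fun v => Matrix.vecMul v (1 - F.mat 1).adjugate j) hw
    simp only [Matrix.vecMul_vecMul, Matrix.mul_adjugate, Matrix.vecMul_smul, Matrix.vecMul_one, Matrix.zero_vecMul,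
      Pi.smul_apply, smul_eq_mul, Pi.zero_apply] at this
    exact this
  rw [← mul_one (1 - F.mat 1).det, ← h1, Finset.mul_sum]
  exact Finset.sum_eq_zero fun i _ => by rw [mul_left_comm, h2, mul_zero]

theorem rankPoly_natDegree_le : (rankPoly F).natDegree ≤ n := by
  have h : rankPoly F = ((X : Γ(G.U, ⊤)[X]) • (F.mat 1).map C + (1 - F.mat 1).map C).det := by
    rw [rankPoly]
    congr 1
    rw [Matrix.map_sub _ (map_sub C), Matrix.map_one C (map_zero C) (map_one C), sub_smul, one_smul]
    abel
  rw [h]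
  simpa using natDegree_det_X_add_C_le (F.mat 1) (1 - F.mat 1)

theorem sum_rankPoly_coeff : ∑ r ∈ Finset.range (n + 1), (rankPoly F).coeff r = 1 := by
  have := rankPoly_eval F (RingHom.id Γ(G.U, ⊤)) 1
  rw [eval₂_id, sub_self, zero_smul, add_zero, Matrix.det_one,
    eval_eq_sum_range' (Nat.lt_succ_of_le (rankPoly_natDegree_le F))] at this
  simpa using this

theorem poly_matrix_aux {L : Type*} [CommRing L] {κ m : Type*} [Fintype κ] (x : κ → L) (M : κ → Matrix m m L[X])
    (N : Matrix m m L[X]) (f : L) (h : ∑ p, C (x p) • M p = C f • N) :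
    ((X : L[X]) - 1) • N + ∑ p, (-C (x p)) • M p = ((X : L[X]) - C f - 1) • N := by
  simp only [neg_smul, Finset.sum_neg_distrib, h]
  rw [sub_right_comm, sub_smul ((X : L[X]) - 1) (C f), ← sub_eq_add_neg]

theorem sum_idem_mul_pow {L : Type*} [CommRing L] (n : ℕ) (e : ℕ → L) (d y : L) (h0 : e 0 = 0)
    (hmul : ∀ r s, e r * e s = if r = s then e r else 0) (hsum : ∑ r ∈ Finset.range (n + 1), e r = 1)
    (hd : d = ∑ r ∈ Finset.range (n + 1), e r * y ^ r) :
    ∑ r ∈ Finset.range (n + 1), e r * d ^ (n.factorial / r) = y ^ n.factorial := by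
  calc ∑ r ∈ Finset.range (n + 1), e r * d ^ (n.factorial / r)
      = ∑ r ∈ Finset.range (n + 1), e r * y ^ n.factorial := by
        refine Finset.sum_congr rfl fun r hr => ?_
        rcases eq_or_ne r 0 with rfl | hr0
        · simp [h0]
        have hidem : IsIdempotentElem (e r) := by rw [IsIdempotentElem, hmul, if_pos rfl]
        have hD : e r * d = e r * y ^ r := by
          rw [hd, Finset.mul_sum,
            Finset.sum_eq_single r (fun i _ hi => by rw [← mul_assoc, hmul, if_neg hi.symm, zero_mul])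
              (fun h => absurd hr h), ← mul_assoc, hidem.eq]
        have hpow : ∀ (m : ℕ) (p : L), m ≠ 0 → e r * p ^ m = (e r * p) ^ m := fun m p hm => by
          obtain ⟨m, rfl⟩ := Nat.exists_eq_succ_of_ne_zero hm
          rw [mul_pow, hidem.pow_succ_eq]
        have hdiv : r ∣ n.factorial :=
          Nat.dvd_factorial (Nat.pos_of_ne_zero hr0) (Nat.lt_succ_iff.1 (Finset.mem_range.1 hr))
        have hm : n.factorial / r ≠ 0 := fun e => n.factorial_pos.ne'
          ((Nat.mul_div_cancel' hdiv).symm.trans (by rw [e, mul_zero]))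
        rw [hpow _ _ hm, hD, ← hpow _ _ hm, ← pow_mul, Nat.mul_div_cancel' hdiv]
    _ = y ^ n.factorial := by rw [← Finset.sum_mul, hsum, one_mul]

set_option synthInstance.maxHeartbeats 200000 in
theorem isNilpotent_of_tmul_eq_zero {C A C' : Type u} [CommRing C] [CommRing A] [CommRing C'] [Algebra C A]
    [Algebra C C'] [Algebra.IsIntegral C A] [FaithfulSMul C A] (c : C') (hc : (1 : A) ⊗ₜ[C] c = 0) :
    IsNilpotent c := by
  rw [nilpotent_iff_mem_prime]
  intro q hq
  let r := q.comap (algebraMap C C')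
  haveI hr : r.IsPrime := hq.comap _
  haveI : Nontrivial (r.ResidueField ⊗[C] A) :=
    (PrimeSpectrum.nontrivial_iff_mem_rangeComap ⟨r, hr⟩).2 (Algebra.IsIntegral.comap_surjective C A ⟨r, hr⟩)
  letI : Algebra r.ResidueField q.ResidueField :=
    (Ideal.ResidueField.mapₐ r q (Algebra.ofId C C') rfl).toRingHom.toAlgebra
  haveI : IsScalarTower C r.ResidueField q.ResidueField :=
    IsScalarTower.of_algebraMap_eq' (Ideal.ResidueField.mapₐ r q (Algebra.ofId C C') rfl).comp_algebraMap.symm
  haveI : Module.Free r.ResidueField q.ResidueField := Module.Free.of_divisionRing _ _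
  haveI : Module.Flat r.ResidueField q.ResidueField := Module.Flat.of_free
  haveI : Nontrivial (q.ResidueField ⊗[r.ResidueField] (r.ResidueField ⊗[C] A)) :=
    Algebra.TensorProduct.nontrivial_of_algebraMap_injective_of_flat_left r.ResidueField _ _
      (algebraMap r.ResidueField (r.ResidueField ⊗[C] A)).injective
  haveI : IsScalarTower r.ResidueField r.ResidueField q.ResidueField := IsScalarTower.left _
  haveI : Nontrivial (A ⊗[C] q.ResidueField) :=
    (((Algebra.TensorProduct.cancelBaseChange C r.ResidueField r.ResidueField q.ResidueField A).restrictScalars C).trans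
      (Algebra.TensorProduct.comm C q.ResidueField A)).injective.nontrivial
  by_contra hcq
  have hne : algebraMap C' q.ResidueField c ≠ 0 := by
    rw [Ne, Ideal.algebraMap_residueField_eq_zero]; exact hcq
  have hunit : IsUnit ((1 : A) ⊗ₜ[C] algebraMap C' q.ResidueField c) :=
    (isUnit_iff_ne_zero.2 hne).map (Algebra.TensorProduct.includeRight : q.ResidueField →ₐ[C] A ⊗[C] q.ResidueField)
  have h0 : (1 : A) ⊗ₜ[C] algebraMap C' q.ResidueField c = 0 := by
    have := congrArg (Algebra.TensorProduct.map (AlgHom.id C A) (IsScalarTower.toAlgHom C C' q.ResidueField)) hc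
    simpa using this
  rw [h0] at hunit
  exact not_isUnit_zero hunit

include F in
theorem invariants_baseChange (C' : Type u) [CommRing C'] [Algebra G.invariants C'] :
    letI : Algebra G.invariants Γ(G.R, ⊤) := (G.s.appTop.hom.comp G.invariants.subtype).toAlgebra
    ∀ (sT tT : TensorProduct G.invariants Γ(G.U, ⊤) C' →ₐ[G.invariants] TensorProduct G.invariants Γ(G.R, ⊤) C'),
      (∀ (a : Γ(G.U, ⊤)) (c : C'), sT (a ⊗ₜ c) = G.s.appTop.hom a ⊗ₜ c) →
      (∀ (a : Γ(G.U, ⊤)) (c : C'), tT (a ⊗ₜ c) = G.t.appTop.hom a ⊗ₜ c) →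
      (∀ f : TensorProduct G.invariants Γ(G.U, ⊤) C', sT f = tT f → ∃ (n : ℕ) (P : Polynomial C'), 0 < n ∧
        Polynomial.map (Algebra.TensorProduct.includeRight : C' →ₐ[G.invariants] TensorProduct G.invariants Γ(G.U, ⊤) C').toRingHom P =
          (Polynomial.X - Polynomial.C f) ^ n) ∧
      (∀ c : C', (Algebra.TensorProduct.includeRight : C' →ₐ[G.invariants] TensorProduct G.invariants Γ(G.U, ⊤) C') c = 0 → IsNilpotent c) ∧
      (Module.Flat G.invariants C' → Function.Injective (Algebra.TensorProduct.includeRight : C' →ₐ[G.invariants] TensorProduct G.invariants Γ(G.U, ⊤) C') ∧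
        ∀ f : TensorProduct G.invariants Γ(G.U, ⊤) C', sT f = tT f → f ∈ Set.range (Algebra.TensorProduct.includeRight : C' →ₐ[G.invariants] TensorProduct G.invariants Γ(G.U, ⊤) C')) := by
  classical
  letI : Algebra G.invariants Γ(G.R, ⊤) := (G.s.appTop.hom.comp G.invariants.subtype).toAlgebra
  intro sT tT hsT htT
  let ι' : C' →+* Γ(G.U, ⊤) ⊗[G.invariants] C' :=
    (Algebra.TensorProduct.includeRight : C' →ₐ[G.invariants] TensorProduct G.invariants Γ(G.U, ⊤) C').toRingHom
  let η : Γ(G.U, ⊤) →+* Γ(G.U, ⊤) ⊗[G.invariants] C' := Algebra.TensorProduct.includeLeftRingHom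
  have hη : ∀ x : G.invariants, ι' (algebraMap G.invariants C' x) = η x := fun x => by
    change (1 : Γ(G.U, ⊤)) ⊗ₜ[G.invariants] algebraMap G.invariants C' x = (x : Γ(G.U, ⊤)) ⊗ₜ 1
    rw [Algebra.algebraMap_eq_smul_one, TensorProduct.tmul_smul, TensorProduct.smul_tmul']
    rw [show x • (1 : Γ(G.U, ⊤)) = (x : Γ(G.U, ⊤)) from mul_one _]
  refine ⟨fun f hf => ?_, fun c hc => ?_, fun hflat => ?_⟩
  · obtain ⟨s, hs⟩ := TensorProduct.exists_finset f
    let ι : Type u := Option s
    let a : ι → Γ(G.U, ⊤) := fun k => k.elim 1 fun p => p.1.1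
    let z : ι → C'[X] := fun k => k.elim (X - 1) fun p => -C p.1.2
    obtain ⟨P, hP⟩ := exists_lift_det F a
    let Q : C'[X] := MvPolynomial.eval₂ ((C : C' →+* C'[X]).comp (algebraMap G.invariants C')) z P
    -- coordinates after base change
    let φ : Fin n → (Γ(G.R, ⊤) ⊗[G.invariants] C' →ₗ[G.invariants] Γ(G.U, ⊤) ⊗[G.invariants] C') := fun i =>
      TensorProduct.map
        { toFun := F.φ i
          map_add' := map_add _
          map_smul' := fun x y => by
            change F.φ i (G.s.appTop.hom x * y) = (x : Γ(G.U, ⊤)) * F.φ i y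
            rw [F.smul] }
        LinearMap.id
    have hφ : ∀ i g w, φ i (sT g * w) = g * φ i w := by
      intro i g w
      induction g using TensorProduct.induction_on with
      | zero => simp
      | add p q hp hq => rw [map_add, add_mul, map_add, hp, hq, add_mul]
      | tmul x c =>
        induction w using TensorProduct.induction_on with
        | zero => simp
        | add p q hp hq => rw [mul_add, map_add, hp, hq, map_add, mul_add]
        | tmul y d => simp [φ, hsT, F.smul]
    have hM : ∑ p : s, (ι' p.1.2) • (F.mat (G.t.appTop.hom p.1.1)).map η = f • (F.mat 1).map η := by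
      ext i j
      simp only [Matrix.sum_apply, Matrix.smul_apply, Matrix.map_apply, smul_eq_mul]
      have h1 : φ i (sT f * ((F.b j) ⊗ₜ[G.invariants] (1 : C'))) = f * η (F.mat 1 i j) := by
        rw [hφ]
        congr 1
        simp [φ, η, Frame.mat]
      rw [← h1, hf]
      conv_rhs => rw [hs, map_sum, Finset.sum_mul, map_sum, ← Finset.sum_coe_sort]
      refine Finset.sum_congr rfl fun p _ => ?_
      rw [htT]
      change ((1 : Γ(G.U, ⊤)) ⊗ₜ[G.invariants] p.1.2) * (_ ⊗ₜ[G.invariants] (1 : C')) = _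
      simp [φ, Frame.mat]
    let ρ : Γ(G.U, ⊤) →+* (Γ(G.U, ⊤) ⊗[G.invariants] C')[X] := C.comp η
    have hQ : Q.map ι' = (rankPoly F).eval₂ ρ (X - C f) := by
      rw [rankPoly_eval]
      have h := congrArg (MvPolynomial.eval₂Hom ρ fun k => (z k).map ι') hP
      rw [MvPolynomial.coe_eval₂Hom, MvPolynomial.eval₂_map] at h
      have hl : Q.map ι' = MvPolynomial.eval₂ (ρ.comp G.invariants.subtype) (fun k => (z k).map ι') P := by
        simp only [Q]
        rw [← coe_mapRingHom, MvPolynomial.eval₂_comp_left]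
        congr 1
        ext x : 1
        simp [ρ, hη]
      rw [hl, h, ← MvPolynomial.coe_eval₂Hom, RingHom.map_det]
      congr 1
      rw [map_add, map_one, map_sum]
      congr 1
      have hC : ∀ (k : ι), (MvPolynomial.eval₂Hom ρ fun k => (z k).map ι').mapMatrix
          ((MvPolynomial.X k : MvPolynomial ι Γ(G.U, ⊤)) • (F.mat (G.t.appTop.hom (a k))).map MvPolynomial.C) =
          (z k).map ι' • (F.mat (G.t.appTop.hom (a k))).map ρ := fun k => by
        ext1 i j; simp
      simp only [hC]
      rw [Fintype.sum_option]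
      simp only [a, z, Option.elim, map_one, Polynomial.map_sub, Polynomial.map_X, Polynomial.map_one,
        Polynomial.map_neg, Polynomial.map_C, neg_smul, Finset.sum_neg_distrib]
      have h2 : ∑ p : s, (C (ι' p.1.2)) • (F.mat (G.t.appTop.hom p.1.1)).map ρ = C f • (F.mat 1).map ρ := by
        have := congrArg (fun M => M.map (C (R := Γ(G.U, ⊤) ⊗[G.invariants] C'))) hM
        ext1 i j
        have := congrFun (congrFun this i) j
        simpa [ρ, Matrix.sum_apply] using this
      exact poly_matrix_aux _ _ _ f h2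
    let N := n.factorial
    have hinv : ∀ r, (rankPoly F).coeff r ∈ G.invariants := fun r => by
      obtain ⟨P₀, hP₀⟩ := exists_lift_det F (ι := PUnit.{u+1}) fun _ => 1
      have h := congrArg (MvPolynomial.eval₂Hom (C : Γ(G.U, ⊤) →+* _) fun _ => X - 1) hP₀
      rw [MvPolynomial.coe_eval₂Hom, MvPolynomial.eval₂_map] at h
      have hr : rankPoly F = (MvPolynomial.eval₂ C (fun _ => X - 1) P₀).map G.invariants.subtype := by
        rw [← coe_mapRingHom, MvPolynomial.eval₂_comp_left]
        refine Eq.trans ?_ (h.symm.trans ?_)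
        · rw [← MvPolynomial.coe_eval₂Hom, RingHom.map_det, rankPoly]
          congr 1
          rw [map_add, map_one, map_sum, Fintype.sum_unique]
          congr 1
          ext1 i j
          simp
        · congr 1
          · ext x : 1; simp
          · funext; simp
      rw [hr, coeff_map]
      exact Subtype.coe_prop _
    refine ⟨N, ∑ r ∈ Finset.range (n + 1), C (algebraMap G.invariants C' ⟨_, hinv r⟩) * Q ^ (N / r), n.factorial_pos, ?_⟩
    change Polynomial.map ι' _ = _
    have he : ∀ r, C (ι' (algebraMap G.invariants C' ⟨_, hinv r⟩)) = ρ ((rankPoly F).coeff r) := fun r => by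
      rw [hη]; rfl
    simp only [Polynomial.map_sum, Polynomial.map_mul, Polynomial.map_pow, Polynomial.map_C, he, hQ]
    refine sum_idem_mul_pow n (fun r => ρ ((rankPoly F).coeff r)) _ _ ?_ ?_ ?_ ?_
    · rw [rankPoly_coeff_zero, map_zero]
    · intro r s
      rw [← map_mul, rankPoly_coeff_mul, apply_ite ρ, map_zero]
    · rw [← map_sum, sum_rankPoly_coeff, map_one]
    · exact eval₂_eq_sum_range' ρ (Nat.lt_succ_of_le (rankPoly_natDegree_le F)) _
  · haveI := isIntegral_invariants F
    haveI : FaithfulSMul G.invariants Γ(G.U, ⊤) :=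
      (faithfulSMul_iff_algebraMap_injective _ _).2 Subtype.val_injective
    exact isNilpotent_of_tmul_eq_zero c hc
  · haveI := hflat
    let d : Γ(G.U, ⊤) →ₗ[G.invariants] Γ(G.R, ⊤) :=
      { toFun := fun x => G.s.appTop.hom x - G.t.appTop.hom x
        map_add' := fun x y => by simp; abel
        map_smul' := fun x y => by
          change G.s.appTop.hom ((x : Γ(G.U, ⊤)) * y) - G.t.appTop.hom ((x : Γ(G.U, ⊤)) * y) =
            G.s.appTop.hom x * (G.s.appTop.hom y - G.t.appTop.hom y)
          rw [map_mul, map_mul, mul_sub, show G.t.appTop.hom (x : Γ(G.U, ⊤)) = G.s.appTop.hom x from (x.2).symm] }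
    let i : G.invariants →ₗ[G.invariants] Γ(G.U, ⊤) := Algebra.linearMap _ _
    have hex : Function.Exact i d := fun x => by
      change G.s.appTop.hom x - G.t.appTop.hom x = 0 ↔ _
      rw [sub_eq_zero]
      exact ⟨fun h => ⟨⟨x, h⟩, rfl⟩, fun ⟨y, hy⟩ => hy ▸ y.2⟩
    have hinj := Module.Flat.rTensor_preserves_injective_linearMap (M := C') i Subtype.val_injective
    have hl : ∀ c, LinearMap.rTensor C' i ((TensorProduct.lid G.invariants C').symm c) = (1 : Γ(G.U, ⊤)) ⊗ₜ c := fun c => by
      simp [i]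
    refine ⟨fun c c' h => (TensorProduct.lid G.invariants C').symm.injective (hinj ?_), fun f hf => ?_⟩
    · rw [hl, hl]; exact h
    · have hd : LinearMap.rTensor C' d f = sT f - tT f := by
        clear hf
        induction f using TensorProduct.induction_on with
        | zero => simp
        | tmul x c => rw [hsT, htT, ← TensorProduct.sub_tmul]; rfl
        | add p q hp hq => rw [map_add, map_add, map_add, hp, hq]; abel
      obtain ⟨w, hw⟩ := (Module.Flat.rTensor_exact C' hex f).1 (by rw [hd, hf, sub_self])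
      refine ⟨TensorProduct.lid G.invariants C' w, ?_⟩
      rw [← hw, ← (TensorProduct.lid G.invariants C').symm_apply_apply w, hl]
      simp

end Groth.Agent.GrpdQ
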