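import Groth.Agent.GrpdQ.Frame
import Groth.Prelude.Def_Grpd
import Mathlib.AlgebraicGeometry.Morphisms.Affine
import Mathlib.AlgebraicGeometry.Morphisms.Finite
import Mathlib.AlgebraicGeometry.Morphisms.FlatRank
import Mathlib.RingTheory.IntegralClosure.IsIntegral.Basic

/-!
Finite locally free groupoids on affine schemes: norms and invariants.
-/

set_option autoImplicit false
set_option linter.style.haveILetI false
set_option backward.isDefEq.respectTransparency false

universe u

open CategoryTheory CategoryTheory.Limits AlgebraicGeometry Polynomial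

namespace Groth.Agent.GrpdQ

variable {S : Scheme.{u}} (G : Grpd.GroupoidScheme S)

/-- Composition identifies composable pairs with pairs having the same source. -/
theorem isPullback_c : IsPullback G.c (pullback.snd G.s G.t) G.s G.s := by
  have w : G.c ≫ G.s = pullback.snd G.s G.t ≫ G.s := by
    have := G.comp_s (pullback.fst G.s G.t) (pullback.snd G.s G.t) pullback.condition
    rwa [show pullback.lift (pullback.fst G.s G.t) (pullback.snd G.s G.t) pullback.condition = 𝟙 _ by
      apply pullback.hom_ext <;> simp, Category.id_comp] at this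
  refine ⟨⟨w⟩, ⟨PullbackCone.IsLimit.mk w (fun c => pullback.lift (pullback.lift c.fst (c.snd ≫ G.i)
      (by rw [Category.assoc, G.i_t]; exact c.condition) ≫ G.c) c.snd
      (by rw [G.comp_s, Category.assoc, G.i_s])) (fun c => ?_) (fun c => pullback.lift_snd _ _ _) fun c m h₁ h₂ => ?_⟩⟩
  · rw [G.assoc c.fst (c.snd ≫ G.i) c.snd (by rw [Category.assoc, G.i_t]; exact c.condition) (by rw [Category.assoc, G.i_s])]
    have e : pullback.lift (c.snd ≫ G.i) c.snd (by rw [Category.assoc, G.i_s]) ≫ G.c = c.fst ≫ G.s ≫ G.e := by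
      rw [G.i_comp, ← Category.assoc, ← c.condition, Category.assoc]
    simp only [e]
    exact G.comp_e _
  · apply pullback.hom_ext
    swap
    · rw [pullback.lift_snd]; exact h₂
    rw [pullback.lift_fst]
    have hm : (m ≫ pullback.fst G.s G.t) ≫ G.s = c.snd ≫ G.t := by
      rw [Category.assoc, pullback.condition, ← Category.assoc, h₂]
    have h₁' : pullback.lift (m ≫ pullback.fst G.s G.t) c.snd hm ≫ G.c = c.fst := by
      rw [← h₁]; congr 1
      apply pullback.hom_ext <;> simp [h₂]
    simp only [← h₁']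
    rw [G.assoc (m ≫ pullback.fst G.s G.t) c.snd (c.snd ≫ G.i) hm (by rw [Category.assoc, G.i_t])]
    have e : pullback.lift c.snd (c.snd ≫ G.i) (by rw [Category.assoc, G.i_t]) ≫ G.c =
        (m ≫ pullback.fst G.s G.t) ≫ G.s ≫ G.e := by
      rw [G.comp_i, ← Category.assoc, ← hm, Category.assoc]
    simp only [e]
    exact (G.comp_e _).symm

theorem c_t : G.c ≫ G.t = pullback.fst G.s G.t ≫ G.t := by
  have := G.comp_t (pullback.fst G.s G.t) (pullback.snd G.s G.t) pullback.condition
  rwa [show pullback.lift (pullback.fst G.s G.t) (pullback.snd G.s G.t) pullback.condition = 𝟙 _ by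
    apply pullback.hom_ext <;> simp, Category.id_comp] at this

theorem appTop_e_t (a : Γ(G.U, ⊤)) : G.e.appTop.hom (G.t.appTop.hom a) = a := by
  rw [← RingHom.comp_apply, ← CommRingCat.hom_comp, ← Scheme.Hom.comp_appTop, G.e_t]; simp

theorem appTop_e_s (a : Γ(G.U, ⊤)) : G.e.appTop.hom (G.s.appTop.hom a) = a := by
  rw [← RingHom.comp_apply, ← CommRingCat.hom_comp, ← Scheme.Hom.comp_appTop, G.e_s]; simp

variable [IsAffine G.U] [IsAffine G.R]

theorem exists_frame [IsFinite G.s] [Flat G.s] [LocallyOfFinitePresentation G.s] :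
    ∃ n, Nonempty (Frame G.s.appTop.hom n) := by
  letI := G.s.appTop.hom.toAlgebra
  haveI : Module.Finite Γ(G.U, ⊤) Γ(G.R, ⊤) :=
    RingHom.finite_algebraMap.mp (HasAffineProperty.iff_of_isAffine.1 (‹_› : IsFinite G.s)).2
  haveI : Algebra.FinitePresentation Γ(G.U, ⊤) Γ(G.R, ⊤) :=
    RingHom.finitePresentation_algebraMap.mp (HasRingHomProperty.appTop (P := @LocallyOfFinitePresentation) _ ‹_›)
  haveI : Module.Flat Γ(G.U, ⊤) Γ(G.R, ⊤) :=
    RingHom.flat_algebraMap_iff.mp (HasRingHomProperty.appTop (P := @Flat) _ ‹_›)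
  haveI : Module.FinitePresentation Γ(G.U, ⊤) Γ(G.R, ⊤) := Module.FinitePresentation.of_finite_of_finitePresentation _ _
  haveI : Module.Projective Γ(G.U, ⊤) Γ(G.R, ⊤) := Module.Flat.projective_of_finitePresentation
  exact Frame.exists_of_projective

variable {G} {n : ℕ} (F : Frame G.s.appTop.hom n)

theorem mat_sub_one_map_eq (f : Γ(G.U, ⊤)) :
    ((F.cp (G.t.appTop.hom f)).map G.t.appTop.hom = (F.cp (G.t.appTop.hom f)).map G.s.appTop.hom) ∧
    ((F.cp (G.t.appTop.hom f - 1)).map G.t.appTop.hom = (F.cp (G.t.appTop.hom f - 1)).map G.s.appTop.hom) := by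
  have sq₁ := isPushout_appTop_of_isPullback (IsPullback.of_hasPullback G.s G.t)
  have sq₂ := isPushout_appTop_of_isPullback (isPullback_c G)
  obtain ⟨F₁, h₁⟩ := Frame.exists_baseChange sq₁.flip F
  obtain ⟨F₂, h₂⟩ := Frame.exists_baseChange sq₂.flip F
  have e : (pullback.fst G.s G.t).appTop.hom (G.t.appTop.hom f) = G.c.appTop.hom (G.t.appTop.hom f) := by
    rw [← RingHom.comp_apply, ← CommRingCat.hom_comp, ← Scheme.Hom.comp_appTop, ← c_t, Scheme.Hom.comp_appTop,
      CommRingCat.hom_comp, RingHom.comp_apply]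
  have key : ∀ y, (pullback.fst G.s G.t).appTop.hom y = G.c.appTop.hom y →
      (F.cp y).map G.t.appTop.hom = (F.cp y).map G.s.appTop.hom := fun y hy => by
    rw [Frame.cp, ← Matrix.charpoly_map, ← Matrix.charpoly_map, ← h₁, ← h₂, hy]
    exact F₁.cp_eq' F₂ _
  exact ⟨key _ e, key _ (by rw [map_sub, map_sub, e, map_one, map_one])⟩

theorem coeff_mem (f : Γ(G.U, ⊤)) (i : ℕ) : (F.cp (G.t.appTop.hom f)).coeff i ∈ G.invariants := by
  have := congrArg (fun p => p.coeff i) (mat_sub_one_map_eq F f).1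
  simp only [Polynomial.coeff_map] at this
  exact this.symm

theorem norm_mem (f : Γ(G.U, ⊤)) : F.norm (G.t.appTop.hom f) ∈ G.invariants := by
  have h := (mat_sub_one_map_eq F f).2
  change G.s.appTop.hom (F.norm _) = G.t.appTop.hom (F.norm _)
  simp only [Frame.norm_eq_eval, map_mul, map_pow, map_neg, map_one]
  congr 1
  have := congrArg (Polynomial.eval (-1)) h
  rw [Polynomial.eval_map, Polynomial.eval_map] at this
  conv_lhs => rw [← Polynomial.eval₂_at_apply]
  conv_rhs => rw [← Polynomial.eval₂_at_apply]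
  simpa using this.symm

theorem eval_cp (f : Γ(G.U, ⊤)) : (F.cp (G.t.appTop.hom f)).eval f = 0 := by
  have h := F.eval₂_cp (G.t.appTop.hom f)
  rw [← Polynomial.eval_map, ← (mat_sub_one_map_eq F f).1, Polynomial.eval_map, Polynomial.eval₂_at_apply] at h
  have := congrArg G.e.appTop.hom h
  rwa [appTop_e_t, map_zero] at this

include F in
theorem isIntegral_invariants : Algebra.IsIntegral G.invariants Γ(G.U, ⊤) := by
  refine ⟨fun f => ?_⟩
  obtain ⟨q, hq, hdeg, hm⟩ := Polynomial.lifts_and_natDegree_eq_and_monic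
    (f := G.invariants.subtype) (p := F.cp (G.t.appTop.hom f))
    ((Polynomial.lifts_iff_coeff_lifts _).2 fun i => ⟨⟨_, coeff_mem F f i⟩, rfl⟩) (F.monic_cp _)
  refine ⟨q, hm, ?_⟩
  rw [← eval_map]
  exact hq ▸ eval_cp F f

theorem normST_mem (F : Frame G.s.appTop.hom n) (f : Γ(G.U, ⊤)) : G.normST f ∈ G.invariants := by
  letI := G.s.appTop.hom.toAlgebra
  by_cases h : ∃ s : Finset Γ(G.R, ⊤), Nonempty (Module.Basis s Γ(G.U, ⊤) Γ(G.R, ⊤))
  · obtain ⟨s, ⟨e₀⟩⟩ := h
    let e := e₀.reindex s.equivFin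
    have := norm_mem (G := G) (Frame.ofBasis e) f
    rwa [Frame.norm_eq_algebraNorm _ e (fun _ _ => rfl) (fun _ => rfl)] at this
  · rw [Grpd.GroupoidScheme.normST, Algebra.norm_eq_one_of_not_exists_basis _ h]
    exact one_mem _

end Groth.Agent.GrpdQ
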