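import Mathlib.GroupTheory.CosetCover
import Mathlib.RingTheory.IntegralDomain
import Mathlib.RingTheory.Ideal.Quotient.Operations
import Mathlib.RingTheory.Ideal.GoingUp
import Mathlib.FieldTheory.IsAlgClosed.Basic
import Mathlib.Tactic

/-!
Separating finitely many points of an integral extension with values in a field.
-/

set_option autoImplicit false
set_option linter.style.haveILetI false
set_option backward.isDefEq.respectTransparency false

universe u v

namespace Groth.Agent.GrpdQ

open scoped Pointwise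

/-- A finite family of ring maps to a field can be separated from a further one by a single element. -/
theorem exists_separate {A : Type u} {k : Type v} [CommRing A] [Field k] (x₀ : A →+* k) {ι : Type*} [Finite ι]
    (y : ι → A →+* k) (hy : ∀ i, y i ≠ x₀)
    (hinc : ∀ i, RingHom.ker (y i) ≤ RingHom.ker x₀ → RingHom.ker (y i) = RingHom.ker x₀) :
    ∃ f, x₀ f ≠ 0 ∧ ∀ i, y i f ≠ x₀ f := by
  classical
  haveI : Fintype ι := Fintype.ofFinite ι
  by_contra hne
  simp only [not_exists, not_and, not_forall, not_not] at hne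
  haveI : (RingHom.ker x₀).IsPrime := RingHom.ker_isPrime x₀
  let H : Option ι → AddSubgroup A := fun o => o.elim (RingHom.ker x₀).toAddSubgroup
    fun i => ((y i).eqLocus x₀).toAddSubgroup
  have hcov : ⋃ o ∈ (Finset.univ : Finset (Option ι)), (0 : A) +ᵥ (H o : Set A) = Set.univ := by
    refine Set.eq_univ_of_forall fun f => Set.mem_iUnion₂.2 ?_
    simp only [zero_vadd, Finset.mem_univ, exists_true_left]
    by_cases hf : x₀ f = 0
    · exact ⟨none, hf⟩
    · obtain ⟨i, hi⟩ := hne f hf
      exact ⟨some i, hi⟩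
  by_cases hfin : Finite (A ⧸ RingHom.ker x₀)
  · -- the residue field is finite: use a generator of its units
    have hfield : IsField (A ⧸ RingHom.ker x₀) := Finite.isField_of_domain _
    letI := hfield.toField
    obtain ⟨g, hg⟩ := IsCyclic.exists_generator (α := (A ⧸ RingHom.ker x₀)ˣ)
    obtain ⟨g₀, hg₀⟩ := Ideal.Quotient.mk_surjective (g : A ⧸ RingHom.ker x₀)
    have hw : ∀ i, ∃ e, (RingHom.ker (y i) = RingHom.ker x₀ ∧ e = 1) ∨ (y i e = 0 ∧ x₀ e ≠ 0) := by
      intro i
      by_cases h : RingHom.ker (y i) = RingHom.ker x₀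
      · exact ⟨1, Or.inl ⟨h, rfl⟩⟩
      · obtain ⟨e, he, he'⟩ := SetLike.not_le_iff_exists.1 fun hle => h (hinc i hle)
        exact ⟨e, Or.inr ⟨he, he'⟩⟩
    choose e he using hw
    have he₀ : x₀ (∏ i, e i) ≠ 0 := by
      rw [map_prod, Finset.prod_ne_zero_iff]
      intro i _
      rcases he i with ⟨-, h⟩ | ⟨-, h⟩
      · rw [h, map_one]; exact one_ne_zero
      · exact h
    obtain ⟨c, hc⟩ : ∃ c, Ideal.Quotient.mk (RingHom.ker x₀) (c * ∏ i, e i) = 1 := by
      obtain ⟨c, hc⟩ := hfield.mul_inv_cancel (a := Ideal.Quotient.mk (RingHom.ker x₀) (∏ i, e i))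
        (fun h => he₀ (Ideal.Quotient.eq_zero_iff_mem.1 h))
      obtain ⟨c, rfl⟩ := Ideal.Quotient.mk_surjective c
      exact ⟨c, by rwa [mul_comm, map_mul]⟩
    let f := g₀ * (c * ∏ i, e i)
    have hf : Ideal.Quotient.mk (RingHom.ker x₀) f = g := by rw [map_mul, hc, mul_one, hg₀]
    have hf₀ : x₀ f ≠ 0 := fun h => g.ne_zero (hf ▸ Ideal.Quotient.eq_zero_iff_mem.2 h)
    obtain ⟨i, hi⟩ := hne f hf₀
    rcases he i with ⟨hker, -⟩ | ⟨hei, -⟩
    · let X : A ⧸ RingHom.ker x₀ →+* k := Ideal.Quotient.lift _ x₀ fun a ha => ha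
      let Y : A ⧸ RingHom.ker x₀ →+* k := Ideal.Quotient.lift _ (y i) fun a ha => by rwa [← hker] at ha
      have hg' : Y g = X g := by
        rw [← hf]; simpa [X, Y] using hi
      refine hy i (RingHom.ext fun a => ?_)
      change Y (Ideal.Quotient.mk _ a) = X (Ideal.Quotient.mk _ a)
      rcases eq_or_ne (Ideal.Quotient.mk (RingHom.ker x₀) a) 0 with h | h
      · rw [h, map_zero, map_zero]
      · obtain ⟨m, hm⟩ := Subgroup.mem_zpowers_iff.1 (hg (Units.mk0 _ h))
        have : Ideal.Quotient.mk (RingHom.ker x₀) a = (g : A ⧸ RingHom.ker x₀) ^ m := by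
          rw [← Units.val_mk0 h, ← hm, Units.val_zpow_eq_zpow_val]
        rw [this, map_zpow₀, map_zpow₀, hg']
    · apply hf₀
      rw [← hi, map_mul, map_mul, map_prod, Finset.prod_eq_zero (Finset.mem_univ i) hei, mul_zero, mul_zero]
  · -- infinite residue domain: Neumann's lemma
    obtain ⟨o, -, ho⟩ := AddSubgroup.exists_finiteIndex_of_leftCoset_cover hcov
    rcases o with _ | i
    · exact hfin (AddSubgroup.finiteIndex_iff_finite_quotient.1 ho)
    · let E := (y i).eqLocus x₀
      haveI : Finite (A ⧸ E.toAddSubgroup) := AddSubgroup.finiteIndex_iff_finite_quotient.1 ho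
      let m : E →+ (A ⧸ E.toAddSubgroup → A ⧸ E.toAddSubgroup) :=
        { toFun := fun a => QuotientAddGroup.map E.toAddSubgroup E.toAddSubgroup (AddMonoidHom.mulLeft (a : A))
            fun b hb => E.mul_mem a.2 hb
          map_zero' := by
            funext b; obtain ⟨b, rfl⟩ := QuotientAddGroup.mk_surjective b
            simp [QuotientAddGroup.map_mk]
          map_add' := fun a₁ a₂ => by
            funext b; obtain ⟨b, rfl⟩ := QuotientAddGroup.mk_surjective b
            simp [QuotientAddGroup.map_mk, add_mul] }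
      obtain ⟨a, ham, ha⟩ : ∃ a : E, m a = 0 ∧ x₀ a ≠ 0 := by
        by_contra hcon
        simp only [not_exists, not_and, not_not] at hcon
        apply hfin
        let I : AddSubgroup A := m.ker.map E.subtype.toAddMonoidHom
        haveI : m.ker.FiniteIndex := AddSubgroup.finiteIndex_iff_finite_quotient.2
          (Finite.of_injective _ (QuotientAddGroup.kerLift_injective m))
        have hI : I.FiniteIndex := by
          refine ⟨?_⟩
          rw [AddSubgroup.index_map_of_injective _ Subtype.val_injective]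
          refine mul_ne_zero AddSubgroup.FiniteIndex.index_ne_zero ?_
          rw [show E.subtype.toAddMonoidHom.range = E.toAddSubgroup from AddSubgroup.range_subtype E.toAddSubgroup]
          exact ho.index_ne_zero
        refine AddSubgroup.finiteIndex_iff_finite_quotient.1 (AddSubgroup.finiteIndex_of_le (H := I) ?_)
        rintro _ ⟨a, ha, rfl⟩
        exact hcon a ha
      refine hy i (RingHom.ext fun d => ?_)
      have h1 : (a : A) * d ∈ E := by
        have := congrFun ham (QuotientAddGroup.mk d)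
        exact (QuotientAddGroup.eq_zero_iff _).1 this
      have h2 : y i (a : A) = x₀ a := a.2
      have h3 : y i ((a : A) * d) = x₀ ((a : A) * d) := h1
      rw [map_mul, map_mul, h2] at h3
      exact mul_left_cancel₀ ha h3

/-- Points of the base extend to points of an integral extension. -/
theorem exists_extension {C A : Type u} {k : Type v} [CommRing C] [CommRing A] [Field k] [IsAlgClosed k] [Algebra C A]
    [Algebra.IsIntegral C A] (φ : C →+* k) (p : Ideal A) [p.IsPrime]
    (hp : p.comap (algebraMap C A) = RingHom.ker φ) :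
    ∃ x : A →+* k, x.comp (algebraMap C A) = φ ∧ RingHom.ker x = p := by
  haveI : (RingHom.ker φ).IsPrime := RingHom.ker_isPrime φ
  letI : Algebra (C ⧸ RingHom.ker φ) (A ⧸ p) := (Ideal.quotientMap p (algebraMap C A) hp.ge).toAlgebra
  haveI : IsScalarTower C (C ⧸ RingHom.ker φ) (A ⧸ p) := IsScalarTower.of_algebraMap_eq fun _ => rfl
  letI : Algebra (C ⧸ RingHom.ker φ) k := (Ideal.Quotient.lift (RingHom.ker φ) φ fun a ha => ha).toAlgebra
  haveI : Algebra.IsIntegral C (A ⧸ p) := Algebra.IsIntegral.of_surjective (IsScalarTower.toAlgHom C A (A ⧸ p)) Ideal.Quotient.mk_surjective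
  haveI : Algebra.IsIntegral (C ⧸ RingHom.ker φ) (A ⧸ p) := Algebra.IsIntegral.tower_top C
  haveI : FaithfulSMul (C ⧸ RingHom.ker φ) (A ⧸ p) :=
    (faithfulSMul_iff_algebraMap_injective _ _).2 (Ideal.quotientMap_injective' hp.le)
  haveI : FaithfulSMul (C ⧸ RingHom.ker φ) k :=
    (faithfulSMul_iff_algebraMap_injective _ _).2 (RingHom.kerLift_injective φ)
  let l : A ⧸ p →ₐ[C ⧸ RingHom.ker φ] k := IsAlgClosed.lift
  refine ⟨l.toRingHom.comp (Ideal.Quotient.mk p), RingHom.ext fun c => ?_, le_antisymm (fun a ha => ?_) fun a ha => ?_⟩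
  · exact l.commutes (Ideal.Quotient.mk _ c)
  · by_contra hap
    haveI : (RingHom.ker l.toRingHom).IsPrime := RingHom.ker_isPrime _
    have hlt : (⊥ : Ideal (A ⧸ p)) < RingHom.ker l.toRingHom :=
      bot_lt_iff_ne_bot.2 fun h => hap (Ideal.Quotient.eq_zero_iff_mem.1 (h.le (show l (Ideal.Quotient.mk p a) = 0 from ha)))
    refine (Ideal.IsIntegral.comap_lt_comap (R := C ⧸ RingHom.ker φ) hlt).ne (le_antisymm (Ideal.comap_mono bot_le) fun c hc => ?_)
    rw [Ideal.mem_comap, RingHom.mem_ker] at hc
    rw [Ideal.mem_comap, Ideal.mem_bot, show c = 0 from (map_eq_zero_iff _ (FaithfulSMul.algebraMap_injective (C ⧸ RingHom.ker φ) k)).1 ((l.commutes c).symm.trans hc), map_zero]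
  · simp [Ideal.Quotient.eq_zero_iff_mem.2 ha]

end Groth.Agent.GrpdQ
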