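import Groth.Agent.GrpdQ.Basic
import Groth.Agent.GrpdQ.Separate
import Mathlib.LinearAlgebra.FreeModule.Finite.Matrix
import Mathlib.RingTheory.Nullstellensatz
import Mathlib.FieldTheory.IsAlgClosed.AlgebraicClosure

/-!
Fibres of the quotient map of a finite locally free groupoid.
-/

set_option autoImplicit false
set_option linter.style.haveILetI false
set_option backward.isDefEq.respectTransparency false

universe u

open CategoryTheory CategoryTheory.Limits AlgebraicGeometry Polynomial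

namespace Groth.Agent.GrpdQ

/-- A nonzero root of the characteristic polynomial over a point is a value at a point over it. -/
theorem exists_point_of_root {A B : CommRingCat.{u}} {σ : A ⟶ B} {n : ℕ} (F : Frame σ.hom n)
    (hfin : σ.hom.Finite) {k : Type u} [Field k] [IsAlgClosed k] (x : A →+* k) (y : B) {l : k} (hl : l ≠ 0)
    (h : ((F.cp y).map x).eval l = 0) : ∃ r : B →+* k, r.comp σ.hom = x ∧ r y = l := by
  classical
  let ρ : A ⟶ CommRingCat.of k := CommRingCat.ofHom x
  have sq : IsPushout ρ σ (pushout.inl ρ σ) (pushout.inr ρ σ) := IsPushout.of_hasPushout ρ σ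
  set W := pushout ρ σ
  set h' := pushout.inl ρ σ with hh'
  set g := pushout.inr ρ σ with hg
  obtain ⟨F', hF'⟩ := Frame.exists_baseChange sq F
  letI := h'.hom.toAlgebra
  have hWfin : Module.Finite k W := by
    refine ⟨⟨Finset.univ.image F'.b, ?_⟩⟩
    rw [Finset.coe_image, Finset.coe_univ, Set.image_univ, eq_top_iff]
    intro z _
    rw [← F'.sum z]
    exact Submodule.sum_mem _ fun i _ => Submodule.smul_mem _ (F'.φ i z) (Submodule.subset_span ⟨i, rfl⟩)
  suffices hsuff : ∃ r : W →+* k, r.comp h'.hom = RingHom.id k ∧ r (g.hom y) = l by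
    obtain ⟨r, hr₁, hr₂⟩ := hsuff
    refine ⟨r.comp g.hom, ?_, hr₂⟩
    have := congrArg (fun m => r.comp (CommRingCat.Hom.hom m)) sq.w
    simp only [CommRingCat.hom_comp] at this
    rw [RingHom.comp_assoc, ← this, ← RingHom.comp_assoc, hr₁, RingHom.id_comp]
    rfl
  by_contra hne
  simp only [not_exists, not_and] at hne
  have hu : IsUnit (h'.hom l - g.hom y) := by
    by_contra hu
    obtain ⟨m, hm, hmem⟩ := Ideal.exists_le_maximal (Ideal.span {h'.hom l - g.hom y}) (fun e => hu (Ideal.span_singleton_eq_top.1 e))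
    letI : Field (W ⧸ m) := Ideal.Quotient.field m
    haveI : Module.Finite k (W ⧸ m) := Module.Finite.of_surjective (Ideal.Quotient.mkₐ k m).toLinearMap Ideal.Quotient.mk_surjective
    have hb : Function.Bijective (algebraMap k (W ⧸ m)) :=
      IsAlgClosed.algebraMap_bijective_of_isIntegral
    let e := RingEquiv.ofBijective _ hb
    refine hne (e.symm.toRingHom.comp (Ideal.Quotient.mk m)) (RingHom.ext fun c => e.symm_apply_apply c) ?_
    have : Ideal.Quotient.mk m (h'.hom l) = Ideal.Quotient.mk m (g.hom y) :=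
      Ideal.Quotient.eq.2 (hmem (Ideal.mem_span_singleton_self _))
    change e.symm (Ideal.Quotient.mk m (g.hom y)) = l
    rw [← this]
    exact e.symm_apply_apply l
  obtain ⟨w, hw⟩ := hu.exists_right_inv
  have hM : F'.mat (g.hom y) = (F.mat y).map x := hF' y
  have hmul : (Matrix.scalar (Fin n) l - F'.mat (g.hom y)) * (F'.mat w + l⁻¹ • (1 - F'.mat 1)) = 1 := by
    have e1 : F'.mat (g.hom y) * F'.mat 1 = F'.mat (g.hom y) := by rw [← Frame.mat_mul, mul_one]
    have e2 : l • F'.mat w - F'.mat (g.hom y) * F'.mat w = F'.mat 1 := by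
      rw [← Frame.mat_smul, ← Frame.mat_mul, ← hw]
      rw [sub_mul, eq_comm, ← sub_eq_zero]
      have := Frame.mat_add F' (h'.hom l * w - g.hom y * w) (g.hom y * w)
      rw [sub_add_cancel] at this
      rw [this]; abel
    simp only [Matrix.scalar_apply, sub_mul, mul_add, mul_smul_comm, mul_sub, mul_one, e1, sub_self, smul_zero,
      add_zero, ← Matrix.smul_eq_diagonal_mul, smul_sub, smul_smul, inv_mul_cancel₀ hl, one_smul]
    rw [← e2]
    simp only [← Matrix.diagonal_smul, Pi.smul_def, smul_eq_mul, inv_mul_cancel₀ hl, Matrix.diagonal_one]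
    abel
  have hz : (Matrix.scalar (Fin n) l - F'.mat (g.hom y)).det = 0 := by
    rw [← Matrix.eval_charpoly, hM, Matrix.charpoly_map]
    exact h
  have := congrArg Matrix.det hmul
  rw [Matrix.det_mul, hz, zero_mul, Matrix.det_one] at this
  exact zero_ne_one this

variable {S : Scheme.{u}} {G : Grpd.GroupoidScheme S} [IsAffine G.U] [IsAffine G.R] {n : ℕ}

/-- Two geometric points with the same invariant functions are related. -/
theorem exists_arrow (F : Frame G.s.appTop.hom n) (hfin : G.s.appTop.hom.Finite) {k : Type u} [Field k] [IsAlgClosed k]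
    (x₀ x₁ : Γ(G.U, ⊤) →+* k) (hx : ∀ c ∈ G.invariants, x₀ c = x₁ c) :
    ∃ r : Γ(G.R, ⊤) →+* k, r.comp G.t.appTop.hom = x₀ ∧ r.comp G.s.appTop.hom = x₁ := by
  classical
  haveI := isIntegral_invariants F
  letI := G.s.appTop.hom.toAlgebra
  haveI : Module.Finite Γ(G.U, ⊤) Γ(G.R, ⊤) := RingHom.finite_algebraMap.mp hfin
  let ι := {r : Γ(G.R, ⊤) →+* k // r.comp G.s.appTop.hom = x₁}
  haveI : Finite ι := by
    let ρ : Γ(G.U, ⊤) ⟶ CommRingCat.of k := CommRingCat.ofHom x₁
    letI : Algebra Γ(G.U, ⊤) k := x₁.toAlgebra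
    haveI : Finite (TensorProduct Γ(G.U, ⊤) k Γ(G.R, ⊤) →ₐ[k] k) := Finite.algHom k _ k
    refine Finite.of_injective (β := TensorProduct Γ(G.U, ⊤) k Γ(G.R, ⊤) →ₐ[k] k)
      (fun r => Algebra.TensorProduct.lift (AlgHom.id k k) ⟨r.1, fun a => RingHom.congr_fun r.2 a⟩ fun _ _ => mul_comm _ _) ?_
    intro r r' e
    refine Subtype.ext (RingHom.ext fun z => ?_)
    simpa using AlgHom.congr_fun e (1 ⊗ₜ z)
  by_contra hne
  simp only [not_exists, not_and] at hne
  have hC : ∀ (r : ι) (c) (hc : c ∈ G.invariants), r.1 (G.t.appTop.hom c) = x₀ c := fun r c hc => by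
    rw [hx c hc, ← RingHom.congr_fun r.2 c]
    exact congrArg r.1 (show G.t.appTop.hom c = G.s.appTop.hom c from hc.symm)
  obtain ⟨f, hf₀, hf⟩ := exists_separate x₀ (fun r : ι => r.1.comp G.t.appTop.hom) (fun r h => hne r.1 h r.2)
    (fun r hle => by
      by_contra h
      haveI : (RingHom.ker (r.1.comp G.t.appTop.hom)).IsPrime := RingHom.ker_isPrime _
      refine (Ideal.IsIntegral.comap_lt_comap (R := G.invariants) (lt_of_le_of_ne hle h)).ne (Ideal.ext fun c => ?_)
      change r.1 (G.t.appTop.hom c.1) = 0 ↔ x₀ c.1 = 0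
      rw [hC r c.1 c.2])
  have hroot : ((F.cp (G.t.appTop.hom f)).map x₁).eval (x₀ f) = 0 := by
    have : (F.cp (G.t.appTop.hom f)).map x₁ = (F.cp (G.t.appTop.hom f)).map x₀ := by
      ext i
      rw [coeff_map, coeff_map, hx _ (coeff_mem F f i)]
    rw [this, eval_map, eval₂_at_apply, eval_cp, map_zero]
  obtain ⟨r, hr, hrl⟩ := exists_point_of_root F hfin x₁ (G.t.appTop.hom f) hf₀ hroot
  exact hf ⟨r, hr⟩ hrl

/-- The morphism of an affine scheme given on global functions. -/
noncomputable def pt {X : Scheme.{u}} [IsAffine X] {k : Type u} [CommRing k] (φ : Γ(X, ⊤) →+* k) :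
    Spec (CommRingCat.of k) ⟶ X :=
  Spec.map (CommRingCat.ofHom φ) ≫ X.isoSpec.inv

theorem pt_comp {X Y : Scheme.{u}} [IsAffine X] [IsAffine Y] {k : Type u} [CommRing k] (f : X ⟶ Y) (φ : Γ(X, ⊤) →+* k) :
    pt φ ≫ f = pt (φ.comp f.appTop.hom) := by
  have h : Spec.map f.appTop ≫ Y.isoSpec.inv = X.isoSpec.inv ≫ f := Scheme.isoSpec_inv_naturality f
  simp only [pt, CommRingCat.ofHom_comp, CommRingCat.ofHom_hom, Spec.map_comp, Category.assoc, h]

theorem exists_pt {X : Scheme.{u}} [IsAffine X] {k : Type u} [CommRing k] (x : Spec (CommRingCat.of k) ⟶ X) :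
    ∃ φ, pt φ = x :=
  ⟨(Spec.preimage (x ≫ X.isoSpec.hom)).hom, by simp [pt]⟩

theorem pt_injective {X : Scheme.{u}} [IsAffine X] {k : Type u} [CommRing k] {φ ψ : Γ(X, ⊤) →+* k} (h : pt φ = pt ψ) : φ = ψ := by
  simp only [pt, cancel_mono] at h
  exact congrArg CommRingCat.Hom.hom (Spec.map_injective h)

theorem pt_toQuot {k : Type u} [CommRing k] (φ : Γ(G.U, ⊤) →+* k) :
    pt φ ≫ G.toQuot = Spec.map (CommRingCat.ofHom (φ.comp G.invariants.subtype)) := by
  rw [pt, Grpd.GroupoidScheme.toQuot, ← Scheme.isoSpec_hom, Category.assoc, Iso.inv_hom_id_assoc, ← Spec.map_comp]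
  rfl

theorem arrow_iff (F : Frame G.s.appTop.hom n) (hfin : G.s.appTop.hom.Finite) {k : Type u} [Field k] [IsAlgClosed k]
    (x₀ x₁ : Spec (CommRingCat.of k) ⟶ G.U) :
    x₀ ≫ G.toQuot = x₁ ≫ G.toQuot ↔ ∃ r : Spec (CommRingCat.of k) ⟶ G.R, r ≫ G.t = x₀ ∧ r ≫ G.s = x₁ := by
  obtain ⟨φ₀, rfl⟩ := exists_pt x₀
  obtain ⟨φ₁, rfl⟩ := exists_pt x₁
  rw [pt_toQuot, pt_toQuot]
  constructor
  · intro h
    obtain ⟨r, h₀, h₁⟩ := exists_arrow F hfin φ₀ φ₁ fun c hc =>
      RingHom.congr_fun (congrArg CommRingCat.Hom.hom (Spec.map_injective h)) ⟨c, hc⟩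
    exact ⟨pt r, by rw [pt_comp, h₀], by rw [pt_comp, h₁]⟩
  · rintro ⟨r, h₀, h₁⟩
    obtain ⟨ψ, rfl⟩ := exists_pt r
    rw [pt_comp] at h₀ h₁
    rw [← pt_injective h₀, ← pt_injective h₁]
    congr 2
    exact RingHom.ext fun c => congrArg ψ (show G.t.appTop.hom c.1 = G.s.appTop.hom c.1 from c.2.symm)

theorem exists_lift_point (F : Frame G.s.appTop.hom n) {k : Type u} [Field k] [IsAlgClosed k]
    (m : Spec (CommRingCat.of k) ⟶ Spec (CommRingCat.of G.invariants)) :
    ∃ x : Spec (CommRingCat.of k) ⟶ G.U, x ≫ G.toQuot = m := by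
  haveI := isIntegral_invariants F
  let φ : G.invariants →+* k := (Spec.preimage m).hom
  haveI : (RingHom.ker φ).IsPrime := RingHom.ker_isPrime φ
  obtain ⟨q, -, hq', hq⟩ := Ideal.exists_ideal_over_prime_of_isIntegral (S := Γ(G.U, ⊤)) (RingHom.ker φ) ⊥ (by
    rw [← RingHom.ker_eq_comap_bot, (RingHom.injective_iff_ker_eq_bot _).1 Subtype.val_injective]; exact bot_le)
  obtain ⟨x, hx, -⟩ := exists_extension φ q hq
  exact ⟨pt x, by rw [pt_toQuot]; exact (congrArg (fun f => Spec.map (CommRingCat.ofHom f)) hx).trans (Spec.map_preimage m)⟩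

/-- A point of a scheme with values in an algebraically closed field. -/
noncomputable def geomPt {X : Scheme.{u}} (x : X) : Spec (CommRingCat.of (AlgebraicClosure (X.residueField x))) ⟶ X :=
  Spec.map (CommRingCat.ofHom (algebraMap (X.residueField x) (AlgebraicClosure (X.residueField x)))) ≫ X.fromSpecResidueField x

theorem geomPt_apply {X : Scheme.{u}} (x : X) (z : Spec (CommRingCat.of (AlgebraicClosure (X.residueField x)))) :
    geomPt x z = x := by
  rw [geomPt, Scheme.Hom.comp_apply]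
  exact X.fromSpecResidueField_apply x _

theorem surjective_toQuot (F : Frame G.s.appTop.hom n) : Function.Surjective G.toQuot := fun m => by
  obtain ⟨x, hx⟩ := exists_lift_point F (geomPt m)
  obtain ⟨z⟩ : Nonempty (Spec (CommRingCat.of (AlgebraicClosure ((Spec (CommRingCat.of G.invariants)).residueField m)))) := inferInstance
  exact ⟨x z, by rw [← Scheme.Hom.comp_apply, hx, geomPt_apply]⟩

theorem s_toQuot : G.s ≫ G.toQuot = G.t ≫ G.toQuot := by
  refine ext_of_isAffine ?_
  rw [Scheme.Hom.comp_appTop, Scheme.Hom.comp_appTop]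
  ext c
  obtain ⟨c', rfl⟩ : ∃ c', (Scheme.ΓSpecIso (CommRingCat.of G.invariants)).inv.hom c' = c :=
    ⟨(Scheme.ΓSpecIso _).hom.hom c, by simp⟩
  have : G.toQuot.appTop.hom ((Scheme.ΓSpecIso (CommRingCat.of G.invariants)).inv.hom c') = c'.1 := by
    simp [Grpd.GroupoidScheme.toQuot, ← RingHom.comp_apply, ← CommRingCat.hom_comp, Scheme.Hom.comp_appTop]
  simp only [CommRingCat.hom_comp, RingHom.comp_apply, this]
  exact c'.2

theorem fibre_iff (F : Frame G.s.appTop.hom n) (hfin : G.s.appTop.hom.Finite) (u₀ u₁ : G.U) :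
    G.toQuot u₀ = G.toQuot u₁ ↔ ∃ r : G.R, G.t r = u₀ ∧ G.s r = u₁ := by
  constructor
  · intro h
    haveI := isIntegral_invariants F
    let x₁ := geomPt u₁
    obtain ⟨φ₁, hφ₁⟩ := exists_pt x₁
    let p := (G.U.isoSpec.hom u₀).asIdeal
    have hp : p.comap (algebraMap G.invariants Γ(G.U, ⊤)) = RingHom.ker (φ₁.comp G.invariants.subtype) := by
      have e₀ : G.toQuot u₀ = (Spec.map (CommRingCat.ofHom G.invariants.subtype)) (G.U.isoSpec.hom u₀) := by
        rw [Grpd.GroupoidScheme.toQuot, ← Scheme.isoSpec_hom]; rfl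
      obtain ⟨z⟩ : Nonempty (Spec (CommRingCat.of (AlgebraicClosure (G.U.residueField u₁)))) := inferInstance
      have e₁ : G.toQuot u₁ = (pt φ₁ ≫ G.toQuot) z := by rw [Scheme.Hom.comp_apply, hφ₁, geomPt_apply]
      rw [pt_toQuot] at e₁
      have := congrArg PrimeSpectrum.asIdeal (e₀.symm.trans (h.trans e₁))
      refine this.trans ?_
      haveI : IsSimpleOrder (Ideal (AlgebraicClosure (G.U.residueField u₁))) := inferInstance
      change Ideal.comap _ z.asIdeal = _
      rw [(IsSimpleOrder.eq_bot_or_eq_top z.asIdeal).resolve_right z.isPrime.ne_top]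
      rfl
    obtain ⟨φ₀, hc, hker⟩ := exists_extension (φ₁.comp G.invariants.subtype) p hp
    obtain ⟨r, hr₀, hr₁⟩ := (arrow_iff F hfin (pt φ₀) (pt φ₁)).1 (by rw [pt_toQuot, pt_toQuot]; exact congrArg (fun f => Spec.map (CommRingCat.ofHom f)) hc)
    obtain ⟨z⟩ : Nonempty (Spec (CommRingCat.of (AlgebraicClosure (G.U.residueField u₁)))) := inferInstance
    refine ⟨r z, ?_, by rw [← Scheme.Hom.comp_apply, hr₁, hφ₁, geomPt_apply]⟩
    rw [← Scheme.Hom.comp_apply, hr₀]
    refine G.U.isoSpec.hom.isOpenEmbedding.injective (PrimeSpectrum.ext ?_)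
    rw [← Scheme.Hom.comp_apply, pt, Category.assoc, Iso.inv_hom_id, Category.comp_id]
    change Ideal.comap φ₀ z.asIdeal = p
    rw [(IsSimpleOrder.eq_bot_or_eq_top z.asIdeal).resolve_right z.isPrime.ne_top, ← hker]
    rfl
  · rintro ⟨r, rfl, rfl⟩
    rw [← Scheme.Hom.comp_apply, ← Scheme.Hom.comp_apply, s_toQuot]

end Groth.Agent.GrpdQ
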