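import Groth.Agent.GrpdQ.Basic
import Mathlib.RingTheory.TensorProduct.Free

/-!
The free case of the quotient by a finite locally free groupoid.
-/

set_option autoImplicit false
set_option linter.style.haveILetI false
set_option backward.isDefEq.respectTransparency false

universe u

open CategoryTheory CategoryTheory.Limits AlgebraicGeometry TensorProduct

namespace Groth.Agent.GrpdQ

variable {S : Scheme.{u}} {G : Grpd.GroupoidScheme S} [IsAffine G.U] [IsAffine G.R]

/-- Coordinates in a basis of target pullbacks are invariant. -/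
theorem coord_mem (σA : Algebra Γ(G.U, ⊤) Γ(G.R, ⊤)) (hσ : σA = G.s.appTop.hom.toAlgebra)
    {I : Type u} (x : I → Γ(G.U, ⊤)) (b : letI := σA; Module.Basis I Γ(G.U, ⊤) Γ(G.R, ⊤))
    (hb : ∀ i, b i = G.t.appTop.hom (x i)) (f : Γ(G.U, ⊤)) (i : I) :
    b.repr (G.t.appTop.hom f) i ∈ G.invariants := by
  classical
  subst hσ
  letI := G.s.appTop.hom.toAlgebra
  set y := G.t.appTop.hom f
  have sq := (isPushout_appTop_of_isPullback (IsPullback.of_hasPullback G.s G.t)).flip
  let σ := G.s.appTop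
  let ρ := G.t.appTop
  let g := (pullback.fst G.s G.t).appTop
  let h := (pullback.snd G.s G.t).appTop
  let Wty := Γ(pullback G.s G.t, ⊤)
  letI : Algebra Γ(G.U, ⊤) Γ(G.U, ⊤) := Algebra.id _
  have key : ∃ ψ : Wty →+ Γ(G.R, ⊤), (∀ a z, ψ (h.hom a * z) = a * ψ z) ∧
      ∀ z, ψ (g.hom z) = ρ.hom (b.repr z i) := by
    let C₀ := CommRingCat.of Γ(G.U, ⊤)
    let B₁ := CommRingCat.of Γ(G.R, ⊤)
    obtain ⟨φ, hφ⟩ : ∃ φ : Γ(G.R, ⊤) →+ Γ(G.U, ⊤), (∀ a z, φ (σ.hom a * z) = a * φ z) ∧ ∀ z, φ z = b.repr z i :=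
      ⟨((Finsupp.lapply i).comp b.repr.toLinearMap).toAddMonoidHom,
        fun a z => by
          change b.repr (σ.hom a * z) i = a * b.repr z i
          rw [show σ.hom a * z = a • z from rfl, map_smul]; rfl, fun z => rfl⟩
    obtain ⟨ψ, hψ₁, hψ₂⟩ := exists_functional sq φ hφ.1
    exact ⟨ψ, hψ₁, fun z => (hψ₂ z).trans (congrArg ρ.hom (hφ.2 z))⟩
  obtain ⟨ψ, hψ₁, hψ₂⟩ := key
  have hct : ∀ a, G.c.appTop.hom (ρ.hom a) = g.hom (ρ.hom a) := fun a => by
    simp only [ρ, g, ← RingHom.comp_apply, ← CommRingCat.hom_comp, ← Scheme.Hom.comp_appTop, c_t]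
  have hcs : ∀ a, G.c.appTop.hom (σ.hom a) = h.hom (σ.hom a) := fun a => by
    simp only [σ, h, ← RingHom.comp_apply, ← CommRingCat.hom_comp, ← Scheme.Hom.comp_appTop, (isPullback_c G).w]
  have hval : ∀ j, ψ (g.hom (b j)) = if j = i then 1 else 0 := fun j => by
    rw [hψ₂, Module.Basis.repr_self, Finsupp.single_apply]
    split <;> simp
  have e : y = (b.repr y).sum fun j a => σ.hom a * b j := by
    conv_lhs => rw [← b.linearCombination_repr y]
    rfl
  have h₁ : ψ (g.hom y) = ρ.hom (b.repr y i) := hψ₂ y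
  have h₂ : ψ (g.hom y) = σ.hom (b.repr y i) := by
    rw [← hct f, show ρ.hom f = y from rfl]
    conv_lhs => rw [e, map_finsuppSum, map_finsuppSum]
    rw [Finsupp.sum, Finset.sum_eq_single i]
    · rw [map_mul, hcs, show G.c.appTop.hom (b i) = g.hom (b i) by rw [hb]; exact hct _, hψ₁, hval, if_pos rfl, mul_one]
    · intro j _ hj
      rw [map_mul, hcs, show G.c.appTop.hom (b j) = g.hom (b j) by rw [hb]; exact hct _, hψ₁, hval, if_neg hj, mul_zero]
    · intro hi
      rw [Finsupp.notMem_support_iff.1 hi, map_zero, zero_mul, map_zero, map_zero]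
  exact h₂.symm.trans h₁

theorem free_case {I : Type u} (x : I → Γ(G.U, ⊤))
    (hB : letI := G.s.appTop.hom.toAlgebra; ∃ b : Module.Basis I Γ(G.U, ⊤) Γ(G.R, ⊤), ∀ i, b i = G.t.appTop.hom (x i)) :
    (∃ b : Module.Basis I G.invariants Γ(G.U, ⊤), ∀ i, b i = x i) ∧
    (letI := (G.s.appTop.hom.comp G.invariants.subtype).toAlgebra;
      ∀ φ : Γ(G.U, ⊤) ⊗[G.invariants] Γ(G.U, ⊤) →ₗ[G.invariants] Γ(G.R, ⊤),
        (∀ a a' : Γ(G.U, ⊤), φ (a ⊗ₜ[G.invariants] a') = G.t.appTop.hom a * G.s.appTop.hom a') → Function.Bijective φ) := by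
  classical
  letI := G.s.appTop.hom.toAlgebra
  obtain ⟨b, hb⟩ := hB
  have hmem : ∀ f i, b.repr (G.t.appTop.hom f) i ∈ G.invariants := fun f i => coord_mem _ rfl x b hb f i
  have hst : ∀ c : G.invariants, G.t.appTop.hom c.1 = G.s.appTop.hom c.1 := fun c => c.2.symm
  have hspan : ∀ f, f = ∑ i ∈ (b.repr (G.t.appTop.hom f)).support, (⟨_, hmem f i⟩ : G.invariants) • x i := fun f => by
    have h := congrArg G.e.appTop.hom (b.linearCombination_repr (G.t.appTop.hom f))
    rw [Finsupp.linearCombination_apply, Finsupp.sum, map_sum, appTop_e_t] at h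
    conv_lhs => rw [← h]
    refine Finset.sum_congr rfl fun i _ => ?_
    rw [show (b.repr (G.t.appTop.hom f) i • b i) = G.s.appTop.hom (b.repr (G.t.appTop.hom f) i) * b i from rfl,
      map_mul, appTop_e_s, hb, appTop_e_t]
    rfl
  have hli : LinearIndependent G.invariants x := by
    rw [linearIndependent_iff']
    intro s c hc i hi
    have h := congrArg G.t.appTop.hom hc
    rw [map_sum, map_zero] at h
    have h' : ∑ j ∈ s, (c j).1 • b j = 0 := by
      rw [← h]
      refine Finset.sum_congr rfl fun j _ => ?_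
      rw [show (c j • x j) = (c j).1 * x j from rfl, map_mul, hst, hb]
      rfl
    exact Subtype.ext (linearIndependent_iff'.1 b.linearIndependent s _ h' i hi)
  have hsp : ⊤ ≤ Submodule.span G.invariants (Set.range x) := fun f _ => by
    rw [hspan f]
    exact Submodule.sum_mem _ fun i _ => Submodule.smul_mem _ _ (Submodule.subset_span ⟨i, rfl⟩)
  refine ⟨⟨Module.Basis.mk hli hsp, fun i => by simp⟩, ?_⟩
  let e := Module.Basis.mk hli hsp
  intro φ hφ
  let L : (I →₀ Γ(G.U, ⊤)) →+ Γ(G.U, ⊤) ⊗[G.invariants] Γ(G.U, ⊤) :=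
    Finsupp.liftAddHom fun i => (TensorProduct.mk G.invariants _ _ (x i)).toAddMonoidHom
  have hφL : ∀ a, φ (L a) = Finsupp.linearCombination Γ(G.U, ⊤) b a := fun a => by
    induction a using Finsupp.induction_linear with
    | zero => simp
    | add p q hp hq => rw [map_add, map_add, hp, hq, map_add]
    | single i r =>
      rw [Finsupp.linearCombination_single, hb]
      simp only [L, Finsupp.liftAddHom_apply_single, LinearMap.toAddMonoidHom_coe, TensorProduct.mk_apply]
      rw [hφ, mul_comm]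
      rfl
  have hL : Function.Surjective L := fun z => by
    induction z using TensorProduct.induction_on with
    | zero => exact ⟨0, map_zero _⟩
    | add p q hp hq =>
      obtain ⟨a, rfl⟩ := hp; obtain ⟨a', rfl⟩ := hq
      exact ⟨a + a', map_add _ _ _⟩
    | tmul p q =>
      refine ⟨(e.repr p).mapRange (fun c => c.1 * q) (zero_mul _), ?_⟩
      conv_rhs => rw [← e.linearCombination_repr p, Finsupp.linearCombination_apply, Finsupp.sum, TensorProduct.sum_tmul]
      rw [Finsupp.liftAddHom_apply, Finsupp.sum_mapRange_index (fun i => map_zero _), Finsupp.sum]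
      refine Finset.sum_congr rfl fun i _ => ?_
      rw [Module.Basis.mk_apply, TensorProduct.smul_tmul]
      rfl
  constructor
  · intro p q h
    obtain ⟨a, rfl⟩ := hL p; obtain ⟨a', rfl⟩ := hL q
    rw [hφL, hφL] at h
    rw [b.linearIndependent h]
  · intro z
    exact ⟨L (b.repr z), by rw [hφL, b.linearCombination_repr]⟩

end Groth.Agent.GrpdQ
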