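import Groth.Agent.GrpdQ.Fibres
import Groth.Agent.GrpdQ.FreeCase
import Mathlib.AlgebraicGeometry.Morphisms.ClosedImmersion
import Mathlib.RingTheory.Finiteness.Projective
import Mathlib.LinearAlgebra.Matrix.Adjugate
import Mathlib.LinearAlgebra.Matrix.Rank

/-!
The quotient by a finite locally free equivalence relation is finite locally free.
-/

set_option autoImplicit false
set_option linter.style.haveILetI false
set_option backward.isDefEq.respectTransparency false

universe u

open CategoryTheory CategoryTheory.Limits AlgebraicGeometry TensorProduct Matrix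

namespace Groth.Agent.GrpdQ

theorem Frame.exists_baseChange' {A B A' W : CommRingCat.{u}} {σ : A ⟶ B} {ρ : A ⟶ A'} {g : B ⟶ W} {h : A' ⟶ W}
    (sq : IsPushout ρ σ h g) {n : ℕ} (F : Frame σ.hom n) :
    ∃ F' : Frame h.hom n, (∀ i, F'.b i = g.hom (F.b i)) ∧ ∀ i z, F'.φ i (g.hom z) = ρ.hom (F.φ i z) := by
  choose ψ hψ₁ hψ₂ using fun i => exists_functional sq (F.φ i) (F.smul i)
  refine ⟨⟨fun i => g.hom (F.b i), ψ, hψ₁, fun z => ?_⟩, fun i => rfl, hψ₂⟩
  letI := σ.hom.toAlgebra; letI := ρ.hom.toAlgebra; letI := g.hom.toAlgebra; letI := h.hom.toAlgebra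
  letI := (σ ≫ g).hom.toAlgebra
  haveI : IsScalarTower A B W := IsScalarTower.of_algebraMap_eq' rfl
  haveI : IsScalarTower A A' W := IsScalarTower.of_algebraMap_eq' (congrArg CommRingCat.Hom.hom sq.w.symm)
  haveI hP : Algebra.IsPushout A A' B W := CommRingCat.isPushout_iff_isPushout.1 sq
  induction z using hP.out.inductionOn with
  | zero => simp
  | tmul y =>
    change ∑ i, h.hom (ψ i (g.hom y)) * g.hom (F.b i) = g.hom y
    conv_rhs => rw [← F.sum y, map_sum]
    refine Finset.sum_congr rfl fun i _ => ?_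
    rw [hψ₂, map_mul]
    congr 1
    exact congrArg (fun m : A ⟶ W => m.hom (F.φ i y)) sq.w
  | smul a z hz =>
    rw [show a • z = h.hom a * z from rfl]
    simp only [hψ₁, map_mul, mul_assoc, ← Finset.mul_sum]
    rw [hz]
  | add x y hx hy =>
    simp only [map_add, add_mul, Finset.sum_add_distrib, hx, hy]

/-- A left inverse over a field can be replaced by one defined over the ring, up to a scalar. -/
theorem exists_left_inverse_lift {A k : Type u} [CommRing A] [Field k] (x : A →+* k) {n r : ℕ}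
    (M : Matrix (Fin n) (Fin r) A) (Z : Matrix (Fin r) (Fin n) k) (h : Z * M.map x = 1) :
    ∃ (Z₀ : Matrix (Fin r) (Fin n) A) (d : A), x d ≠ 0 ∧ (Z₀ * M).map x = x d • (1 : Matrix (Fin r) (Fin r) k) := by
  classical
  have hinj : Function.Injective (M.map x).mulVec := fun p q e => by
    have := congrArg (Z *ᵥ ·) e
    simpa [Matrix.mulVec_mulVec, h] using this
  have hcols : LinearIndependent k (Matrix.col (M.map x)) := Matrix.mulVec_injective_iff.1 hinj
  obtain ⟨e, he⟩ : ∃ e : Fin r → Fin n, ((M.submatrix e id).map x).det ≠ 0 := by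
    have hrk : Matrix.rank (M.map x) = r := by
      rw [Matrix.rank_eq_finrank_span_cols, finrank_span_eq_card hcols, Fintype.card_fin]
    obtain ⟨κ, e, -, hspan, hli⟩ := exists_linearIndependent' k (M.map x).row
    haveI : Finite κ := hli.finite
    haveI : Fintype κ := Fintype.ofFinite κ
    have hc : Fintype.card κ = r := by
      rw [← finrank_span_eq_card hli, hspan, ← Matrix.rank_eq_finrank_span_row, hrk]
    let q := (Fintype.equivFinOfCardEq hc).symm
    refine ⟨e ∘ q, fun h0 => ?_⟩
    exact Matrix.linearIndependent_rows_iff_isUnit.1 (hli.comp q q.injective) |>.map Matrix.detMonoidHom |>.ne_zero h0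
  let P := M.submatrix e id
  refine ⟨P.adjugate * (1 : Matrix (Fin n) (Fin n) A).submatrix e id, P.det, ?_, ?_⟩
  · rw [RingHom.map_det]; exact he
  · rw [Matrix.mul_assoc, show (1 : Matrix (Fin n) (Fin n) A).submatrix e id * M = P by ext i j; simp [P, Matrix.mul_apply, Matrix.one_apply]]
    ext i j
    simp [Matrix.map_apply, P, Matrix.adjugate_mul, Matrix.one_apply, apply_ite x]

variable {S : Scheme.{u}} (G : Grpd.GroupoidScheme S) [IsAffine G.U] [IsAffine G.R]

/-- Products of source and target pullbacks span the functions on a separated finite relation. -/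
theorem span_s_t [IsFinite G.s] [Mono G.j] :
    letI := G.s.appTop.hom.toAlgebra
    Submodule.span Γ(G.U, ⊤) (Set.range G.t.appTop.hom) = ⊤ := by
  letI := G.s.appTop.hom.toAlgebra
  let q : pullback G.pU G.pU ⟶ G.U ⨯ G.U := prod.lift (pullback.fst _ _) (pullback.snd _ _)
  haveI : Mono q := ⟨fun a b e => pullback.hom_ext (by simpa [q] using congrArg (· ≫ prod.fst) e)
    (by simpa [q] using congrArg (· ≫ prod.snd) e)⟩
  let P := pullback (terminal.from G.U) (terminal.from G.U)
  let l : G.R ⟶ P := pullback.lift G.t G.s (Subsingleton.elim _ _)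
  haveI : IsAffine (⊤_ Scheme.{u}) := inferInstance
  haveI : IsAffine P := inferInstance
  haveI : Mono l := ⟨fun {Z} a b e => by
    rw [← cancel_mono G.j]
    apply pullback.hom_ext
    · have := congrArg (· ≫ pullback.fst _ _) e
      simpa [l, Grpd.GroupoidScheme.j] using this
    · have := congrArg (· ≫ pullback.snd _ _) e
      simpa [l, Grpd.GroupoidScheme.j] using this⟩
  haveI : IsFinite (l ≫ pullback.snd _ _) := by rw [pullback.lift_snd]; infer_instance
  haveI : IsFinite l := IsFinite.of_comp l (pullback.snd (terminal.from G.U) (terminal.from G.U))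
  haveI : IsClosedImmersion l := (IsClosedImmersion.iff_isFinite_and_mono l).2 ⟨‹_›, ‹_›⟩
  have hsurj := (IsClosedImmersion.isAffine_surjective_of_isAffine l).2
  have hgen := CommRingCat.closure_range_union_range_eq_top_of_isPushout
    (isPushout_appTop_of_isPullback (IsPullback.of_hasPullback (terminal.from G.U) (terminal.from G.U)))
  have hM : Algebra.adjoin Γ(G.U, ⊤) (Set.range G.t.appTop.hom) = ⊤ := by
    refine eq_top_iff.2 fun z hz => ?_
    clear hz
    obtain ⟨w, rfl⟩ := hsurj z
    have hw : w ∈ Subring.closure (Set.range (pullback.fst (terminal.from G.U) (terminal.from G.U)).appTop ∪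
        Set.range (pullback.snd (terminal.from G.U) (terminal.from G.U)).appTop) := hgen ▸ Subring.mem_top w
    clear! hsurj
    induction hw using Subring.closure_induction with
    | mem x hx =>
      rcases hx with ⟨a, rfl⟩ | ⟨a, rfl⟩
      · refine Algebra.subset_adjoin ⟨a, ?_⟩
        conv_lhs => rw [← pullback.lift_fst G.t G.s (show G.t ≫ terminal.from G.U = G.s ≫ terminal.from G.U from Subsingleton.elim _ _)]
        rfl
      · have : l.appTop.hom ((pullback.snd (terminal.from G.U) (terminal.from G.U)).appTop.hom a) = algebraMap Γ(G.U, ⊤) Γ(G.R, ⊤) a := by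
          conv_rhs => rw [RingHom.algebraMap_toAlgebra, ← pullback.lift_snd G.t G.s (show G.t ≫ terminal.from G.U = G.s ≫ terminal.from G.U from Subsingleton.elim _ _)]
          rfl
        exact this ▸ Subalgebra.algebraMap_mem _ a
    | zero => rw [map_zero]; exact zero_mem _
    | one => rw [map_one]; exact one_mem _
    | add x y _ _ hx hy => rw [map_add]; exact add_mem hx hy
    | neg x _ hx => rw [map_neg]; exact neg_mem hx
    | mul x y _ _ hx hy => rw [map_mul]; exact mul_mem hx hy
  rw [eq_top_iff, ← Algebra.top_toSubmodule, ← hM, Algebra.adjoin_eq_span, ← RingHom.coe_range]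
  refine Submodule.span_mono ?_
  exact (Submonoid.closure_le (S := G.t.appTop.hom.range.toSubmonoid)).2 le_rfl

variable {G} {n : ℕ} (F : Frame G.s.appTop.hom n)

/-- The coordinate matrix of a finite family of target pullbacks. -/
def coordMat {r : ℕ} (a : Fin r → Γ(G.U, ⊤)) : Matrix (Fin n) (Fin r) Γ(G.U, ⊤) :=
  Matrix.of fun i j => F.φ i (G.t.appTop.hom (a j))

theorem mat_one_mul_coordMat {r : ℕ} (a : Fin r → Γ(G.U, ⊤)) : F.mat 1 * coordMat F a = coordMat F a := by
  ext i j
  simp only [coordMat, Frame.mat, Matrix.mul_apply, Matrix.of_apply, one_mul]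
  conv_rhs => rw [← F.sum (G.t.appTop.hom (a j)), map_sum]
  exact Finset.sum_congr rfl fun k _ => by rw [F.smul, mul_comm]

/-- The family is a basis of the fibre at a point with values in a field. -/
def GoodAt {r : ℕ} (a : Fin r → Γ(G.U, ⊤)) {k : Type u} [Field k] (x : Γ(G.U, ⊤) →+* k) : Prop :=
  ∃ Z : Matrix (Fin r) (Fin n) k, (coordMat F a).map x * Z = (F.mat 1).map x ∧ Z * (coordMat F a).map x = 1

theorem goodAt_of_arrow {r : ℕ} (a : Fin r → Γ(G.U, ⊤)) {k : Type u} [Field k] (ρ : Γ(G.R, ⊤) →+* k)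
    (h : GoodAt F a (ρ.comp G.t.appTop.hom)) : GoodAt F a (ρ.comp G.s.appTop.hom) := by
  have sq₁ := (isPushout_appTop_of_isPullback (IsPullback.of_hasPullback G.s G.t)).flip
  have sq₂ := (isPushout_appTop_of_isPullback (isPullback_c G)).flip
  obtain ⟨F₁, hb₁, hφ₁⟩ := Frame.exists_baseChange' sq₁ F
  obtain ⟨F₂, hb₂, hφ₂⟩ := Frame.exists_baseChange' sq₂ F
  have hct : ∀ b, (pullback.fst G.s G.t).appTop.hom (G.t.appTop.hom b) = G.c.appTop.hom (G.t.appTop.hom b) := fun b => by
    simp only [← RingHom.comp_apply, ← CommRingCat.hom_comp, ← Scheme.Hom.comp_appTop, c_t]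
  let X : Matrix (Fin n) (Fin n) Γ(G.R, ⊤) := Matrix.of fun i j => F₂.φ i (F₁.b j)
  let Y : Matrix (Fin n) (Fin n) Γ(G.R, ⊤) := Matrix.of fun i j => F₁.φ i (F₂.b j)
  have hv₂ : ∀ w i, ∑ k, X i k * F₁.φ k w = F₂.φ i w := fun w i => by
    conv_rhs => rw [← F₁.sum w, map_sum]
    exact Finset.sum_congr rfl fun k _ => by rw [F₂.smul, mul_comm]; rfl
  have hv₁ : ∀ w i, ∑ k, Y i k * F₂.φ k w = F₁.φ i w := fun w i => by
    conv_rhs => rw [← F₂.sum w, map_sum]
    exact Finset.sum_congr rfl fun k _ => by rw [F₁.smul, mul_comm]; rfl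
  have e₁ : X * (coordMat F a).map G.t.appTop.hom = (coordMat F a).map G.s.appTop.hom := by
    ext i j
    simp only [coordMat, Matrix.mul_apply, Matrix.map_apply, Matrix.of_apply, ← hφ₁, ← hφ₂, hv₂, hct]
  have e₂ : Y * (coordMat F a).map G.s.appTop.hom = (coordMat F a).map G.t.appTop.hom := by
    ext i j
    simp only [coordMat, Matrix.mul_apply, Matrix.map_apply, Matrix.of_apply, ← hφ₁, ← hφ₂, hv₁, hct]
  have e₃ : X * Y = (F.mat 1).map G.s.appTop.hom := by
    ext i j
    change ∑ k, X i k * F₁.φ k (F₂.b j) = _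
    rw [hv₂, hb₂]
    simp [Frame.mat, hφ₂]
  have e₄ : Y * X = (F.mat 1).map G.t.appTop.hom := by
    ext i j
    change ∑ k, Y i k * F₂.φ k (F₁.b j) = _
    rw [hv₁, hb₁]
    simp [Frame.mat, hφ₁]
  obtain ⟨Z, hZ₁, hZ₂⟩ := h
  have m₁ := congrArg (fun M => M.map ρ) e₁
  have m₂ := congrArg (fun M => M.map ρ) e₂
  have m₃ := congrArg (fun M => M.map ρ) e₃
  have m₄ := congrArg (fun M => M.map ρ) e₄
  simp only [Matrix.map_mul, Matrix.map_map, ← RingHom.coe_comp] at m₁ m₂ m₃ m₄
  refine ⟨Z * Y.map ρ, ?_, by rw [Matrix.mul_assoc, m₂, hZ₂]⟩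
  rw [← m₁, Matrix.mul_assoc, ← Matrix.mul_assoc _ Z, hZ₁, ← m₄, ← Matrix.mul_assoc, ← Matrix.mul_assoc,
    m₃, Matrix.mul_assoc, m₃, ← Matrix.map_mul]
  rw [← Frame.mat_mul, one_mul]

theorem exists_goodAt {k : Type u} [Field k] (x : Γ(G.U, ⊤) →+* k)
    (hspan : letI := G.s.appTop.hom.toAlgebra; Submodule.span Γ(G.U, ⊤) (Set.range G.t.appTop.hom) = ⊤) :
    ∃ (r : ℕ) (a : Fin r → Γ(G.U, ⊤)), GoodAt F a x := by
  classical
  letI := G.s.appTop.hom.toAlgebra
  let E := (F.mat 1).map x
  let v : Γ(G.R, ⊤) → (Fin n → k) := fun z i => x (F.φ i z)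
  have hE : ∀ z, E *ᵥ v z = v z := fun z => by
    funext i
    simp only [E, v, Matrix.mulVec, dotProduct, Matrix.map_apply, ← map_mul, ← map_sum]
    congr 1
    conv_rhs => rw [← F.sum z, map_sum]
    exact Finset.sum_congr rfl fun k _ => by rw [F.smul, mul_comm]; simp [Frame.mat]
  let V := Submodule.span k (Set.range fun a => v (G.t.appTop.hom a))
  have hv : ∀ z, v z ∈ V := fun z => by
    have hz : z ∈ Submodule.span Γ(G.U, ⊤) (Set.range G.t.appTop.hom) := hspan ▸ Submodule.mem_top
    induction hz using Submodule.span_induction with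
    | mem z hz => obtain ⟨a, rfl⟩ := hz; exact Submodule.subset_span ⟨a, rfl⟩
    | zero => convert V.zero_mem; funext i; simp [v]
    | add p q _ _ hp hq => convert V.add_mem hp hq using 1; funext i; simp [v]
    | smul c p _ hp =>
      convert V.smul_mem (x c) hp using 1
      funext i
      change x (F.φ i (G.s.appTop.hom c * p)) = _
      rw [F.smul, map_mul]; rfl
  have hcol : ∀ w, E *ᵥ w ∈ V := fun w => by
    have : E *ᵥ w = ∑ j, w j • v (F.b j) := by
      funext i
      simp [E, v, Matrix.mulVec, dotProduct, Frame.mat, Finset.sum_apply, mul_comm]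
    rw [this]
    exact Submodule.sum_mem _ fun j _ => Submodule.smul_mem _ _ (hv _)
  obtain ⟨f, hf, hspanf, hli⟩ := Submodule.exists_fun_fin_finrank_span_eq k (Set.range fun a => v (G.t.appTop.hom a))
  choose a ha using hf
  refine ⟨_, a, ?_⟩
  have hM : ∀ c, (coordMat F a).map x *ᵥ c = ∑ j, c j • f j := fun c => by
    funext i
    simp [coordMat, ← ha, v, Matrix.mulVec, dotProduct, Finset.sum_apply, mul_comm]
  have hzE : ∀ w, ∃ c, (coordMat F a).map x *ᵥ c = E *ᵥ w := fun w => by
    have hw := hcol w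
    rw [show V = Submodule.span k (Set.range f) from hspanf.symm, Submodule.mem_span_range_iff_exists_fun] at hw
    obtain ⟨c, hc⟩ := hw
    exact ⟨c, (hM c).trans hc⟩
  choose c hc using fun i : Fin n => hzE (Pi.single i 1)
  refine ⟨Matrix.of fun j i => c i j, ?_, ?_⟩
  · ext i j
    have := congrFun (hc j) i
    simp only [Matrix.mulVec_single_one, Matrix.col_apply] at this
    exact this
  · have hinj : ∀ p q : Fin _ → k, (coordMat F a).map x *ᵥ p = (coordMat F a).map x *ᵥ q → p = q := fun p q h => by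
      rw [hM, hM] at h
      funext j
      have := Fintype.linearIndependent_iff.1 hli (p - q) (by simp [sub_smul, h]) j
      exact sub_eq_zero.1 this
    have hZ : (coordMat F a).map x * Matrix.of (fun j i => c i j) = E := by
      ext i j
      have := congrFun (hc j) i
      simp only [Matrix.mulVec_single_one, Matrix.col_apply] at this
      exact this
    have : (coordMat F a).map x * (Matrix.of (fun j i => c i j) * (coordMat F a).map x) = (coordMat F a).map x * (1 : Matrix _ _ k) := by
      rw [← Matrix.mul_assoc, hZ, Matrix.mul_one, ← Matrix.map_mul, mat_one_mul_coordMat]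
    ext i j
    exact congrFun (hinj (fun i => (Matrix.of (fun j i => c i j) * (coordMat F a).map x) i j)
      (fun i => (1 : Matrix _ _ k) i j) (funext fun l => congrFun (congrFun this l) j)) i

/-- The scalars `d` for which the family is a basis after inverting `d`. -/
def goodIdeal {r : ℕ} (a : Fin r → Γ(G.U, ⊤)) : Ideal Γ(G.U, ⊤) where
  carrier := {d | ∃ Z : Matrix (Fin r) (Fin n) Γ(G.U, ⊤), coordMat F a * Z = d • F.mat 1 ∧ Z * coordMat F a = d • 1}
  zero_mem' := ⟨0, by simp, by simp⟩
  add_mem' := by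
    rintro d d' ⟨Z, h₁, h₂⟩ ⟨Z', h₁', h₂'⟩
    exact ⟨Z + Z', by rw [Matrix.mul_add, h₁, h₁', add_smul], by rw [Matrix.add_mul, h₂, h₂', add_smul]⟩
  smul_mem' := by
    rintro e d ⟨Z, h₁, h₂⟩
    exact ⟨e • Z, by rw [Matrix.mul_smul, h₁, smul_smul]; rfl, by rw [Matrix.smul_mul, h₂, smul_smul]; rfl⟩

theorem not_goodIdeal_le {r : ℕ} (a : Fin r → Γ(G.U, ⊤)) {k : Type u} [Field k] (x : Γ(G.U, ⊤) →+* k)
    (h : GoodAt F a x) : ¬ goodIdeal F a ≤ RingHom.ker x := by
  classical
  obtain ⟨Z, hZ₁, hZ₂⟩ := h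
  -- clear denominators through a left inverse with coefficients in the residue domain
  let M := coordMat F a
  obtain ⟨Z₀, d₀, hd₀, hz⟩ : ∃ (Z₀ : Matrix (Fin r) (Fin n) Γ(G.U, ⊤)) (d₀ : Γ(G.U, ⊤)), x d₀ ≠ 0 ∧
      (Z₀ * M).map x = x d₀ • (1 : Matrix (Fin r) (Fin r) k) := exists_left_inverse_lift x M Z hZ₂
  let W := Z₀ * M
  have hdW : x W.det ≠ 0 := by
    rw [RingHom.map_det, RingHom.mapMatrix_apply, hz, Matrix.det_smul, Matrix.det_one, mul_one]
    exact pow_ne_zero _ hd₀
  let Z₁ := W.adjugate * Z₀ * F.mat 1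
  have hEM : F.mat 1 * M = M := mat_one_mul_coordMat F a
  have hEE : F.mat 1 * F.mat 1 = F.mat 1 := by rw [← Frame.mat_mul, one_mul]
  have hZ₁M : Z₁ * M = W.det • 1 := by
    rw [Matrix.mul_assoc, hEM, Matrix.mul_assoc, Matrix.adjugate_mul]
  let K := W.det • F.mat 1 - M * Z₁
  have hK : K * K = W.det • K := by
    have h1 : M * Z₁ * (M * Z₁) = W.det • (M * Z₁) := by
      rw [Matrix.mul_assoc, ← Matrix.mul_assoc Z₁, hZ₁M, Matrix.smul_mul, Matrix.one_mul, Matrix.mul_smul]
    have h2 : F.mat 1 * (M * Z₁) = M * Z₁ := by rw [← Matrix.mul_assoc, hEM]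
    have h3 : M * Z₁ * F.mat 1 = M * Z₁ := by
      simp only [Z₁, Matrix.mul_assoc, hEE]
    simp only [K, Matrix.sub_mul, Matrix.mul_sub, Matrix.smul_mul, Matrix.mul_smul, h1, h2, h3, hEE, smul_sub]
    abel
  let L := W.det • (1 : Matrix (Fin n) (Fin n) Γ(G.U, ⊤)) - K
  have hLK : L * K = 0 := by rw [Matrix.sub_mul, Matrix.smul_mul, Matrix.one_mul, hK, sub_self]
  have hdK : L.det • K = 0 := by
    rw [← Matrix.one_mul K, ← Matrix.smul_mul, ← Matrix.adjugate_mul, Matrix.mul_assoc, hLK, Matrix.mul_zero]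
  have hKx : K.map x = 0 := by
    have hu : Z₁.map x = x W.det • Z := by
      have h4 : Z₁.map x * M.map x = x W.det • 1 := by
        rw [← Matrix.map_mul, hZ₁M]
        ext i j; simp [Matrix.map_apply, Matrix.one_apply, apply_ite x]
      have h5 : Z₁.map x * (F.mat 1).map x = Z₁.map x := by
        rw [← Matrix.map_mul]; simp only [Z₁, Matrix.mul_assoc, hEE]
      rw [← h5, ← hZ₁, ← Matrix.mul_assoc, h4, Matrix.smul_mul, Matrix.one_mul]
    ext i j
    have := congrFun (congrFun (show M.map x * Z₁.map x = x W.det • (F.mat 1).map x by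
      rw [hu, Matrix.mul_smul, hZ₁]) i) j
    simp only [← Matrix.map_mul, Matrix.map_apply, Matrix.smul_apply, smul_eq_mul] at this
    simp [K, this]
  intro hle
  have hmem : L.det * W.det ∈ goodIdeal F a := by
    refine ⟨L.det • Z₁, ?_, by rw [Matrix.smul_mul, hZ₁M, smul_smul]⟩
    have h6 : L.det • (W.det • F.mat 1) - L.det • (M * Z₁) = 0 := by rw [← smul_sub]; exact hdK
    rw [Matrix.mul_smul, ← smul_smul]
    exact (sub_eq_zero.1 h6).symm
  have h0 : x (L.det * W.det) = 0 := hle hmem
  rw [map_mul, mul_eq_zero] at h0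
  refine h0.elim (fun h => ?_) hdW
  rw [RingHom.map_det, RingHom.mapMatrix_apply] at h
  have hL : L.map x = x W.det • (1 : Matrix (Fin n) (Fin n) k) := by
    ext i j
    have := congrFun (congrFun hKx i) j
    simp only [Matrix.map_apply, Matrix.zero_apply] at this
    simp [L, this, Matrix.one_apply, apply_ite x]
  rw [hL, Matrix.det_smul, Matrix.det_one, mul_one] at h
  exact hdW (by_contra fun hne => pow_ne_zero _ hne h)

end Groth.Agent.GrpdQ
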