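import Groth.Agent.GrpdQ.Flat
import Mathlib.RingTheory.Finiteness.Projective
import Mathlib.AlgebraicGeometry.Morphisms.Flat
import Mathlib.AlgebraicGeometry.Morphisms.FinitePresentation

/-!
Finite flatness of the quotient map of a finite locally free equivalence relation.
-/

set_option autoImplicit false
set_option linter.style.haveILetI false
set_option backward.isDefEq.respectTransparency false

universe u

open CategoryTheory CategoryTheory.Limits AlgebraicGeometry TensorProduct

namespace Groth.Agent.GrpdQ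

variable {S : Scheme.{u}} {G : Grpd.GroupoidScheme S} [IsAffine G.U] [IsAffine G.R]

theorem exists_chart [IsFinite G.s] [Flat G.s] [LocallyOfFinitePresentation G.s] [Mono G.j]
    (q : Ideal G.invariants) [q.IsPrime] :
    ∃ (c : G.invariants) (r : ℕ) (a : Fin r → Γ(G.U, ⊤)) (φ : Fin r → Γ(G.R, ⊤) →+ Γ(G.U, ⊤)), c ∉ q ∧
      (∀ i b z, φ i (G.s.appTop.hom b * z) = b * φ i z) ∧
      (∀ i j, φ i (G.t.appTop.hom (a j)) = if i = j then c.1 else 0) ∧
      (∀ z, ∑ i, G.s.appTop.hom (φ i z) * G.t.appTop.hom (a i) = G.s.appTop.hom c.1 * z) := by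
  classical
  obtain ⟨n, ⟨F⟩⟩ := exists_frame G
  have hfin : G.s.appTop.hom.Finite := (HasAffineProperty.iff_of_isAffine.1 (‹_› : IsFinite G.s)).2
  haveI := isIntegral_invariants F
  let k := AlgebraicClosure (FractionRing (G.invariants ⧸ q))
  let φ₀ : G.invariants →+* k := ((algebraMap (FractionRing (G.invariants ⧸ q)) k).comp
    (algebraMap (G.invariants ⧸ q) (FractionRing (G.invariants ⧸ q)))).comp (Ideal.Quotient.mk q)
  have hφ₀ : RingHom.ker φ₀ = q := by
    ext c
    simp only [RingHom.mem_ker, φ₀, RingHom.comp_apply]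
    rw [map_eq_zero, map_eq_zero_iff _ (IsFractionRing.injective (G.invariants ⧸ q) (FractionRing (G.invariants ⧸ q))),
      Ideal.Quotient.eq_zero_iff_mem]
  obtain ⟨P₀, -, hP₀p, hP₀⟩ := Ideal.exists_ideal_over_prime_of_isIntegral (S := Γ(G.U, ⊤)) q ⊥ (by
    rw [← RingHom.ker_eq_comap_bot, (RingHom.injective_iff_ker_eq_bot _).1 Subtype.val_injective]; exact bot_le)
  obtain ⟨x₀, hx₀, -⟩ := exists_extension φ₀ P₀ (hP₀.trans hφ₀.symm)
  obtain ⟨r, a, ha⟩ := exists_goodAt F x₀ (span_s_t G)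
  obtain ⟨c, hc, hcq⟩ : ∃ c : G.invariants, c.1 ∈ goodIdeal F a ∧ c ∉ q := by
    by_contra hne
    simp only [not_exists, not_and, not_not] at hne
    obtain ⟨P, hle, hPp, hP⟩ := Ideal.exists_ideal_over_prime_of_isIntegral (S := Γ(G.U, ⊤)) q (goodIdeal F a) hne
    obtain ⟨x, hx, hker⟩ := exists_extension φ₀ P (hP.trans hφ₀.symm)
    obtain ⟨ρ, hρt, hρs⟩ := exists_arrow F hfin x₀ x fun c hc =>
      (RingHom.congr_fun hx₀ ⟨c, hc⟩).trans (RingHom.congr_fun hx ⟨c, hc⟩).symm
    exact not_goodIdeal_le F a x (hρs ▸ goodAt_of_arrow F a ρ (hρt.symm ▸ ha)) (hker.symm ▸ hle)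
  obtain ⟨Z, hZ₁, hZ₂⟩ := hc
  let φ : Fin r → Γ(G.R, ⊤) →+ Γ(G.U, ⊤) := fun i =>
    AddMonoidHom.mk' (fun z => ∑ k, Z i k * F.φ k z) fun z w => by
      simp [mul_add, Finset.sum_add_distrib]
  refine ⟨c, r, a, φ, hcq, fun i b z => ?_, fun i j => ?_, fun z => ?_⟩
  · simp only [φ, AddMonoidHom.mk'_apply, F.smul, Finset.mul_sum]
    exact Finset.sum_congr rfl fun k _ => by ring
  · have := congrFun (congrFun hZ₂ i) j
    simp only [Matrix.mul_apply, coordMat, Matrix.of_apply, Matrix.smul_apply, Matrix.one_apply, smul_eq_mul,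
      mul_ite, mul_one, mul_zero] at this
    exact this
  · have h : ∀ l, F.φ l (∑ i, G.s.appTop.hom (φ i z) * G.t.appTop.hom (a i)) = c.1 * F.φ l z := fun l => by
      have hcoord : ∑ k, F.mat 1 l k * F.φ k z = F.φ l z := by
        conv_rhs => rw [← F.sum z, map_sum]
        exact Finset.sum_congr rfl fun k _ => by rw [F.smul, mul_comm]; simp [Frame.mat]
      rw [map_sum]
      simp only [F.smul, φ, AddMonoidHom.mk'_apply, Finset.sum_mul]
      rw [Finset.sum_comm, ← hcoord, Finset.mul_sum]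
      refine Finset.sum_congr rfl fun k _ => ?_
      have := congrFun (congrFun hZ₁ l) k
      simp only [Matrix.mul_apply, coordMat, Matrix.of_apply, Matrix.smul_apply, smul_eq_mul] at this
      rw [← mul_assoc, ← this, Finset.sum_mul]
      exact Finset.sum_congr rfl fun i _ => by ring
    rw [← F.sum (∑ i, G.s.appTop.hom (φ i z) * G.t.appTop.hom (a i)), ← F.sum (G.s.appTop.hom c.1 * z)]
    refine Finset.sum_congr rfl fun l _ => ?_
    rw [h, F.smul]

theorem coord_mem' (c : G.invariants) {r : ℕ} (a : Fin r → Γ(G.U, ⊤)) (φ : Fin r → Γ(G.R, ⊤) →+ Γ(G.U, ⊤))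
    (hsmul : ∀ i b z, φ i (G.s.appTop.hom b * z) = b * φ i z)
    (hval : ∀ i j, φ i (G.t.appTop.hom (a j)) = if i = j then c.1 else 0)
    (hsum : ∀ z, ∑ i, G.s.appTop.hom (φ i z) * G.t.appTop.hom (a i) = G.s.appTop.hom c.1 * z)
    (f : Γ(G.U, ⊤)) (i : Fin r) : c.1 * φ i (G.t.appTop.hom f) ∈ G.invariants := by
  classical
  have sq := (isPushout_appTop_of_isPullback (IsPullback.of_hasPullback G.s G.t)).flip
  obtain ⟨ψ, hψ₁, hψ₂⟩ := exists_functional sq (φ i) (hsmul i)
  let σ := G.s.appTop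
  let ρ := G.t.appTop
  let g := (pullback.fst G.s G.t).appTop
  let h := (pullback.snd G.s G.t).appTop
  have hct : ∀ b, G.c.appTop.hom (ρ.hom b) = g.hom (ρ.hom b) := fun b => by
    simp only [ρ, g, ← RingHom.comp_apply, ← CommRingCat.hom_comp, ← Scheme.Hom.comp_appTop, c_t]
  have hcs : ∀ b, G.c.appTop.hom (σ.hom b) = h.hom (σ.hom b) := fun b => by
    simp only [σ, h, ← RingHom.comp_apply, ← CommRingCat.hom_comp, ← Scheme.Hom.comp_appTop, (isPullback_c G).w]
  have hc : ρ.hom c.1 = σ.hom c.1 := c.2.symm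
  have h₁ : ψ (g.hom (ρ.hom f)) = ρ.hom (φ i (ρ.hom f)) := hψ₂ _
  have h₂ : σ.hom c.1 * ψ (g.hom (ρ.hom f)) = σ.hom (φ i (ρ.hom f)) * ρ.hom c.1 := by
    have e := congrArg (fun z => ψ (G.c.appTop.hom z)) (hsum (ρ.hom f))
    simp only [map_sum, map_mul] at e
    rw [hcs, hct, hψ₁] at e
    rw [← e, Finset.sum_eq_single i]
    · rw [hcs, hct, hψ₁, hψ₂, hval, if_pos rfl]
    · intro j _ hj
      rw [hcs, hct, hψ₁, hψ₂, hval, if_neg hj.symm, map_zero, mul_zero]
    · intro h; exact absurd (Finset.mem_univ i) h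
  rw [h₁, hc, mul_comm (σ.hom (φ i _))] at h₂
  change σ.hom (c.1 * φ i (ρ.hom f)) = ρ.hom (c.1 * φ i (ρ.hom f))
  rw [map_mul, map_mul, hc]
  exact h₂.symm

theorem finite_projective [IsFinite G.s] [Flat G.s] [LocallyOfFinitePresentation G.s] [Mono G.j] :
    Module.Finite G.invariants Γ(G.U, ⊤) ∧ Module.Projective G.invariants Γ(G.U, ⊤) := by
  classical
  choose c r a φ hcq hsmul hval hsum using fun q : PrimeSpectrum G.invariants => exists_chart q.asIdeal
  have hkey : ∀ q f, c q ^ 2 • f = ∑ i, (⟨_, coord_mem' (c q) (a q) (φ q) (hsmul q) (hval q) (hsum q) f i⟩ : G.invariants) • a q i := fun q f => by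
    have e := congrArg G.e.appTop.hom (hsum q (G.t.appTop.hom f))
    simp only [map_sum, map_mul, appTop_e_t, appTop_e_s] at e
    change ((c q ^ 2 : G.invariants) : Γ(G.U, ⊤)) * f = ∑ i, ((c q).1 * φ q i (G.t.appTop.hom f)) * a q i
    rw [Subring.coe_pow, pow_two, mul_assoc, ← e, Finset.mul_sum]
    exact Finset.sum_congr rfl fun i _ => by ring
  have htop : Ideal.span (Set.range fun q => c q ^ 2) = ⊤ := by
    by_contra h
    obtain ⟨m, hm, hle⟩ := Ideal.exists_le_maximal _ h
    haveI := hm.isPrime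
    exact hcq ⟨m, inferInstance⟩ ((hm.isPrime.mem_of_pow_mem 2) (hle (Ideal.subset_span ⟨⟨m, inferInstance⟩, rfl⟩)))
  obtain ⟨l, hl⟩ := Finsupp.mem_span_range_iff_exists_finsupp.1 (htop.ge (Submodule.mem_top (x := (1 : G.invariants))))
  let ι := Σ q : l.support, Fin (r q.1)
  let p : (ι → G.invariants) →ₗ[G.invariants] Γ(G.U, ⊤) := Fintype.linearCombination G.invariants fun i => a i.1.1 i.2
  let s : Γ(G.U, ⊤) →ₗ[G.invariants] (ι → G.invariants) := LinearMap.pi fun i =>
    l i.1.1 •
      { toFun := fun f => (⟨_, coord_mem' (c i.1.1) (a i.1.1) (φ i.1.1) (hsmul _) (hval _) (hsum _) f i.2⟩ : G.invariants)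
        map_add' := fun f g => Subtype.ext (by simp [mul_add])
        map_smul' := fun d f => Subtype.ext (by
          change (c i.1.1).1 * φ i.1.1 i.2 (G.t.appTop.hom (d.1 * f)) = d.1 * ((c i.1.1).1 * φ i.1.1 i.2 (G.t.appTop.hom f))
          rw [map_mul, show G.t.appTop.hom d.1 = G.s.appTop.hom d.1 from d.2.symm, hsmul]; ring) }
  have hps : p ∘ₗ s = LinearMap.id := LinearMap.ext fun f => by
    have hf : (1 : G.invariants) • f = f := one_smul _ _
    conv_rhs => rw [LinearMap.id_apply, ← hf, ← hl]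
    simp only [Finsupp.sum, Finset.sum_smul, smul_eq_mul, LinearMap.comp_apply, p, Fintype.linearCombination_apply]
    rw [Fintype.sum_sigma, ← Finset.sum_coe_sort l.support]
    refine Finset.sum_congr rfl fun q _ => ?_
    rw [mul_smul, hkey, Finset.smul_sum]
    refine Finset.sum_congr rfl fun i _ => ?_
    simp [s, mul_smul]
  refine ⟨Module.Finite.of_surjective p fun f => ⟨s f, LinearMap.congr_fun hps f⟩, Module.Projective.of_split s p hps⟩

theorem bijective_of_pure [IsFinite G.s] [Flat G.s] [LocallyOfFinitePresentation G.s] [Mono G.j] :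
    letI := (G.s.appTop.hom.comp G.invariants.subtype).toAlgebra
    ∀ φ : Γ(G.U, ⊤) ⊗[G.invariants] Γ(G.U, ⊤) →ₗ[G.invariants] Γ(G.R, ⊤),
      (∀ a a' : Γ(G.U, ⊤), φ (a ⊗ₜ[G.invariants] a') = G.t.appTop.hom a * G.s.appTop.hom a') → Function.Bijective φ := by
  classical
  letI := (G.s.appTop.hom.comp G.invariants.subtype).toAlgebra
  intro Φ hΦ
  constructor
  · rw [injective_iff_map_eq_zero]
    intro ω hω
    by_contra hne
    obtain ⟨q, hq, hle⟩ := Ideal.exists_le_maximal (LinearMap.ker (LinearMap.toSpanSingleton G.invariants _ ω)) (fun h => hne (by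
      have := h.ge (Submodule.mem_top (x := (1 : G.invariants)))
      simpa using this))
    haveI := hq.isPrime
    obtain ⟨c, r, a, φ, hcq, hsmul, hval, hsum⟩ := exists_chart q
    let α : Γ(G.U, ⊤) → Fin r → G.invariants := fun p i => ⟨_, coord_mem' c a φ hsmul hval hsum p i⟩
    have hrep : ∀ w, ∃ β : Fin r → Γ(G.U, ⊤), c ^ 2 • w = ∑ i, a i ⊗ₜ[G.invariants] β i := fun w => by
      induction w using TensorProduct.induction_on with
      | zero => exact ⟨0, by simp⟩
      | add p p' hp hp' =>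
        obtain ⟨β, h⟩ := hp; obtain ⟨β', h'⟩ := hp'
        exact ⟨β + β', by simp [smul_add, h, h', TensorProduct.tmul_add, Finset.sum_add_distrib]⟩
      | tmul p p' =>
        refine ⟨fun i => α p i • p', ?_⟩
        have e : c ^ 2 • p = ∑ i, α p i • a i := by
          have e := congrArg G.e.appTop.hom (hsum (G.t.appTop.hom p))
          simp only [map_sum, map_mul, appTop_e_t, appTop_e_s] at e
          change ((c ^ 2 : G.invariants) : Γ(G.U, ⊤)) * p = ∑ i, (c.1 * φ i (G.t.appTop.hom p)) * a i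
          rw [Subring.coe_pow, pow_two, mul_assoc, ← e, Finset.mul_sum]
          exact Finset.sum_congr rfl fun i _ => by ring
        rw [TensorProduct.smul_tmul', e, TensorProduct.sum_tmul]
        exact Finset.sum_congr rfl fun i _ => TensorProduct.smul_tmul _ _ _
    obtain ⟨β, hβ⟩ := hrep ω
    have h0 : ∀ j, c • β j = 0 := fun j => by
      have e := congrArg (fun w => φ j (Φ w)) hβ
      simp only [map_smul, hω, smul_zero, map_zero, map_sum, hΦ] at e
      rw [Finset.sum_eq_single j] at e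
      · rw [mul_comm, hsmul, hval, if_pos rfl, mul_comm] at e
        exact e.symm
      · intro i _ hi
        rw [mul_comm, hsmul, hval, if_neg hi.symm, mul_zero]
      · intro h; exact absurd (Finset.mem_univ j) h
    have : c * c ^ 2 ∈ q := hle (by
      rw [LinearMap.mem_ker, LinearMap.toSpanSingleton_apply, mul_smul, hβ, Finset.smul_sum]
      refine Finset.sum_eq_zero fun i _ => ?_
      rw [← TensorProduct.tmul_smul, h0, TensorProduct.tmul_zero])
    rw [← pow_succ'] at this
    exact hcq (hq.isPrime.mem_of_pow_mem _ this)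
  · intro z
    by_contra hne
    obtain ⟨q, hq, hle⟩ := Ideal.exists_le_maximal (Submodule.comap (LinearMap.toSpanSingleton G.invariants _ z) (LinearMap.range Φ)) (fun h => hne (by
      have := h.ge (Submodule.mem_top (x := (1 : G.invariants)))
      simpa using this))
    haveI := hq.isPrime
    obtain ⟨c, r, a, φ, hcq, hsmul, hval, hsum⟩ := exists_chart q
    refine hcq (hle ⟨∑ i, a i ⊗ₜ[G.invariants] φ i z, ?_⟩)
    rw [map_sum, LinearMap.toSpanSingleton_apply]
    refine Eq.trans ?_ (hsum z)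
    exact Finset.sum_congr rfl fun i _ => by rw [hΦ, mul_comm]

end Groth.Agent.GrpdQ
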