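import Mathlib.LinearAlgebra.Matrix.Charpoly.Coeff
import Mathlib.LinearAlgebra.Charpoly.ToMatrix
import Mathlib.RingTheory.Finiteness.Projective
import Mathlib.RingTheory.Flat.EquationalCriterion
import Mathlib.RingTheory.IsTensorProduct
import Mathlib.RingTheory.Norm.Defs
import Mathlib.Algebra.Category.Ring.Constructions
import Mathlib.Tactic

/-!
Coordinates on finite projective algebras and their characteristic polynomials.
-/

set_option autoImplicit false
set_option linter.style.haveILetI false
set_option backward.isDefEq.respectTransparency false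

universe u

open Polynomial CategoryTheory CategoryTheory.Limits

namespace Groth.Agent.GrpdQ

variable {A B : Type u} [CommRing A] [CommRing B]

/-- A dual basis of `B` over `A` along `σ`. -/
structure Frame (σ : A →+* B) (n : ℕ) where
  b : Fin n → B
  φ : Fin n → B →+ A
  smul : ∀ (i : Fin n) (a : A) (z : B), φ i (σ a * z) = a * φ i z
  sum : ∀ z, ∑ i, σ (φ i z) * b i = z

namespace Frame

variable {σ : A →+* B} {n : ℕ} (F : Frame σ n)

/-- The matrix of multiplication. -/
def mat (y : B) : Matrix (Fin n) (Fin n) A := Matrix.of fun i j => F.φ i (y * F.b j)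

theorem mat_mul (y z : B) : F.mat (y * z) = F.mat y * F.mat z := by
  ext i j
  simp only [mat, Matrix.mul_apply, Matrix.of_apply]
  conv_lhs => rw [mul_assoc, ← F.sum (z * F.b j), Finset.mul_sum, map_sum]
  refine Finset.sum_congr rfl fun k _ => ?_
  rw [mul_left_comm, F.smul, mul_comm]

theorem mat_add (y z : B) : F.mat (y + z) = F.mat y + F.mat z := by
  ext i j; simp [mat, add_mul]

theorem mat_smul (a : A) (y : B) : F.mat (σ a * y) = a • F.mat y := by
  ext i j; simp [mat, mul_assoc, F.smul]

theorem mat_aeval (y : B) (p : A[X]) :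
    F.mat (p.eval₂ σ y) = aeval (F.mat y) p * F.mat 1 := by
  induction p using Polynomial.induction_on with
  | C a => rw [eval₂_C, aeval_C, ← mul_one (σ a), mat_smul, Algebra.smul_def]
  | add p q hp hq => rw [eval₂_add, mat_add, hp, hq, map_add, add_mul]
  | monomial k a h =>
    rw [pow_succ', mul_left_comm, eval₂_mul, eval₂_X, mat_mul, h]
    simp [mul_assoc]

/-- The characteristic polynomial of multiplication, padded by zero. -/
noncomputable def cp (y : B) : A[X] := (F.mat y).charpoly

theorem monic_cp (y : B) : (F.cp y).Monic := Matrix.charpoly_monic _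

theorem eval₂_cp (y : B) : (F.cp y).eval₂ σ y = 0 := by
  have h : F.mat ((F.cp y).eval₂ σ y) = 0 := by rw [mat_aeval, cp, Matrix.aeval_self_charpoly, zero_mul]
  have h' : ∀ j, (F.cp y).eval₂ σ y * F.b j = 0 := fun j => by
    rw [← F.sum ((F.cp y).eval₂ σ y * F.b j)]
    refine Finset.sum_eq_zero fun i _ => ?_
    have : F.φ i ((F.cp y).eval₂ σ y * F.b j) = 0 := congrFun (congrFun h i) j
    rw [this, map_zero, zero_mul]
  rw [← mul_one (Polynomial.eval₂ σ y (F.cp y))]
  conv_lhs => rw [← F.sum 1, Finset.mul_sum]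
  refine Finset.sum_eq_zero fun i _ => ?_
  rw [mul_left_comm, h', mul_zero]

/-- The norm, padded by the identity. -/
noncomputable def norm (y : B) : A := (F.mat (y - 1) + 1).det

theorem norm_eq_eval (y : B) : F.norm y = (-1) ^ n * (F.cp (y - 1)).eval (-1) := by
  rw [norm, cp, Matrix.eval_charpoly]
  rw [show Matrix.scalar (Fin n) (-1 : A) - F.mat (y - 1) = -(F.mat (y - 1) + 1) by rw [map_neg, map_one]; abel,
    Matrix.det_neg, Fintype.card_fin, ← mul_assoc, ← mul_pow]
  simp

/-- Two frames of the same algebra give the same characteristic polynomial. -/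
theorem cp_eq {m : ℕ} (G : Frame σ m) (y : B) : X ^ m * F.cp y = X ^ n * G.cp y := by
  let P : Matrix (Fin m) (Fin n) A := Matrix.of fun i j => G.φ i (F.b j)
  let Q : Matrix (Fin n) (Fin m) A := Matrix.of fun i j => F.φ i (y * G.b j)
  have h₁ : P * Q = G.mat y := by
    ext i j
    simp only [P, Q, mat, Matrix.mul_apply, Matrix.of_apply]
    conv_rhs => rw [← F.sum (y * G.b j), map_sum]
    exact Finset.sum_congr rfl fun k _ => by rw [G.smul, mul_comm]
  have h₂ : Q * P = F.mat y := by
    ext i j
    simp only [P, Q, mat, Matrix.mul_apply, Matrix.of_apply]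
    conv_rhs => rw [← G.sum (F.b j), Finset.mul_sum, map_sum]
    exact Finset.sum_congr rfl fun k _ => by rw [mul_left_comm, F.smul, mul_comm]
  have := Matrix.charpoly_mul_comm' Q P
  rw [h₁, h₂, Fintype.card_fin, Fintype.card_fin] at this
  exact this

theorem cp_eq' (G : Frame σ n) (y : B) : F.cp y = G.cp y :=
  (X_pow_mul_cancel_left (F.cp_eq G y))
where
  X_pow_mul_cancel_left {p q : A[X]} (h : X ^ n * p = X ^ n * q) : p = q :=
    (Polynomial.monic_X_pow n).isRegular.left h

/-- The frame of a basis computes the norm. -/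
theorem norm_eq_algebraNorm [Algebra A B] (F : Frame (algebraMap A B) n) (e : Module.Basis (Fin n) A B)
    (he : ∀ i z, F.φ i z = e.repr z i) (hb : ∀ i, F.b i = e i) (y : B) : F.norm y = Algebra.norm A y := by
  rw [norm, Algebra.norm_eq_matrix_det e]
  congr 1
  ext i j
  simp [mat, he, hb, Algebra.leftMulMatrix_eq_repr_mul, sub_mul, Matrix.one_apply, Finsupp.single_apply, eq_comm]

/-- The frame of a basis. -/
noncomputable def ofBasis [Algebra A B] (e : Module.Basis (Fin n) A B) : Frame (algebraMap A B) n where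
  b := e
  φ i := ((Finsupp.lapply i).comp e.repr.toLinearMap).toAddMonoidHom
  smul i a z := by simp [← Algebra.smul_def]
  sum z := by simpa [← Algebra.smul_def] using e.sum_repr z

theorem exists_of_projective [Algebra A B] [Module.Finite A B] [Module.Projective A B] :
    ∃ n, Nonempty (Frame (algebraMap A B) n) := by
  obtain ⟨n, f, g, -, -, h⟩ := Module.Finite.exists_comp_eq_id_of_projective A B
  refine ⟨n, ⟨⟨fun i => f (Pi.single i 1), fun i => ((LinearMap.proj i).comp g).toAddMonoidHom,
    fun i a z => by simp [← Algebra.smul_def], fun z => ?_⟩⟩⟩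
  conv_rhs => rw [← LinearMap.id_apply (R := A) z, ← h, LinearMap.comp_apply]
  conv_rhs => rw [show g z = ∑ i, (g z i) • (Pi.single i (1 : A) : Fin n → A) from pi_eq_sum_univ' _]
  rw [map_sum]
  exact Finset.sum_congr rfl fun i _ => by simp [← Algebra.smul_def]

/-- Frames push along cocartesian squares. -/
theorem exists_baseChange {A B A' W : CommRingCat.{u}} {σ : A ⟶ B} {ρ : A ⟶ A'} {g : B ⟶ W} {h : A' ⟶ W}
    (sq : IsPushout ρ σ h g) {n : ℕ} (F : Frame σ.hom n) :
    ∃ F' : Frame h.hom n, ∀ y : B, F'.mat (g.hom y) = (F.mat y).map ρ.hom := by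
  letI := σ.hom.toAlgebra; letI := ρ.hom.toAlgebra; letI := g.hom.toAlgebra; letI := h.hom.toAlgebra
  letI := (σ ≫ g).hom.toAlgebra
  haveI : IsScalarTower A B W := IsScalarTower.of_algebraMap_eq' rfl
  haveI : IsScalarTower A A' W := IsScalarTower.of_algebraMap_eq' (congrArg CommRingCat.Hom.hom sq.w.symm)
  haveI hP : Algebra.IsPushout A A' B W := CommRingCat.isPushout_iff_isPushout.1 sq
  let φ : Fin n → B →ₗ[A] A := fun i =>
    { toFun := F.φ i
      map_add' := map_add _
      map_smul' := fun a z => by rw [Algebra.smul_def]; exact F.smul i a z }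
  let φ' : Fin n → W →ₗ[A'] A' := fun i => hP.out.lift ((Algebra.linearMap A A').comp (φ i))
  have hg : ∀ i (y : B), φ' i (g.hom y) = ρ.hom (F.φ i y) := fun i y => hP.out.lift_eq _ y
  refine ⟨⟨fun i => g.hom (F.b i), fun i => (φ' i).toAddMonoidHom, fun i a z => ?_, fun z => ?_⟩, fun y => ?_⟩
  · exact ((φ' i).map_smul a z)
  · induction z using hP.out.inductionOn with
    | zero => simp
    | tmul y =>
      change ∑ i, h.hom (φ' i (g.hom y)) * g.hom (F.b i) = g.hom y
      conv_rhs => rw [← F.sum y, map_sum]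
      refine Finset.sum_congr rfl fun i _ => ?_
      rw [hg, map_mul]
      congr 1
      exact congrArg (fun m : A ⟶ W => m.hom (F.φ i y)) sq.w
    | smul a z hz =>
      change ∑ i, h.hom (φ' i (a • z)) * g.hom (F.b i) = a • z
      conv_rhs => rw [← hz, Finset.smul_sum]
      refine Finset.sum_congr rfl fun i _ => ?_
      rw [map_smul, smul_eq_mul, map_mul, mul_assoc]
      rfl
    | add x y hx hy =>
      simp only [map_add, add_mul, Finset.sum_add_distrib, hx, hy]
  · ext i j
    simp only [mat, Matrix.of_apply, Matrix.map_apply, ← map_mul, LinearMap.toAddMonoidHom_coe]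
    exact hg i _

end Frame

/-- Functionals push along cocartesian squares. -/
theorem exists_functional {A B A' W : CommRingCat.{u}} {σ : A ⟶ B} {ρ : A ⟶ A'} {g : B ⟶ W} {h : A' ⟶ W}
    (sq : IsPushout ρ σ h g) (φ₀ : B →+ A) (hφ : ∀ a z, φ₀ (σ.hom a * z) = a * φ₀ z) :
    ∃ ψ : W →+ A', (∀ a z, ψ (h.hom a * z) = a * ψ z) ∧ ∀ z, ψ (g.hom z) = ρ.hom (φ₀ z) := by
  letI := σ.hom.toAlgebra; letI := ρ.hom.toAlgebra; letI := g.hom.toAlgebra; letI := h.hom.toAlgebra
  letI := (σ ≫ g).hom.toAlgebra
  haveI : IsScalarTower A B W := IsScalarTower.of_algebraMap_eq' rfl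
  haveI : IsScalarTower A A' W := IsScalarTower.of_algebraMap_eq' (congrArg CommRingCat.Hom.hom sq.w.symm)
  haveI hP : Algebra.IsPushout A A' B W := CommRingCat.isPushout_iff_isPushout.1 sq
  let φ : B →ₗ[A] A :=
    { toFun := φ₀
      map_add' := map_add _
      map_smul' := fun a z => by rw [Algebra.smul_def]; exact hφ a z }
  let φ' : W →ₗ[A'] A' := hP.out.lift ((Algebra.linearMap A A').comp φ)
  exact ⟨φ'.toAddMonoidHom, fun a z => φ'.map_smul a z, fun z => hP.out.lift_eq _ z⟩

end Groth.Agent.GrpdQ
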