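import Groth.Agent.GrpdQ.Piece
import Groth.Agent.GrpdQ.Norm
import Mathlib.AlgebraicGeometry.Gluing
import Groth.Prelude.Def_Mor2

/-!
# The quotient of a finite locally free groupoid whose orbits lie in affine opens
-/

set_option autoImplicit false
set_option linter.style.haveILetI false
set_option backward.isDefEq.respectTransparency false

universe u

open CategoryTheory CategoryTheory.Limits AlgebraicGeometry Grpd

namespace Groth.Agent.GrpdQ

variable {S : Scheme.{u}} {G : GroupoidScheme S}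

/-- Every orbit lies in an affine open. -/
def OrbitAffine (G : GroupoidScheme S) : Prop :=
  ∀ x : G.U, ∃ V : G.U.Opens, IsAffineOpen V ∧ G.t.base '' (G.s.base ⁻¹' {x}) ⊆ (V : Set G.U)

theorem Related.map {W W' : G.U.Opens} (h : W ≤ W') {T : Scheme.{u}} {a b : T ⟶ W} (hr : Related G W a b) :
    Related G W' (a ≫ G.U.homOfLE h) (b ≫ G.U.homOfLE h) := by
  obtain ⟨r, h1, h2⟩ := hr
  exact ⟨r, by rw [Category.assoc, Scheme.homOfLE_ι, h1], by rw [Category.assoc, Scheme.homOfLE_ι, h2]⟩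

theorem isOpenImmersion_of_locally {X Y : Scheme.{u}} (f : X ⟶ Y) (hinj : Function.Injective f)
    (h : ∀ x : X, ∃ (Z : Scheme.{u}) (a : Z ⟶ X), IsOpenImmersion a ∧ IsOpenImmersion (a ≫ f) ∧ x ∈ Set.range a) :
    IsOpenImmersion f := by
  rw [IsOpenImmersion.iff_isIso_stalkMap]
  refine ⟨Topology.IsOpenEmbedding.of_continuous_injective_isOpenMap f.continuous hinj fun O hO => ?_, fun x => ?_⟩
  · refine isOpen_iff_forall_mem_open.2 ?_
    rintro _ ⟨x, hx, rfl⟩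
    obtain ⟨Z, a, ha, haf, ⟨z, rfl⟩⟩ := h x
    refine ⟨(a ≫ f) '' (a ⁻¹' O), ?_, (a ≫ f).isOpenEmbedding.isOpenMap _ (hO.preimage a.continuous),
      ⟨z, hx, Scheme.Hom.comp_apply _ _ _⟩⟩
    rintro _ ⟨z', hz', rfl⟩
    exact ⟨a z', hz', (Scheme.Hom.comp_apply _ _ _).symm⟩
  · obtain ⟨Z, a, ha, haf, ⟨z, rfl⟩⟩ := h x
    haveI := ha; haveI := haf
    haveI : IsIso (f.stalkMap (a z) ≫ a.stalkMap z) := by
      rw [← Scheme.Hom.stalkMap_comp]
      infer_instance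
    exact IsIso.of_isIso_comp_right (f.stalkMap (a z)) (a.stalkMap z)

variable [IsFinite G.s] [Flat G.s] [LocallyOfFinitePresentation G.s]

theorem q_eq_of_arrow (W : InvAff G) (v₀ v₁ : W.1) (r : G.R) (h₀ : G.t r = v₀.1) (h₁ : G.s r = v₁.1) :
    (piece G W).q v₀ = (piece G W).q v₁ := by
  obtain ⟨z⟩ : Nonempty (Spec (G.R.residueField r)) := inferInstance
  have hz : G.R.fromSpecResidueField r z = r := G.R.fromSpecResidueField_apply r z
  have ht : Set.range (G.R.fromSpecResidueField r ≫ G.t) ⊆ Set.range W.1.ι := by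
    rintro _ ⟨x, rfl⟩
    rw [Scheme.Opens.range_ι, Scheme.Hom.comp_apply, G.R.fromSpecResidueField_apply r x, h₀]
    exact v₀.2
  have hs : Set.range (G.R.fromSpecResidueField r ≫ G.s) ⊆ Set.range W.1.ι := by
    rintro _ ⟨x, rfl⟩
    rw [Scheme.Opens.range_ι, Scheme.Hom.comp_apply, G.R.fromSpecResidueField_apply r x, h₁]
    exact v₁.2
  have key := (piece G W).rel (IsOpenImmersion.lift W.1.ι _ ht) (IsOpenImmersion.lift W.1.ι _ hs)
    ⟨G.R.fromSpecResidueField r, (IsOpenImmersion.lift_fac _ _ _).symm, (IsOpenImmersion.lift_fac _ _ _).symm⟩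
  have e₀ : IsOpenImmersion.lift W.1.ι _ ht z = v₀ := W.1.ι.isOpenEmbedding.injective (by
    rw [← Scheme.Hom.comp_apply, IsOpenImmersion.lift_fac, Scheme.Hom.comp_apply, hz]; exact h₀)
  have e₁ : IsOpenImmersion.lift W.1.ι _ hs z = v₁ := W.1.ι.isOpenEmbedding.injective (by
    rw [← Scheme.Hom.comp_apply, IsOpenImmersion.lift_fac, Scheme.Hom.comp_apply, hz]; exact h₁)
  rw [← e₀, ← e₁, ← Scheme.Hom.comp_apply, key, Scheme.Hom.comp_apply]

theorem exists_pmap {W W' : InvAff G} (h : W.1 ≤ W'.1) :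
    ∃ f : (piece G W).M ⟶ (piece G W').M, (piece G W).q ≫ f = G.U.homOfLE h ≫ (piece G W').q :=
  (piece G W).desc _ fun T a b hr => by
    rw [← Category.assoc, ← Category.assoc]
    exact (piece G W').rel _ _ (hr.map h)

/-- Transition maps between pieces. -/
noncomputable def pmap {W W' : InvAff G} (h : W.1 ≤ W'.1) : (piece G W).M ⟶ (piece G W').M :=
  (exists_pmap h).choose

@[reassoc]
theorem q_pmap {W W' : InvAff G} (h : W.1 ≤ W'.1) :
    (piece G W).q ≫ pmap h = G.U.homOfLE h ≫ (piece G W').q :=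
  (exists_pmap h).choose_spec

theorem pmap_q_apply {W W' : InvAff G} (h : W.1 ≤ W'.1) (v : W.1) :
    pmap h ((piece G W).q v) = (piece G W').q (G.U.homOfLE h v) :=
  congr(($(q_pmap h)) v)

theorem homOfLE_coe {W W' : G.U.Opens} (h : W ≤ W') (v : W) : (G.U.homOfLE h v).1 = v.1 :=
  congr(($(G.U.homOfLE_ι h)) v)

theorem pmap_injective {W W' : InvAff G} (h : W.1 ≤ W'.1) : Function.Injective (pmap h) := by
  intro y₀ y₁ e
  obtain ⟨v₀, rfl⟩ := (piece G W).surj y₀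
  obtain ⟨v₁, rfl⟩ := (piece G W).surj y₁
  rw [pmap_q_apply, pmap_q_apply] at e
  obtain ⟨r, h₀, h₁⟩ := (piece G W').orbit _ _ e
  exact q_eq_of_arrow W v₀ v₁ r (h₀.trans (homOfLE_coe h v₀)) (h₁.trans (homOfLE_coe h v₁))

theorem isOpenImmersion_pmap {W W' : InvAff G} (h : W.1 ≤ W'.1) : IsOpenImmersion (pmap h) := by
  refine isOpenImmersion_of_locally _ (pmap_injective h) fun y => ?_
  obtain ⟨v, rfl⟩ := (piece G W).surj y
  obtain ⟨W₁, hle, w, hO, ho, hw, ⟨y₁, hy₁⟩, hmid⟩ := exists_basic W' W.1 (pmap h ((piece G W).q v)) (fun v' hv' => by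
    rw [pmap_q_apply] at hv'
    obtain ⟨r, h₀, h₁⟩ := (piece G W').orbit _ _ hv'
    rw [← h₀]
    exact (W.2.2.mem_iff r).1 (by rw [h₁, homOfLE_coe]; exact v.2))
  obtain ⟨w₀, ho₀, hw₀⟩ := hmid W hO h
  have e : w₀ ≫ pmap h = w := (piece G W₁).ext _ _ (by
    rw [reassoc_of% hw₀, q_pmap, hw, Scheme.homOfLE_homOfLE_assoc])
  refine ⟨_, w₀, ho₀, e ▸ ho, y₁, pmap_injective h ?_⟩
  rw [← Scheme.Hom.comp_apply, e]
  exact hy₁

variable (G) in
/-- The diagram of pieces. -/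
noncomputable def diag : InvAff G ⥤ Scheme.{u} where
  obj W := (piece G W).M
  map f := pmap (leOfHom f)
  map_id W := (piece G W).ext _ _ (by rw [q_pmap, Scheme.homOfLE_rfl, Category.id_comp, Category.comp_id])
  map_comp {W₀ W₁ W₂} f g := (piece G W₀).ext _ _ (by
    rw [q_pmap, q_pmap_assoc, q_pmap, Scheme.homOfLE_homOfLE_assoc])

instance {W W' : InvAff G} (f : W ⟶ W') : IsOpenImmersion ((diag G).map f) := isOpenImmersion_pmap (leOfHom f)

variable (G) in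
theorem exists_invAff (hb : OrbitAffine G) (u : G.U) : ∃ W : InvAff G, u ∈ W.1 := by
  obtain ⟨hf, hfl, hp⟩ := finLocFree_t G
  haveI := hf
  obtain ⟨V, hV, hVs⟩ := hb u
  obtain ⟨W, hW, hu, hinv⟩ := exists_invariant_affineOpen G u V hV fun r hr => hVs ⟨r, hr, rfl⟩
  exact ⟨⟨W, hW, hinv⟩, hu⟩

instance : (diag G ⋙ Scheme.forget).IsLocallyDirected where
  cond {W₁ W₂ W₃} f₁ f₂ (x : (piece G W₁).M) (y : (piece G W₂).M) (e : pmap (leOfHom f₁) x = pmap (leOfHom f₂) y) := by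
    obtain ⟨v₁, rfl⟩ := (piece G W₁).surj x
    obtain ⟨v₂, rfl⟩ := (piece G W₂).surj y
    rw [pmap_q_apply, pmap_q_apply] at e
    obtain ⟨r, h₀, h₁⟩ := (piece G W₃).orbit _ _ e
    obtain ⟨W₀, hle, w, hO, ho, hw, ⟨y₀, hy₀⟩, -⟩ := exists_basic W₁ W₂.1 ((piece G W₁).q v₁) (fun v' hv' => by
      obtain ⟨r', h₀', h₁'⟩ := (piece G W₁).orbit _ _ hv'
      rw [← h₀']
      refine (W₂.2.2.mem_iff r').1 ?_
      rw [h₁', ← homOfLE_coe (leOfHom f₁) v₁, ← h₀]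
      exact (W₂.2.2.mem_iff r).1 (by rw [h₁, homOfLE_coe]; exact v₂.2))
    have e₁ : w = pmap hle := (piece G W₀).ext _ _ (by rw [hw, q_pmap])
    refine ⟨W₀, homOfLE hle, homOfLE hO, y₀, ?_, pmap_injective (leOfHom f₂) ?_⟩
    · show pmap hle y₀ = _
      rw [← e₁]; exact hy₀
    · show pmap _ (pmap hO y₀) = _
      have e₂ : pmap hO ≫ pmap (leOfHom f₂) = pmap hle ≫ pmap (leOfHom f₁) := (piece G W₀).ext _ _ (by
        rw [q_pmap_assoc, q_pmap, q_pmap_assoc, q_pmap, Scheme.homOfLE_homOfLE_assoc, Scheme.homOfLE_homOfLE_assoc])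
      rw [← Scheme.Hom.comp_apply, e₂, Scheme.Hom.comp_apply, ← e₁, hy₀, pmap_q_apply, pmap_q_apply, e]

variable (G) in
/-- The quotient scheme. -/
noncomputable def quot : Scheme.{u} := colimit (diag G)

/-- The inclusion of a piece in the quotient. -/
noncomputable def qι (W : InvAff G) : (piece G W).M ⟶ quot G := colimit.ι (diag G) W

instance (W : InvAff G) : IsOpenImmersion (qι W) := inferInstanceAs (IsOpenImmersion (colimit.ι (diag G) W))

@[reassoc]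
theorem pmap_qι {W W' : InvAff G} (h : W.1 ≤ W'.1) : pmap h ≫ qι W' = qι W := colimit.w (diag G) (homOfLE h)

/-- The projection restricted to an invariant affine open. -/
noncomputable def projOn (W : InvAff G) : (W.1 : Scheme.{u}) ⟶ quot G := (piece G W).q ≫ qι W

theorem homOfLE_projOn {W W' : InvAff G} (h : W.1 ≤ W'.1) : G.U.homOfLE h ≫ projOn W' = projOn W := by
  rw [projOn, projOn, ← q_pmap_assoc, pmap_qι]

theorem exists_proj (hb : OrbitAffine G) : ∃ p : G.U ⟶ quot G, ∀ W : InvAff G, W.1.ι ≫ p = projOn W := by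
  let 𝒰 : G.U.OpenCover :=
    { I₀ := InvAff G
      X := fun W => W.1
      f := fun W => W.1.ι
      mem₀ := by
        rw [Scheme.presieve₀_mem_precoverage_iff]
        refine ⟨fun u => ?_, fun W => inferInstanceAs (IsOpenImmersion W.1.ι)⟩
        obtain ⟨W, hW⟩ := exists_invAff G hb u
        exact ⟨W, ⟨u, hW⟩, rfl⟩ }
  refine ⟨Scheme.Cover.glueMorphisms 𝒰 projOn fun W₁ W₂ => ?_, fun W => Scheme.Cover.ι_glueMorphisms 𝒰 projOn _ W⟩
  refine Scheme.hom_ext_of_forall _ _ fun x => ?_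
  let a : pullback W₁.1.ι W₂.1.ι ⟶ G.U := pullback.fst W₁.1.ι W₂.1.ι ≫ W₁.1.ι
  have ha₂ : a = pullback.snd W₁.1.ι W₂.1.ι ≫ W₂.1.ι := pullback.condition
  have hx₁ : a x ∈ W₁.1 := (pullback.fst W₁.1.ι W₂.1.ι x).2
  have hx₂ : a x ∈ W₂.1 := by rw [ha₂, Scheme.Hom.comp_apply]; exact (pullback.snd W₁.1.ι W₂.1.ι x).2
  obtain ⟨W₀, hle, w, hO, -, e₁, ⟨y₀, hy₀⟩, -⟩ := exists_basic W₁ W₂.1 ((piece G W₁).q ⟨a x, hx₁⟩) (fun v' hv' => by
    obtain ⟨r', h₀', h₁'⟩ := (piece G W₁).orbit _ _ hv'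
    rw [← h₀']
    exact (W₂.2.2.mem_iff r').1 (by rw [h₁']; exact hx₂))
  have hx₀ : a x ∈ W₀.1 := by
    obtain ⟨v₀, rfl⟩ := (piece G W₀).surj y₀
    have e₁ : (piece G W₀).q ≫ w = G.U.homOfLE hle ≫ (piece G W₁).q := by assumption
    rw [← Scheme.Hom.comp_apply, e₁, Scheme.Hom.comp_apply] at hy₀
    obtain ⟨r, h₀, h₁⟩ := (piece G W₁).orbit _ _ hy₀
    have := (W₀.2.2.mem_iff r).2 (by rw [h₀, homOfLE_coe]; exact v₀.2)
    rwa [h₁] at this
  refine ⟨a ⁻¹ᵁ W₀.1, hx₀, ?_⟩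
  have f1 : (a ⁻¹ᵁ W₀.1).ι ≫ pullback.fst W₁.1.ι W₂.1.ι = (a ∣_ W₀.1) ≫ G.U.homOfLE hle := by
    rw [← cancel_mono W₁.1.ι, Category.assoc, Category.assoc, Scheme.homOfLE_ι, morphismRestrict_ι]
  have f2 : (a ⁻¹ᵁ W₀.1).ι ≫ pullback.snd W₁.1.ι W₂.1.ι = (a ∣_ W₀.1) ≫ G.U.homOfLE hO := by
    rw [← cancel_mono W₂.1.ι, Category.assoc, Category.assoc, Scheme.homOfLE_ι, morphismRestrict_ι]
    exact congrArg ((a ⁻¹ᵁ W₀.1).ι ≫ ·) ha₂.symm
  change (a ⁻¹ᵁ W₀.1).ι ≫ pullback.fst W₁.1.ι W₂.1.ι ≫ projOn W₁ = (a ⁻¹ᵁ W₀.1).ι ≫ pullback.snd W₁.1.ι W₂.1.ι ≫ projOn W₂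
  rw [reassoc_of% f1, reassoc_of% f2, homOfLE_projOn, homOfLE_projOn]

end Groth.Agent.GrpdQ
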