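import Groth.Agent.GrpdQ.AffQuot

/-!
# The quotient of an invariant affine open, packaged
-/

set_option autoImplicit false
set_option linter.style.haveILetI false
set_option backward.isDefEq.respectTransparency false

universe u

open CategoryTheory CategoryTheory.Limits AlgebraicGeometry Grpd

namespace Groth.Agent.GrpdQ

variable {S : Scheme.{u}} (G : GroupoidScheme S)

/-- Invariant affine opens. -/
abbrev InvAff : Type u := {W : G.U.Opens // IsAffineOpen W ∧ IsInvariant G W}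

/-- Two points of `W` related by an arrow. -/
def Related (W : G.U.Opens) {T : Scheme.{u}} (a b : T ⟶ W) : Prop :=
  ∃ r : T ⟶ G.R, r ≫ G.t = a ≫ W.ι ∧ r ≫ G.s = b ≫ W.ι

/-- A quotient of an invariant affine open. -/
structure Piece (W : G.U.Opens) where
  /-- the quotient -/
  M : Scheme.{u}
  /-- the projection -/
  q : (W : Scheme.{u}) ⟶ M
  isAffine : IsAffine M
  integral : IsIntegralHom q
  surj : Function.Surjective q
  rel : ∀ {T : Scheme.{u}} (a b : T ⟶ W), Related G W a b → a ≫ q = b ≫ q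
  orbit : ∀ u₀ u₁ : W, q u₀ = q u₁ → ∃ r : G.R, G.t r = u₀.1 ∧ G.s r = u₁.1
  pt : ∀ {k : Type u} [Field k] [IsAlgClosed k] (x₀ x₁ : Spec (CommRingCat.of k) ⟶ W),
    x₀ ≫ q = x₁ ≫ q → Related G W x₀ x₁
  ext : ∀ {Z : Scheme.{u}} (h₁ h₂ : M ⟶ Z), q ≫ h₁ = q ≫ h₂ → h₁ = h₂
  desc : ∀ {Z : Scheme.{u}} (g : (W : Scheme.{u}) ⟶ Z),
    (∀ (T : Scheme.{u}) (a b : T ⟶ W), Related G W a b → a ≫ g = b ≫ g) → ∃ h : M ⟶ Z, q ≫ h = g
  mono : Mono G.j → (IsFinite q ∧ Flat q ∧ LocallyOfFinitePresentation q) ∧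
    ∀ {T : Scheme.{u}} (a b : T ⟶ W), a ≫ q = b ≫ q → Related G W a b

variable {G}

theorem related_resOpen {W : G.U.Opens} {T : Scheme.{u}} (r : T ⟶ (resOpen G W).R) :
    Related G W (r ≫ (resOpen G W).t) (r ≫ (resOpen G W).s) :=
  ⟨r ≫ GrpdSep.resArr G W.ι, by rw [Category.assoc, GrpdSep.resArr_t]; exact (Category.assoc _ _ _).symm,
    by rw [Category.assoc, GrpdSep.resArr_s]; exact (Category.assoc _ _ _).symm⟩

theorem exists_of_related {W : G.U.Opens} {T : Scheme.{u}} {a b : T ⟶ W} (h : Related G W a b) :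
    ∃ r : T ⟶ (resOpen G W).R, r ≫ (resOpen G W).t = a ∧ r ≫ (resOpen G W).s = b := by
  obtain ⟨r, h1, h2⟩ := h
  exact ⟨GrpdSep.resMk G W.ι a r b h1.symm h2, GrpdSep.resMk_t _ _ _ _ _ _ _, GrpdSep.resMk_s _ _ _ _ _ _ _⟩

theorem range_resArr {W : G.U.Opens} (hW : IsInvariant G W) :
    Set.range (GrpdSep.resArr G W.ι) = G.s ⁻¹' (W : Set G.U) := by
  ext r
  constructor
  · rintro ⟨x, rfl⟩
    show G.s (GrpdSep.resArr G W.ι x) ∈ W
    rw [← Scheme.Hom.comp_apply, GrpdSep.resArr_s, Scheme.Hom.comp_apply]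
    exact (GrpdSep.resS G W.ι x).2
  · intro hr
    obtain ⟨x, hx, -⟩ := Scheme.exists_preimage_of_isPullback (isPullback_resArr hW) r ⟨G.s r, hr⟩ rfl
    exact ⟨x, hx⟩

variable [IsFinite G.s] [Flat G.s] [LocallyOfFinitePresentation G.s]

theorem resOpen_toQuot_w {W : G.U.Opens} :
    (resOpen G W).s ≫ (resOpen G W).toQuot = (resOpen G W).t ≫ (resOpen G W).toQuot := by
  rw [GroupoidScheme.toQuot, ← Category.assoc, ← Category.assoc, Scheme.toSpecΓ_naturality,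
    Scheme.toSpecΓ_naturality, Category.assoc, Category.assoc, ← Spec.map_comp, ← Spec.map_comp]
  congr 2
  ext c
  exact c.2

variable (G) in
/-- The quotient of an invariant affine open. -/
noncomputable def piece (W : InvAff G) : Piece G W.1 :=
  have hA := resOpen_isAffine G W.2.2 W.2.1
  have hF := resOpen_finLocFree G W.2.2
  haveI := hA.1; haveI := hA.2; haveI := hF.1; haveI := hF.2.1; haveI := hF.2.2
  { M := Spec (CommRingCat.of (resOpen G W.1).invariants)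
    q := (resOpen G W.1).toQuot
    isAffine := inferInstance
    integral := isIntegralHom_toQuot _
    surj := toQuot_surjective _
    rel := fun a b h => by
      obtain ⟨r, rfl, rfl⟩ := exists_of_related h
      rw [Category.assoc, Category.assoc, resOpen_toQuot_w]
    orbit := fun u₀ u₁ h => by
      obtain ⟨r, rfl, rfl⟩ := (toQuot_eq_iff (resOpen G W.1) u₀ u₁).1 h
      exact ⟨GrpdSep.resArr G W.1.ι r, congr(($(GrpdSep.resArr_t G W.1.ι)) r), congr(($(GrpdSep.resArr_s G W.1.ι)) r)⟩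
    pt := fun x₀ x₁ h => by
      obtain ⟨r, rfl, rfl⟩ := (toQuot_pt_eq_iff (resOpen G W.1) x₀ x₁).1 h
      exact related_resOpen r
    ext := fun h₁ h₂ h => hom_ext_toQuot _ h
    desc := fun g hg => exists_desc (resOpen G W.1) g (hg _ _ _ ⟨GrpdSep.resArr G W.1.ι,
      GrpdSep.resArr_t G W.1.ι, GrpdSep.resArr_s G W.1.ι⟩)
    mono := fun hj => by
      haveI := hj
      haveI := mono_j_resOpen (G := G) W.2.2
      refine ⟨toQuot_props (resOpen G W.1), fun a b h => ?_⟩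
      have hsq := isPullback_toQuot (resOpen G W.1)
      obtain ⟨L, e1, e2⟩ : ∃ L, L ≫ (resOpen G W.1).t = a ∧ L ≫ (resOpen G W.1).s = b :=
        ⟨_, hsq.lift_fst a b h, hsq.lift_snd a b h⟩
      subst e1 e2
      exact related_resOpen _ }

/-- The piece of a basic open of an invariant function. -/
theorem exists_openImmersion_basic (W W' : InvAff G) (hle : W'.1 ≤ W.1) (f : (resOpen G W.1).invariants)
    (hf : W.1.ι ⁻¹ᵁ W'.1 = (resOpen G W.1).U.basicOpen f.1) :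
    ∃ w : (piece G W').M ⟶ (piece G W).M, IsOpenImmersion w ∧
      (piece G W').q ≫ w = G.U.homOfLE hle ≫ (piece G W).q ∧
      Set.range w = ((PrimeSpectrum.basicOpen f : TopologicalSpace.Opens (PrimeSpectrum (resOpen G W.1).invariants)) : Set (PrimeSpectrum (resOpen G W.1).invariants)) := by
  have hA := resOpen_isAffine G W.2.2 W.2.1
  have hF := resOpen_finLocFree G W.2.2
  haveI := hA.1; haveI := hA.2; haveI := hF.1; haveI := hF.2.1; haveI := hF.2.2
  have hA' := resOpen_isAffine G W'.2.2 W'.2.1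
  let ψ : (resOpen G W'.1).R ⟶ (resOpen G W.1).R := GrpdSep.resMk G W.1.ι
    (GrpdSep.resT G W'.1.ι ≫ G.U.homOfLE hle) (GrpdSep.resArr G W'.1.ι) (GrpdSep.resS G W'.1.ι ≫ G.U.homOfLE hle)
    (by rw [Category.assoc, Scheme.homOfLE_ι, GrpdSep.resArr_t])
    ((GrpdSep.resArr_s G W'.1.ι).trans ((congrArg (_ ≫ ·) (G.U.homOfLE_ι hle).symm).trans (Category.assoc _ _ _).symm))
  have hs : (resOpen G W'.1).s ≫ G.U.homOfLE hle = ψ ≫ (resOpen G W.1).s := (GrpdSep.resMk_s _ _ _ _ _ _ _).symm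
  have ht : (resOpen G W'.1).t ≫ G.U.homOfLE hle = ψ ≫ (resOpen G W.1).t := (GrpdSep.resMk_t _ _ _ _ _ _ _).symm
  have hpb : IsPullback ψ (resOpen G W'.1).s (resOpen G W.1).s (G.U.homOfLE hle) := by
    refine IsPullback.of_right ?_ hs.symm (isPullback_resArr W.2.2)
    have h1 : ψ ≫ GrpdSep.resArr G W.1.ι = GrpdSep.resArr G W'.1.ι := GrpdSep.resMk_arr _ _ _ _ _ _ _
    rw [h1, Scheme.homOfLE_ι]
    exact isPullback_resArr W'.2.2
  have hr : (G.U.homOfLE hle).opensRange = (resOpen G W.1).U.basicOpen f.1 := by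
    rw [Scheme.opensRange_homOfLE]
    exact hf
  obtain ⟨ho, hrange⟩ := @isOpenImmersion_qmap _ (resOpen G W'.1) (resOpen G W.1) hA'.1 hA'.2 _ _
    (G.U.homOfLE hle) ψ hs ht inferInstance hpb f hr
  exact ⟨qmap (G := resOpen G W'.1) (G.U.homOfLE hle) ψ hs ht, ho, toQuot_qmap _ _ _ _, hrange⟩

/-- Localisation of pieces. -/
theorem exists_basic (W : InvAff G) (O : G.U.Opens) (y : (piece G W).M)
    (hy : ∀ v : W.1, (piece G W).q v = y → v.1 ∈ O) :
    ∃ (W' : InvAff G) (hle : W'.1 ≤ W.1) (w : (piece G W').M ⟶ (piece G W).M), W'.1 ≤ O ∧ IsOpenImmersion w ∧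
      (piece G W').q ≫ w = G.U.homOfLE hle ≫ (piece G W).q ∧ y ∈ Set.range w ∧
      ∀ (W₀ : InvAff G) (h₁ : W'.1 ≤ W₀.1) (_ : W₀.1 ≤ W.1), ∃ w₀ : (piece G W').M ⟶ (piece G W₀).M,
        IsOpenImmersion w₀ ∧ (piece G W').q ≫ w₀ = G.U.homOfLE h₁ ≫ (piece G W₀).q := by
  have hA := resOpen_isAffine G W.2.2 W.2.1
  have hF := resOpen_finLocFree G W.2.2
  haveI := hA.1; haveI := hA.2; haveI := hF.1; haveI := hF.2.1; haveI := hF.2.2
  obtain ⟨f, hyf, hfO⟩ := exists_basicOpen (resOpen G W.1) (W.1.ι ⁻¹ᵁ O) y hy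
  let B : (W.1 : Scheme.{u}).Opens := (resOpen G W.1).U.basicOpen f.1
  have hB : IsAffineOpen B := (isAffineOpen_top (resOpen G W.1).U).basicOpen f.1
  have hle : W.1.ι ''ᵁ B ≤ W.1 := by rintro _ ⟨x, -, rfl⟩; exact x.2
  have hinv : IsInvariant G (W.1.ι ''ᵁ B) := by
    have hrange := range_resArr W.2.2
    have key : ∀ r' : (resOpen G W.1).R, (resOpen G W.1).s r' ∈ B ↔ (resOpen G W.1).t r' ∈ B :=
      (isInvariant_basicOpen (resOpen G W.1) f).mem_iff
    ext r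
    simp only [Scheme.Hom.coe_preimage, Set.mem_preimage]
    constructor
    · intro hr
      obtain ⟨r', rfl⟩ := hrange.ge (show G.s r ∈ W.1 from hle hr)
      obtain ⟨x, hx, e⟩ := hr
      refine ⟨(resOpen G W.1).t r', (key r').1 ?_, (congr(($(GrpdSep.resArr_t G W.1.ι)) r')).symm⟩
      have : x = (resOpen G W.1).s r' :=
        W.1.ι.isOpenEmbedding.injective (e.trans congr(($(GrpdSep.resArr_s G W.1.ι)) r'))
      exact this ▸ hx
    · intro hr
      obtain ⟨r', rfl⟩ := hrange.ge (show G.s r ∈ W.1 from (W.2.2.mem_iff r).2 (hle hr))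
      obtain ⟨x, hx, e⟩ := hr
      refine ⟨(resOpen G W.1).s r', (key r').2 ?_, (congr(($(GrpdSep.resArr_s G W.1.ι)) r')).symm⟩
      have : x = (resOpen G W.1).t r' :=
        W.1.ι.isOpenEmbedding.injective (e.trans congr(($(GrpdSep.resArr_t G W.1.ι)) r'))
      exact this ▸ hx
  have hW' : IsAffineOpen (W.1.ι ''ᵁ B) := hB.image_of_isOpenImmersion W.1.ι
  let W' : InvAff G := ⟨W.1.ι ''ᵁ B, hW', hinv⟩
  obtain ⟨w, ho, hw, hrange⟩ := exists_openImmersion_basic W W' hle f (W.1.ι.preimage_image_eq B)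
  refine ⟨W', hle, w, ?_, ho, hw, hrange.ge hyf, fun W₀ h₁ h₂ => ?_⟩
  · rintro _ ⟨x, hx, rfl⟩
    exact hfO hx
  let ψ₀ : (resOpen G W₀.1).R ⟶ (resOpen G W.1).R := GrpdSep.resMk G W.1.ι
    (GrpdSep.resT G W₀.1.ι ≫ G.U.homOfLE h₂) (GrpdSep.resArr G W₀.1.ι) (GrpdSep.resS G W₀.1.ι ≫ G.U.homOfLE h₂)
    (by rw [Category.assoc, Scheme.homOfLE_ι, GrpdSep.resArr_t])
    ((GrpdSep.resArr_s G W₀.1.ι).trans ((congrArg (_ ≫ ·) (G.U.homOfLE_ι h₂).symm).trans (Category.assoc _ _ _).symm))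
  let f₀ := invMap (G := resOpen G W₀.1) (G' := resOpen G W.1) (G.U.homOfLE h₂) ψ₀ (GrpdSep.resMk_s _ _ _ _ _ _ _).symm
    (GrpdSep.resMk_t _ _ _ _ _ _ _).symm f
  obtain ⟨w₀, ho₀, hw₀, -⟩ := exists_openImmersion_basic W₀ W' h₁ f₀ (by
    conv_lhs => rw [← G.U.homOfLE_ι h₂, Scheme.Hom.comp_preimage]
    refine (congrArg (G.U.homOfLE h₂ ⁻¹ᵁ ·) (W.1.ι.preimage_image_eq B)).trans ?_
    exact Scheme.preimage_basicOpen_top (G.U.homOfLE h₂) f.1)
  exact ⟨w₀, ho₀, hw₀⟩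

attribute [irreducible] piece

end Groth.Agent.GrpdQ
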