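import Groth.Agent.GrpdQ.GlobalProps
import Groth.Agent.SchDescent.CovHom
import Groth.Agent.FpqcDescent.Flat
import Mathlib.AlgebraicGeometry.AlgClosed.Basic

/-!
# Quotient of a groupoid admitting a quasi-section
-/

set_option autoImplicit false
set_option linter.style.haveILetI false
set_option backward.isDefEq.respectTransparency false

universe u

open CategoryTheory CategoryTheory.Limits AlgebraicGeometry Grpd

namespace Groth.Agent.GrpdQ

variable {S : Scheme.{u}}

theorem mono_j_restrict (G : GroupoidScheme S) {U' : Scheme.{u}} (u : U' ⟶ G.U) [Mono G.j] :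
    Mono (GrpdSep.restrict G u).j := by
  refine ⟨fun {T} α β h => ?_⟩
  have h₁ : α ≫ GrpdSep.resT G u = β ≫ GrpdSep.resT G u := by
    have := congr($h ≫ pullback.fst _ _)
    simp only [GroupoidScheme.j, Category.assoc, pullback.lift_fst] at this
    exact this
  have h₂ : α ≫ GrpdSep.resS G u = β ≫ GrpdSep.resS G u := by
    have := congr($h ≫ pullback.snd _ _)
    simp only [GroupoidScheme.j, Category.assoc, pullback.lift_snd] at this
    exact this
  refine GrpdSep.res_ext G u h₁ ?_ h₂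
  rw [← cancel_mono G.j]
  apply pullback.hom_ext
  · simp only [GroupoidScheme.j, Category.assoc, pullback.lift_fst]
    exact (congrArg (α ≫ ·) (GrpdSep.resArr_t G u)).trans (((congrArg (· ≫ u) h₁) |> fun e => (Category.assoc _ _ _).symm.trans (e.trans (Category.assoc _ _ _))).trans
      (congrArg (β ≫ ·) (GrpdSep.resArr_t G u).symm)) |> fun e => by simpa only [Category.assoc] using e
  · simp only [GroupoidScheme.j, Category.assoc, pullback.lift_snd]
    exact (congrArg (α ≫ ·) (GrpdSep.resArr_s G u)).trans (((congrArg (· ≫ u) h₂) |> fun e => (Category.assoc _ _ _).symm.trans (e.trans (Category.assoc _ _ _))).trans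
      (congrArg (β ≫ ·) (GrpdSep.resArr_s G u).symm)) |> fun e => by simpa only [Category.assoc] using e

theorem uniq_of_mono (G : GroupoidScheme S) [Mono G.j] {T : Scheme.{u}} (r r' : T ⟶ G.R)
    (h₁ : r ≫ G.t = r' ≫ G.t) (h₂ : r ≫ G.s = r' ≫ G.s) : r = r' := by
  rw [← cancel_mono G.j]
  apply pullback.hom_ext
  · simpa [GroupoidScheme.j, pullback.lift_fst] using h₁
  · simpa [GroupoidScheme.j, pullback.lift_snd] using h₂

variable {G : GroupoidScheme S}

/-- Points with values in an algebraically closed field with the same image are related. -/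
theorem proj_pt [IsFinite G.s] [Flat G.s] [LocallyOfFinitePresentation G.s] (hb : OrbitAffine G) {p : G.U ⟶ quot G}
    (hp : ∀ W : InvAff G, W.1.ι ≫ p = projOn W) {k : Type u} [Field k] [IsAlgClosed k]
    (x₀ x₁ : Spec (CommRingCat.of k) ⟶ G.U) (h : x₀ ≫ p = x₁ ≫ p) :
    ∃ r : Spec (CommRingCat.of k) ⟶ G.R, r ≫ G.t = x₀ ∧ r ≫ G.s = x₁ := by
  let z₀ := IsLocalRing.closedPoint k
  obtain ⟨W, hW⟩ := exists_invAff G hb (x₁ z₀)
  have hsub : ∀ z : Spec (CommRingCat.of k), z = z₀ := fun z => @Subsingleton.elim (PrimeSpectrum k) _ z z₀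
  have h₁ : Set.range x₁ ⊆ Set.range W.1.ι := by
    rintro _ ⟨w, rfl⟩
    rw [Scheme.Opens.range_ι, hsub w]; exact hW
  have h₀ : Set.range x₀ ⊆ Set.range W.1.ι := by
    rintro _ ⟨w, rfl⟩
    rw [Scheme.Opens.range_ι, hsub w, SetLike.mem_coe, mem_iff_proj_mem hb hp, ← Scheme.Hom.comp_apply, h,
      Scheme.Hom.comp_apply, ← mem_iff_proj_mem hb hp]
    exact hW
  obtain ⟨r, hr₀, hr₁⟩ := (piece G W).pt (IsOpenImmersion.lift W.1.ι _ h₀) (IsOpenImmersion.lift W.1.ι _ h₁) (by
    rw [← cancel_mono (qι W), Category.assoc, Category.assoc]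
    change _ ≫ projOn W = _ ≫ projOn W
    rw [← hp, ← Category.assoc, ← Category.assoc, IsOpenImmersion.lift_fac, IsOpenImmersion.lift_fac, h])
  exact ⟨r, hr₀.trans (IsOpenImmersion.lift_fac _ _ _), hr₁.trans (IsOpenImmersion.lift_fac _ _ _)⟩

theorem exists_composable (G : GroupoidScheme S) (r₁ r₂ : G.R) (h : G.s r₁ = G.s r₂) :
    ∃ r : G.R, G.t r = G.t r₁ ∧ G.s r = G.t r₂ := by
  obtain ⟨p, hp₁, hp₂⟩ := Scheme.Pullback.exists_preimage_pullback (f := G.s) (g := G.t) r₁ (G.i r₂)
    (by rw [GrpdSep.t_i]; exact h)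
  have hid : pullback.lift (pullback.fst G.s G.t) (pullback.snd G.s G.t) pullback.condition = 𝟙 _ := by
    apply pullback.hom_ext <;> simp
  have hs := G.comp_s (pullback.fst G.s G.t) (pullback.snd G.s G.t) pullback.condition
  have ht := G.comp_t (pullback.fst G.s G.t) (pullback.snd G.s G.t) pullback.condition
  rw [hid, Category.id_comp] at hs ht
  exact ⟨G.c p, by rw [← Scheme.Hom.comp_apply, ht, Scheme.Hom.comp_apply, hp₁],
    by rw [← Scheme.Hom.comp_apply, hs, Scheme.Hom.comp_apply, hp₂, GrpdSep.s_i]⟩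

variable {U' : Scheme.{u}} (u : U' ⟶ G.U)

/-- arrows with target in the quasi-section: source map -/
noncomputable abbrev secSrc : pullback G.t u ⟶ G.U := pullback.fst G.t u ≫ G.s

theorem finLocFree_restrict (h : Mor2.IsFinLocFree (secSrc u)) :
    IsFinite (GrpdSep.restrict G u).s ∧ Flat (GrpdSep.restrict G u).s ∧
      LocallyOfFinitePresentation (GrpdSep.restrict G u).s := by
  have e : pullback.snd u G.t ≫ G.s = (pullbackSymmetry u G.t).hom ≫ secSrc u := by simp [secSrc]
  have hpb := (IsPullback.of_hasPullback (pullback.snd u G.t ≫ G.s) u)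
  refine ⟨MorphismProperty.of_isPullback (P := @IsFinite) hpb ?_, MorphismProperty.of_isPullback (P := @Flat) hpb ?_,
    MorphismProperty.of_isPullback (P := @LocallyOfFinitePresentation) hpb ?_⟩ <;>
    rw [e]
  · exact (MorphismProperty.cancel_left_of_respectsIso @IsFinite _ _).2 h.1
  · exact (MorphismProperty.cancel_left_of_respectsIso @Flat _ _).2 h.2.1
  · exact (MorphismProperty.cancel_left_of_respectsIso @LocallyOfFinitePresentation _ _).2 h.2.2

theorem orbitAffine_restrict
    (h2 : ∀ E : Set U', (∀ x ∈ E, ∀ y ∈ E, ∃ r : G.R, G.t.base r = u.base x ∧ G.s.base r = u.base y) →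
      ∃ W : U'.Opens, IsAffineOpen W ∧ E ⊆ (W : Set U')) : OrbitAffine (GrpdSep.restrict G u) := by
  intro x
  refine h2 _ ?_
  rintro _ ⟨r₁, hr₁, rfl⟩ _ ⟨r₂, hr₂, rfl⟩
  obtain ⟨r, ht, hs⟩ := exists_composable G (GrpdSep.resArr G u r₁) (GrpdSep.resArr G u r₂) (by
    rw [← Scheme.Hom.comp_apply, ← Scheme.Hom.comp_apply, GrpdSep.resArr_s, Scheme.Hom.comp_apply, Scheme.Hom.comp_apply]
    exact congrArg u ((show GrpdSep.resS G u r₁ = x from hr₁).trans (show GrpdSep.resS G u r₂ = x from hr₂).symm))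
  exact ⟨r, ht.trans congr(($(GrpdSep.resArr_t G u)) r₁), hs.trans congr(($(GrpdSep.resArr_t G u)) r₂)⟩

theorem exists_quotient_of_quasiSection [IsImmersion u]
    (h1 : Mor2.IsFinLocFree (secSrc u) ∧ Surjective (secSrc u))
    (h2 : ∀ E : Set U', (∀ x ∈ E, ∀ y ∈ E, ∃ r : G.R, G.t.base r = u.base x ∧ G.s.base r = u.base y) →
      ∃ W : U'.Opens, IsAffineOpen W ∧ E ⊆ (W : Set U')) :
    ∃ (Y : Scheme.{u}) (p : G.U ⟶ Y) (w : G.t ≫ p = G.s ≫ p),
      Nonempty (IsColimit (Cofork.ofπ p w)) ∧ Surjective p ∧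
      (IsOpenMap G.t.base → IsOpenMap p.base) ∧ (UniversallyClosed G.t → UniversallyClosed p) ∧
      Function.Surjective (pullback.lift G.t G.s w).base ∧
      (Mono G.j → IsPullback G.t G.s p p ∧ (Flat G.t → Flat p)) := by
  obtain ⟨hfree, hsurj⟩ := h1
  obtain ⟨h'1, h'2, h'3⟩ := finLocFree_restrict u hfree
  haveI := h'1; haveI := h'2; haveI := h'3
  haveI := hfree.1; haveI := hfree.2.1; haveI := hfree.2.2; haveI := hsurj
  have hb : OrbitAffine (GrpdSep.restrict G u) := orbitAffine_restrict u h2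
  obtain ⟨p₀, hp⟩ := exists_proj (G := GrpdSep.restrict G u) hb
  obtain ⟨hcol⟩ := nonempty_isColimit hb hp
  have hw₀ := proj_w hb hp
  set a : pullback G.t u ⟶ G.U := secSrc u with ha
  let pr : pullback G.t u ⟶ U' := pullback.snd G.t u
  let p' : U' ⟶ quot (GrpdSep.restrict G u) := p₀
  have hw' : GrpdSep.resT G u ≫ p' = GrpdSep.resS G u ≫ p' := hw₀
  have hcover : SchDescent.IsCover (fun _ : PUnit.{u + 1} => a) := SchDescent.isCover_singleton a
  have rel : ∀ {T : Scheme.{u}} (b₀ b₁ : T ⟶ U') (r : T ⟶ G.R), r ≫ G.t = b₀ ≫ u → r ≫ G.s = b₁ ≫ u →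
      b₀ ≫ p' = b₁ ≫ p' := by
    intro T b₀ b₁ r h₀ h₁
    have := congrArg (GrpdSep.resMk G u b₀ r b₁ h₀.symm h₁ ≫ ·) hw'
    rwa [← Category.assoc, GrpdSep.resMk_t, ← Category.assoc, GrpdSep.resMk_s] at this
  obtain ⟨p, hpfac, -⟩ := SchDescent.existsUnique_glue hcover (fun _ => pr ≫ p') (fun _ _ T v₁ v₂ e => by
    have h₁ : (v₁ ≫ pullback.fst G.t u) ≫ G.s = ((v₂ ≫ pullback.fst G.t u) ≫ G.i) ≫ G.t := by
      rw [Category.assoc _ G.i, G.i_t]
      simpa [a, secSrc, Category.assoc] using e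
    rw [← Category.assoc, ← Category.assoc]
    refine rel (v₁ ≫ pr) (v₂ ≫ pr) (GrpdSep.mulPt G (v₁ ≫ pullback.fst G.t u) ((v₂ ≫ pullback.fst G.t u) ≫ G.i) h₁) ?_ ?_
    · rw [GrpdSep.mulPt_t, Category.assoc, pullback.condition, Category.assoc]
    · rw [GrpdSep.mulPt_s, Category.assoc _ G.i, G.i_s, Category.assoc, pullback.condition, Category.assoc])
  have hap : a ≫ p = pr ≫ p' := hpfac ⟨⟩
  let σ : U' ⟶ pullback G.t u := pullback.lift (u ≫ G.e) (𝟙 U') (by rw [Category.assoc, G.e_t]; simp)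
  have hσ : σ ≫ a = u := by simp [σ, a, secSrc, G.e_s]
  have hup : u ≫ p = p' := by
    refine (congrArg (· ≫ p) hσ.symm).trans ((Category.assoc _ _ _).trans ((congrArg (σ ≫ ·) hap).trans ?_))
    exact (Category.assoc _ _ _).symm.trans ((congrArg (· ≫ p') (pullback.lift_snd _ _ _)).trans (Category.id_comp _))
  have key : ∀ {T : Scheme.{u}} (v : T ⟶ pullback G.t u), (v ≫ pr) ≫ p' = (v ≫ a) ≫ p := fun v =>
    (Category.assoc _ _ _).trans ((congrArg (v ≫ ·) hap.symm).trans (Category.assoc _ _ _).symm)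
  have w : G.t ≫ p = G.s ≫ p := by
    refine SchDescent.hom_ext (SchDescent.isCover_pullback hcover G.s) fun _ => ?_
    have hmul : (pullback.snd G.s a ≫ pullback.fst G.t u) ≫ G.s = (pullback.fst G.s a ≫ G.i) ≫ G.t := by
      rw [Category.assoc _ G.i, G.i_t, pullback.condition, Category.assoc]
    let v' : pullback G.s a ⟶ pullback G.t u := pullback.lift
      (GrpdSep.mulPt G (pullback.snd G.s a ≫ pullback.fst G.t u) (pullback.fst G.s a ≫ G.i) hmul)
      (pullback.snd G.s a ≫ pr) (by rw [GrpdSep.mulPt_t, Category.assoc, pullback.condition, Category.assoc])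
    have hv' : v' ≫ a = pullback.fst G.s a ≫ G.t := by
      simp only [v', a, secSrc]
      rw [pullback.lift_fst_assoc, GrpdSep.mulPt_s, Category.assoc _ G.i, G.i_s]
    have hv'' : v' ≫ pr = pullback.snd G.s a ≫ pr := pullback.lift_snd _ _ _
    rw [← Category.assoc, ← hv', Category.assoc, hap, ← Category.assoc, hv'', Category.assoc, ← hap,
      pullback.condition_assoc]
  have hp'epi : ∀ {Z : Scheme.{u}} (m₁ m₂ : quot (GrpdSep.restrict G u) ⟶ Z), p' ≫ m₁ = p' ≫ m₂ → m₁ = m₂ :=
    fun m₁ m₂ h => Cofork.IsColimit.hom_ext hcol h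
  haveI hp'surj : Surjective p' := ⟨proj_surjective hb hp⟩
  have hpsurj : Surjective p := ⟨fun y => by
    obtain ⟨x, hx⟩ := p'.surjective y
    exact ⟨u x, by rw [← hx]; exact congr(($hup) x)⟩⟩
  refine ⟨_, p, w, ⟨Cofork.IsColimit.mk' _ fun c => ?_⟩, hpsurj, fun ht O hO => ?_, fun ht => ?_, fun z => ?_, fun hj => ?_⟩
  · have hc : G.t ≫ c.π = G.s ≫ c.π := c.condition
    let l := Cofork.IsColimit.desc' hcol (u ≫ c.π) (by
      show GrpdSep.resT G u ≫ u ≫ c.π = GrpdSep.resS G u ≫ u ≫ c.π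
      rw [← Category.assoc, ← Category.assoc, ← GrpdSep.resArr_t, ← GrpdSep.resArr_s,
        Category.assoc (GrpdSep.resArr G u), Category.assoc (GrpdSep.resArr G u), hc])
    have hh : p' ≫ l.1 = u ≫ c.π := l.2
    refine ⟨l.1, ?_, fun {m} hm => hp'epi _ _ ?_⟩
    · rw [Cofork.π_ofπ]
      refine SchDescent.hom_ext hcover fun _ => ?_
      change a ≫ p ≫ l.1 = a ≫ c.π
      rw [reassoc_of% hap, hh, ← pullback.condition_assoc, hc]
      exact (Category.assoc _ _ _).symm
    · rw [hh, ← hup, Category.assoc]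
      exact congrArg (u ≫ ·) hm
  · have hp'open : IsOpenMap p' := proj_isOpenMap hb hp (by
      haveI : IsIntegralHom p₀ := of_pieces hb hp @IsIntegralHom fun W => (piece _ W).integral
      exact p₀.isClosedMap)
    have hpr : IsOpenMap pr := by
      intro O' hO'
      haveI : IsImmersion (pullback.fst G.t u) := inferInstance
      obtain ⟨O'', hO'', rfl⟩ := (pullback.fst G.t u).isEmbedding.isInducing.isOpen_iff.1 hO'
      have e : pr '' ((pullback.fst G.t u) ⁻¹' O'') = u ⁻¹' (G.t '' O'') := by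
        ext x
        constructor
        · rintro ⟨v, hv, rfl⟩
          exact ⟨_, hv, congr(($(pullback.condition (f := G.t) (g := u))) v)⟩
        · rintro ⟨r, hr, e⟩
          obtain ⟨v, hv₁, hv₂⟩ := Scheme.Pullback.exists_preimage_pullback (f := G.t) (g := u) r x e
          exact ⟨v, by rw [Set.mem_preimage, hv₁]; exact hr, hv₂⟩
      rw [e]
      exact (ht _ hO'').preimage u.continuous
    have e : p '' O = p' '' (pr '' (a ⁻¹' O)) := by
      rw [← Set.image_comp, ← Function.Surjective.image_preimage a.surjective O, ← Set.image_comp,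
        Function.Surjective.image_preimage a.surjective O]
      exact congrArg (· '' _) (congrArg (fun f : pullback G.t u ⟶ quot (GrpdSep.restrict G u) => ⇑f) hap)
    rw [e]
    exact hp'open _ (hpr _ (hO.preimage a.continuous))
  · haveI := ht
    haveI : IsIntegralHom p' := of_pieces hb hp @IsIntegralHom fun W => (piece _ W).integral
    haveI : UniversallyClosed (a ≫ p) := by rw [hap]; infer_instance
    exact UniversallyClosed.of_comp_surjective a p
  · let x := geomPt z
    have lift : ∀ y : Spec (CommRingCat.of (AlgebraicClosure ((pullback p p).residueField z))) ⟶ G.U,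
        ∃ v : _ ⟶ pullback G.t u, v ≫ a = y := by
      intro y
      haveI : Surjective (pullback.snd a y) := MorphismProperty.pullback_snd _ _ hsurj
      haveI : Nonempty (pullback a y : Scheme.{u}) := by
        obtain ⟨q, -⟩ := (pullback.snd a y).surjective (IsLocalRing.closedPoint _)
        exact ⟨q⟩
      haveI : JacobsonSpace (pullback a y : Scheme.{u}) := LocallyOfFiniteType.jacobsonSpace (pullback.snd a y)
      obtain ⟨q, -, hq⟩ := nonempty_inter_closedPoints (X := (pullback a y : Scheme.{u})) (Z := Set.univ)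
        Set.univ_nonempty isOpen_univ.isLocallyClosed
      refine ⟨pointOfClosedPoint (pullback.snd a y) q hq ≫ pullback.fst a y, ?_⟩
      rw [Category.assoc, pullback.condition, pointOfClosedPoint_comp_assoc]
    obtain ⟨v₀, hv₀⟩ := lift (x ≫ pullback.fst p p)
    obtain ⟨v₁, hv₁⟩ := lift (x ≫ pullback.snd p p)
    obtain ⟨r', hr₀, hr₁⟩ := proj_pt hb hp (v₀ ≫ pr) (v₁ ≫ pr) (by
      change _ ≫ p' = _ ≫ p'
      rw [key, key, hv₀, hv₁, Category.assoc, Category.assoc, pullback.condition])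
    let ρ := r' ≫ GrpdSep.resArr G u
    have hρt : ρ ≫ G.t = (v₀ ≫ pullback.fst G.t u) ≫ G.t := by
      rw [Category.assoc, GrpdSep.resArr_t, ← Category.assoc, Category.assoc v₀, pullback.condition, ← Category.assoc]
      exact congrArg (· ≫ u) hr₀
    have hρs : ρ ≫ G.s = (v₁ ≫ pullback.fst G.t u) ≫ G.t := by
      rw [Category.assoc, GrpdSep.resArr_s, ← Category.assoc, Category.assoc v₁, pullback.condition, ← Category.assoc]
      exact congrArg (· ≫ u) hr₁
    let r := GrpdSep.mulPt G ((v₀ ≫ pullback.fst G.t u) ≫ G.i) (GrpdSep.mulPt G ρ (v₁ ≫ pullback.fst G.t u) hρs)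
      (by rw [Category.assoc _ G.i, G.i_s, GrpdSep.mulPt_t, hρt])
    obtain ⟨z₀⟩ : Nonempty (Spec (CommRingCat.of (AlgebraicClosure ((pullback p p).residueField z)))) := inferInstance
    refine ⟨r z₀, ?_⟩
    suffices e : r ≫ pullback.lift G.t G.s w = x from (congr(($e) z₀)).trans (geomPt_apply z z₀)
    apply pullback.hom_ext
    · rw [Category.assoc, pullback.lift_fst, GrpdSep.mulPt_t, Category.assoc _ G.i, G.i_t, Category.assoc, ← hv₀]
    · rw [Category.assoc, pullback.lift_snd, GrpdSep.mulPt_s, GrpdSep.mulPt_s, Category.assoc, ← hv₁]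
  · haveI := hj
    haveI := mono_j_restrict G u
    refine ⟨?_, fun hft => ?_⟩
    · have hex : ∀ {T : Scheme.{u}} (x₀ x₁ : T ⟶ G.U), x₀ ≫ p = x₁ ≫ p →
          ∃ r : T ⟶ G.R, r ≫ G.t = x₀ ∧ r ≫ G.s = x₁ := by
        intro T x₀ x₁ hx
        let c₁ := pullback.fst x₀ a
        let c₂ := pullback.fst (c₁ ≫ x₁) a
        let c := c₂ ≫ c₁
        let v₀ := c₂ ≫ pullback.snd x₀ a
        let v₁ := pullback.snd (c₁ ≫ x₁) a
        have hv₀ : v₀ ≫ a = c ≫ x₀ := by
          simp only [v₀, c, c₁, Category.assoc, pullback.condition]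
        have hv₁ : v₁ ≫ a = c ≫ x₁ := by
          simp only [v₁, c, c₂, Category.assoc, pullback.condition]
        have hv : (v₀ ≫ pr) ≫ p₀ = (v₁ ≫ pr) ≫ p₀ := by
          change _ ≫ p' = _ ≫ p'
          rw [key, key, hv₀, hv₁]; simp only [c, Category.assoc, hx]
        have hsq := isPullback_proj (G := GrpdSep.restrict G u) hb hp
        obtain ⟨r', hr₀, hr₁⟩ : ∃ r', r' ≫ GrpdSep.resT G u = v₀ ≫ pr ∧ r' ≫ GrpdSep.resS G u = v₁ ≫ pr :=
          ⟨_, hsq.lift_fst _ _ hv, hsq.lift_snd _ _ hv⟩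
        let ρ := r' ≫ GrpdSep.resArr G u
        have hρt : ρ ≫ G.t = (v₀ ≫ pullback.fst G.t u) ≫ G.t := by
          rw [Category.assoc, GrpdSep.resArr_t, ← Category.assoc, Category.assoc v₀, pullback.condition, ← Category.assoc]
          exact congrArg (· ≫ u) hr₀
        have hρs : ρ ≫ G.s = (v₁ ≫ pullback.fst G.t u) ≫ G.t := by
          rw [Category.assoc, GrpdSep.resArr_s, ← Category.assoc, Category.assoc v₁, pullback.condition, ← Category.assoc]
          exact congrArg (· ≫ u) hr₁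
        let r₀ := GrpdSep.mulPt G ((v₀ ≫ pullback.fst G.t u) ≫ G.i) (GrpdSep.mulPt G ρ (v₁ ≫ pullback.fst G.t u) hρs)
          (by rw [Category.assoc _ G.i, G.i_s, GrpdSep.mulPt_t, hρt])
        have e₀ : r₀ ≫ G.t = c ≫ x₀ := by
          rw [GrpdSep.mulPt_t, Category.assoc _ G.i, G.i_t, Category.assoc, ← hv₀]
        have e₁ : r₀ ≫ G.s = c ≫ x₁ := by
          rw [GrpdSep.mulPt_s, GrpdSep.mulPt_s, Category.assoc, ← hv₁]
        haveI : Surjective c₁ := MorphismProperty.pullback_fst _ _ hsurj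
        haveI : Surjective c₂ := MorphismProperty.pullback_fst _ _ hsurj
        haveI : QuasiCompact c₁ := MorphismProperty.pullback_fst _ _ inferInstance
        haveI : QuasiCompact c₂ := MorphismProperty.pullback_fst _ _ inferInstance
        haveI : Flat c₁ := MorphismProperty.pullback_fst _ _ inferInstance
        haveI : Flat c₂ := MorphismProperty.pullback_fst _ _ inferInstance
        have hc : SchDescent.IsCover (fun _ : PUnit.{u + 1} => c) := SchDescent.isCover_singleton c
        obtain ⟨r, hr, -⟩ := SchDescent.existsUnique_glue hc (fun _ => r₀) (fun _ _ X b₀ b₁ e => by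
          refine uniq_of_mono G _ _ ?_ ?_
          · exact (Category.assoc _ _ _).trans ((congrArg (b₀ ≫ ·) e₀).trans ((Category.assoc _ _ _).symm.trans
              ((congrArg (· ≫ x₀) e).trans ((Category.assoc _ _ _).trans ((congrArg (b₁ ≫ ·) e₀.symm).trans (Category.assoc _ _ _).symm)))))
          · exact (Category.assoc _ _ _).trans ((congrArg (b₀ ≫ ·) e₁).trans ((Category.assoc _ _ _).symm.trans
              ((congrArg (· ≫ x₁) e).trans ((Category.assoc _ _ _).trans ((congrArg (b₁ ≫ ·) e₁.symm).trans (Category.assoc _ _ _).symm))))))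
        refine ⟨r, SchDescent.hom_ext hc fun k => ?_, SchDescent.hom_ext hc fun k => ?_⟩
        · rw [← Category.assoc, hr k, e₀]
        · rw [← Category.assoc, hr k, e₁]
      exact ⟨⟨w⟩, ⟨PullbackCone.IsLimit.mk _ (fun c => (hex c.fst c.snd c.condition).choose)
        (fun c => (hex c.fst c.snd c.condition).choose_spec.1) (fun c => (hex c.fst c.snd c.condition).choose_spec.2)
        (fun c m h₁ h₂ => uniq_of_mono G _ _ (h₁.trans (hex c.fst c.snd c.condition).choose_spec.1.symm)
          (h₂.trans (hex c.fst c.snd c.condition).choose_spec.2.symm))⟩⟩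
    · haveI := hft
      haveI : Flat p' := (finLocFree_proj hb hp).2.1
      haveI : Flat (a ≫ p) := by rw [hap]; infer_instance
      exact FpqcDescent.flat_of_flat_comp a p

end Groth.Agent.GrpdQ
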